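import Groth.Agent.AVEuler.Conc
import Groth.Agent.Lib.AVAmple
import Groth.Agent.GGFF.Descent
import Groth.Agent.AmpleX.RelAffine
import Groth.Agent.S14124
import Groth.Agent.S7795

/-!
# Ample modules on abelian varieties over an arbitrary field

Vanishing, the dimension of the space of sections of the powers, and global generation of the square.
-/

noncomputable section

set_option autoImplicit false
set_option backward.isDefEq.respectTransparency false
set_option backward.isDefEq.respectTransparency.types false
set_option linter.style.haveILetI false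
set_option linter.unusedSectionVars false
set_option maxHeartbeats 1000000
set_option synthInstance.maxHeartbeats 400000

universe u

open CategoryTheory CategoryTheory.Limits AlgebraicGeometry MonoidalCategory CartesianMonoidalCategory
open scoped MonObj Groth.Agent.H23.PicMul

attribute [-instance] CategoryTheory.catToReflQuiver

namespace Groth.Agent.AVFin

open H23 AVEuler

variable {k : Type u} [Field k] (A : Over (Spec (CommRingCat.of k))) [IsProper A.hom]

/-- The structure map as an instance. -/
@[reducible] def overHom : A.left.Over (Spec (CommRingCat.of k)) := ⟨A.hom⟩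

attribute [local instance] overHom

instance : IsProper (A.left ↘ Spec (CommRingCat.of k)) := inferInstanceAs (IsProper A.hom)

/-- The dimension of the sections. -/
def h0 (L : A.left.Modules) : ℕ := Module.finrank k (Coh.HH A.left L 0)

variable [GrpObj A] [GeometricallyIntegral A.hom]

theorem isAmple_bar {L : A.left.Modules} (hL : CohB1.IsAmple L) :
    CohB1.IsAmple ((Scheme.Modules.pullback (barP A)).obj L) :=
  (AmpleX.isRelAmple_iff_isAmple (bar A).hom _).1
    (AmpleX.isRelAmple_baseChange A.hom barMap ((AmpleX.isRelAmple_iff_isAmple A.hom L).2 hL))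

theorem subsingleton_pos {L : A.left.Modules} (hL : CohB1.IsAmple L) {j : ℕ} (hj : 0 < j) :
    Subsingleton (Coh.HH A.left L j) := by
  haveI : Smooth (bar A).hom := S7795.result (bar A)
  haveI : GeometricallyConnected (bar A).hom := CubeAb.geometricallyConnected_of_integral (bar A).hom
  exact (CohBasic.subsingleton_HH_bc_iff k A.left (AlgebraicClosure k) (ProjUPX.isQCoh_of_isInvertible hL.1) j).1
    ((S14124.result (AlgebraicClosure k) (bar A) _ (isAmple_bar A hL)).1 j hj)

theorem nontrivial_zero {L : A.left.Modules} (hL : CohB1.IsAmple L) : Nontrivial (Coh.HH A.left L 0) := by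
  haveI : Smooth (bar A).hom := S7795.result (bar A)
  haveI : GeometricallyConnected (bar A).hom := CubeAb.geometricallyConnected_of_integral (bar A).hom
  refine not_subsingleton_iff_nontrivial.1 fun h => ?_
  exact not_subsingleton_iff_nontrivial.2 (S14124.result (AlgebraicClosure k) (bar A) _ (isAmple_bar A hL)).2
    ((CohBasic.subsingleton_HH_bc_iff k A.left (AlgebraicClosure k) (ProjUPX.isQCoh_of_isInvertible hL.1) 0).2 h)

theorem finite_HH {L : A.left.Modules} (hL : PicF.IsInvertible L) (j : ℕ) :
    Module.Finite k (Coh.HH A.left L j) := by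
  haveI : IsLocallyNoetherian A.left := LocallyOfFiniteType.isLocallyNoetherian A.hom
  exact S0002.result k A.left L (AmpleVan.isCoh_invertible hL) j

theorem euler_eq_h0 {L : A.left.Modules} (hL : CohB1.IsAmple L) :
    Curv2.euler k A.left L = h0 A L := by
  refine (finsum_eq_single _ 0 fun i hi => ?_).trans (by simp [h0])
  haveI := subsingleton_pos A hL (Nat.pos_of_ne_zero hi)
  simp [Module.finrank_zero_of_subsingleton]

theorem h0_pos {L : A.left.Modules} (hL : CohB1.IsAmple L) : 0 < h0 A L := by
  haveI := nontrivial_zero A hL
  haveI := finite_HH A hL.1 0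
  exact Module.finrank_pos

theorem h0_tensorPow {g : ℕ} (hg : topologicalKrullDim A.left = g) {L : A.left.Modules} (hL : CohB1.IsAmple L)
    {n : ℕ} (hn : 1 ≤ n) : h0 A (CohB1.tensorPow L n) = n ^ g * h0 A L := by
  have h := AVEuler.euler_tensorPow A hg hL.1 n
  rw [euler_eq_h0 A hL, euler_eq_h0 A (AmpleX.isAmple_tensorPow hL hn)] at h
  exact_mod_cast h

/-- the square of an ample module is generated by sections -/
theorem isGloballyGenerated_sq {L : A.left.Modules} (hL : CohB1.IsAmple L) :
    Curv2.IsGloballyGenerated (CohB1.tensorMod L L) := by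
  let K := AlgebraicClosure k
  let L' := (Scheme.Modules.pullback (barP A)).obj L
  have hL' := isAmple_bar A hL
  haveI := nontrivial_zero (bar A) hL'
  obtain ⟨x, hx⟩ := exists_ne (0 : Coh.HH (bar A).left L' 0)
  let s : Γ(L', ⊤) := Sheaf.H.equiv₀ (Coh.toAb L') isTerminalTop x
  have hs : s ≠ 0 := fun h => hx ((Sheaf.H.equiv₀ (Coh.toAb L') isTerminalTop).injective (h.trans (map_zero _).symm))
  have hgg := Groth.Agent.AVAmple.isGloballyGenerated_sq (A := bar A) hL'.1 hs
  obtain ⟨e⟩ := H23.PicMul.pull (barP A) L L
  haveI : Flat (barMap (k := k)) := Flat.SpecMap_iff.2 (RingHom.flat_algebraMap_iff.2 inferInstance)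
  haveI : Surjective (barMap (k := k)) :=
    ⟨fun x => ⟨IsLocalRing.closedPoint _, (inferInstance : Subsingleton (PrimeSpectrum k)).elim _ _⟩⟩
  haveI : Flat (barP A) := inferInstanceAs (Flat (pullback.fst A.hom barMap))
  haveI : Surjective (barP A) := inferInstanceAs (Surjective (pullback.fst A.hom barMap))
  exact GGFF.isGloballyGenerated_of_baseChange (algebraMap k K) A.hom (bar A).hom (barP A)
    (IsPullback.of_hasPullback A.hom barMap)
    (ProjUPX.isQCoh_of_isInvertible (InvX.isInvertible_tensorMod hL.1 hL.1))
    (AmpleX.isGloballyGenerated_of_iso e.symm hgg)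

end Groth.Agent.AVFin

end
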