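import Groth.Agent.AVFin.Rank
import Groth.Agent.AVRosati.Squares

/-!
# The centre of the endomorphism algebra over a finite field
-/

noncomputable section

set_option autoImplicit false
set_option backward.isDefEq.respectTransparency false
set_option backward.isDefEq.respectTransparency.types false
set_option linter.style.haveILetI false
set_option linter.unusedSectionVars false
set_option linter.overlappingInstances false
set_option maxHeartbeats 1000000
set_option synthInstance.maxHeartbeats 400000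

universe u

open CategoryTheory CategoryTheory.Limits AlgebraicGeometry MonoidalCategory CartesianMonoidalCategory
open scoped MonObj TensorProduct

attribute [-instance] CategoryTheory.catToReflQuiver

namespace Groth.Agent.AVFin

open Groth.Agent Groth.Agent.AVTate

variable {k : Type u} [Field k] {A B : Over (Spec (CommRingCat.of k))}
  [GrpObj A] [IsCommMonObj A] [IsProper A.hom] [GeometricallyIntegral A.hom]
  [GrpObj B] [IsCommMonObj B] [IsProper B.hom] [GeometricallyIntegral B.hom]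

/-- A homomorphism in the `ℚ_l`-span of others has a multiple in their `ℤ`-span. -/
theorem exists_nsmul_mem_span {l : ℕ} [Fact l.Prime] {Ω : Type u} [Field Ω] [Algebra k Ω] [IsAlgClosed Ω]
    (hl : (l : k) ≠ 0) [Module.Free ℤ_[l] (AbDual.TateMod B l (SGA7.pt (K := k) Ω))] {n : ℕ} (e : Fin n → EndAV.Hom A B)
    (y : EndAV.Hom A B)
    (hy : (EndAV.Hom.tateMap l (SGA7.pt (K := k) Ω) y).baseChange ℚ_[l] ∈ Submodule.span ℚ_[l]
      (Set.range fun i => (EndAV.Hom.tateMap l (SGA7.pt (K := k) Ω) (e i)).baseChange ℚ_[l])) :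
    ∃ N : ℕ, 0 < N ∧ N • y ∈ Submodule.span ℤ (Set.range e) := by
  haveI := (AVHomLib.hom_free (A := A) (B := B)).1
  haveI := (AVHomLib.hom_free (A := A) (B := B)).2
  by_contra hcon
  obtain ⟨m, b⟩ : Σ m, Module.Basis (Fin m) ℤ (Submodule.span ℤ (Set.range e)) := Submodule.basisOfPid
    (Module.Free.chooseBasis ℤ (EndAV.Hom A B)) (Submodule.span ℤ (Set.range e))
  have hind : LinearIndependent ℤ (Fin.cons y (fun i => (b i : EndAV.Hom A B)) : Fin (m + 1) → EndAV.Hom A B) := by
    refine Fintype.linearIndependent_iff.2 fun g hg => ?_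
    rw [Fin.sum_univ_succ] at hg
    simp only [Fin.cons_zero, Fin.cons_succ] at hg
    have hmem : g 0 • y ∈ Submodule.span ℤ (Set.range e) := by
      rw [eq_neg_of_add_eq_zero_left hg]
      exact neg_mem (sum_mem fun i _ => Submodule.smul_mem _ _ (b i).2)
    have h0 : g 0 = 0 := by
      by_contra h0
      refine hcon ⟨(g 0).natAbs, Int.natAbs_pos.2 h0, ?_⟩
      rw [← natCast_zsmul]
      rcases Int.natAbs_eq (g 0) with he | he
      · rwa [← he]
      · rw [show ((g 0).natAbs : ℤ) = -g 0 by omega, neg_smul]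
        exact neg_mem hmem
    rw [h0, zero_smul, zero_add] at hg
    have := Fintype.linearIndependent_iff.1 b.linearIndependent (fun i => g i.succ) (Subtype.ext (by simpa using hg))
    exact Fin.cases h0 this
  let bc : (AbDual.TateMod A l (SGA7.pt (K := k) Ω) →ₗ[ℤ_[l]] AbDual.TateMod B l (SGA7.pt (K := k) Ω)) →ₗ[ℤ_[l]]
      (Vt l Ω A →ₗ[ℚ_[l]] Vt l Ω B) := LinearMap.baseChangeHom ℤ_[l] ℚ_[l] _ _
  have h2 := (LinearIndependent.iff_fractionRing (R := ℤ_[l]) (K := ℚ_[l])).1
    ((AVHomLib.tateMap_linearIndependent Ω l hl _ hind).map' bc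
      (LinearMap.ker_eq_bot.2 fun f g h => baseChange_injective h))
  refine h2.notMem_span_image (x := (0 : Fin (m + 1))) (s := Set.range Fin.succ) (by simp) ?_
  refine (Submodule.span_le.2 ?_) hy
  rintro _ ⟨i, rfl⟩
  have h3 := congrArg (fun φ : EndAV.Hom A B => bc (EndAV.Hom.tateMap l (SGA7.pt (K := k) Ω) φ))
    (congrArg Subtype.val (b.sum_repr ⟨e i, Submodule.subset_span ⟨i, rfl⟩⟩))
  simp only [Submodule.coe_sum, Submodule.coe_smul, map_sum, map_zsmul] at h3
  show bc (EndAV.Hom.tateMap l (SGA7.pt (K := k) Ω) (e i)) ∈ _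
  rw [← h3]
  refine sum_mem fun j _ => zsmul_mem (Submodule.subset_span ?_) _
  exact ⟨j.succ, ⟨j, rfl⟩, by simp⟩

variable [Finite k] {πA : A ⟶ A} [IsMonHom πA]

omit [IsProper A.hom] [GeometricallyIntegral A.hom] [IsProper B.hom] [GeometricallyIntegral B.hom] in
/-- Frobenius commutes with every homomorphism. -/
theorem frob_natural (hπA : WeilLib.IsPowMap πA.left (Nat.card k)) {πB : B ⟶ B}
    (hπB : WeilLib.IsPowMap πB.left (Nat.card k)) (f : A ⟶ B) : πA ≫ f = f ≫ πB := by
  obtain ⟨F, hF, -, -, hnat⟩ := AVRosati.exists_frob (k := k)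
  rw [show πA = F A 1 from Over.OverMorphism.ext (AVRosati.isPowMap_unique hπA (pow_one (Nat.card k) ▸ hF A 1)),
    show πB = F B 1 from Over.OverMorphism.ext (AVRosati.isPowMap_unique hπB (pow_one (Nat.card k) ▸ hF B 1))]
  exact hnat B A f 1

theorem frob_commute (hπA : WeilLib.IsPowMap πA.left (Nat.card k)) (f : EndAV.End A) :
    Commute (EndAV.End.of πA) f :=
  EndAV.End.ext (frob_natural hπA hπA f.toHom).symm

/-- Central endomorphisms have multiples which are integral polynomials in Frobenius. -/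
theorem exists_nsmul_eq_aeval (hπA : WeilLib.IsPowMap πA.left (Nat.card k)) (f : EndAV.End A)
    (hf : ∀ g : EndAV.End A, Commute f g) :
    ∃ (N : ℕ) (d : ℕ) (a : Fin d → ℤ), 0 < N ∧ N • f = ∑ i, a i • EndAV.End.of πA ^ (i : ℕ) := by
  let Ω := AlgebraicClosure k
  haveI : Normal k Ω := IsAlgClosure.normal k Ω
  obtain ⟨l, hl, hlk⟩ : ∃ l : ℕ, l.Prime ∧ (l : k) ≠ 0 := by
    by_cases h2 : ((2 : ℕ) : k) = 0
    · refine ⟨3, Nat.prime_three, fun h3 => one_ne_zero (α := k) ?_⟩
      calc (1 : k) = ((3 : ℕ) : k) - ((2 : ℕ) : k) := by norm_num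
        _ = 0 := by rw [h3, h2, sub_zero]
    · exact ⟨2, Nat.prime_two, h2⟩
  haveI : Fact l.Prime := ⟨hl⟩
  haveI := (finite_tate (Ω := Ω) A hlk).1
  haveI := (finite_tate (Ω := Ω) A hlk).2
  let Φ : EndAV.End A →+* Module.End ℚ_[l] (Vt l Ω A) :=
    (Module.End.baseChangeHom ℤ_[l] ℚ_[l] _).toRingHom.comp (EndAV.End.tateRep l (SGA7.pt (K := k) Ω))
  set S := Φ (EndAV.End.of πA)
  have hmem : Φ f ∈ Algebra.adjoin ℚ_[l] {S} := by
    refine LinAlg.mem_adjoin_of_commute (isSemisimple_Vmap hπA) fun φ hφ => ?_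
    have hφ' : φ ∈ homSpanQ A A l Ω := by
      rw [homSpanQ_eq hπA hπA hlk]
      exact hφ
    clear hφ
    induction hφ' using Submodule.span_induction with
    | mem x hx =>
      obtain ⟨g, hg, rfl⟩ := hx
      show Φ (EndAV.End.of g) * Φ f = Φ f * Φ (EndAV.End.of g)
      rw [← map_mul, ← map_mul, (hf (EndAV.End.of g)).eq]
    | zero => rw [LinearMap.zero_comp, LinearMap.comp_zero]
    | add x y _ _ hx hy => rw [LinearMap.add_comp, LinearMap.comp_add, hx, hy]
    | smul c x _ hx => rw [LinearMap.smul_comp, LinearMap.comp_smul, hx]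
  rw [Algebra.adjoin_singleton_eq_range_aeval] at hmem
  obtain ⟨p, hp⟩ := hmem
  set d := S.charpoly.natDegree + 1
  obtain ⟨N, hN, hNf⟩ := exists_nsmul_mem_span (Ω := Ω) hlk (fun i : Fin d => (EndAV.End.of πA ^ (i : ℕ) : EndAV.End A)) f (by
    show Φ f ∈ Submodule.span ℚ_[l] (Set.range fun i : Fin d => Φ (EndAV.End.of πA ^ (i : ℕ)))
    have hdeg : (p %ₘ S.charpoly).natDegree < d :=
      (Polynomial.natDegree_modByMonic_le p (LinearMap.charpoly_monic S)).trans_lt (Nat.lt_succ_self _)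
    rw [← hp]
    show Polynomial.aeval S p ∈ _
    rw [← Polynomial.modByMonic_add_div p (S.charpoly), map_add, map_mul, LinearMap.aeval_self_charpoly, zero_mul, add_zero,
      Polynomial.aeval_eq_sum_range' hdeg]
    refine sum_mem fun i hi => Submodule.smul_mem _ _ (Submodule.subset_span ⟨⟨i, Finset.mem_range.1 hi⟩, ?_⟩)
    exact map_pow Φ _ _)
  obtain ⟨a, ha⟩ := (Submodule.mem_span_range_iff_exists_fun ℤ).1 hNf
  exact ⟨N, d, a, hN, ha.symm⟩

/-- The centre of `End⁰` is `ℚ[π]`. -/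
theorem center_eq (hπA : WeilLib.IsPowMap πA.left (Nat.card k)) :
    Subalgebra.center ℚ (EndAV.End0 A) = EndAV.QAdj (EndAV.End.of πA) := by
  refine le_antisymm (fun y hy => ?_) (Algebra.adjoin_le ?_)
  · obtain ⟨M, f, hM, hMf⟩ : ∃ (M : ℕ) (f : EndAV.End A), 0 < M ∧ (M : ℚ) • y = EndAV.toEnd0 f := by
      clear hy
      induction y using TensorProduct.induction_on with
      | zero => exact ⟨1, 0, one_pos, by rw [smul_zero, map_zero]⟩
      | tmul q g =>
        refine ⟨q.den, q.num • g, q.den_pos, ?_⟩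
        show (q.den : ℚ) • (q ⊗ₜ[ℤ] g) = (1 : ℚ) ⊗ₜ[ℤ] (q.num • g)
        rw [TensorProduct.smul_tmul', TensorProduct.tmul_smul, TensorProduct.smul_tmul', smul_eq_mul, Rat.den_mul_eq_num,
          zsmul_eq_mul, mul_one]
      | add a b ha hb =>
        obtain ⟨M, f, hM, hf⟩ := ha
        obtain ⟨N, g, hN, hg⟩ := hb
        refine ⟨M * N, (N : EndAV.End A) * f + (M : EndAV.End A) * g, Nat.mul_pos hM hN, ?_⟩
        rw [map_add, map_mul, map_mul, map_natCast, map_natCast, ← hf, ← hg, ← nsmul_eq_mul, ← nsmul_eq_mul,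
          ← Nat.cast_smul_eq_nsmul ℚ N, ← Nat.cast_smul_eq_nsmul ℚ M, smul_smul, smul_smul, smul_add, Nat.cast_mul,
          mul_comm (N : ℚ)]
    have hfc : ∀ g : EndAV.End A, Commute f g := fun g => AVRosati.toEnd0_injective (by
      rw [map_mul, map_mul, ← hMf, smul_mul_assoc, mul_smul_comm, Subalgebra.mem_center_iff.1 hy])
    obtain ⟨N, d, a, hN, hNf⟩ := exists_nsmul_eq_aeval hπA f hfc
    have h1 : EndAV.toEnd0 (N • f) ∈ EndAV.QAdj (EndAV.End.of πA) := by
      rw [hNf, map_sum]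
      refine sum_mem fun i _ => ?_
      rw [map_zsmul, map_pow]
      exact zsmul_mem (pow_mem (Algebra.self_mem_adjoin_singleton ℚ _) _) _
    rw [map_nsmul, ← hMf, ← Nat.cast_smul_eq_nsmul ℚ, smul_smul] at h1
    have h2 := Subalgebra.smul_mem _ h1 (((N : ℚ) * (M : ℚ))⁻¹)
    rwa [inv_smul_smul₀ (mul_ne_zero (Nat.cast_ne_zero.2 hN.ne') (Nat.cast_ne_zero.2 hM.ne'))] at h2
  · rintro _ (rfl : _ = _)
    refine Subalgebra.mem_center_iff.2 fun y => ?_
    induction y using TensorProduct.induction_on with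
    | zero => rw [zero_mul, mul_zero]
    | tmul q g =>
      show (q ⊗ₜ[ℤ] g) * ((1 : ℚ) ⊗ₜ[ℤ] EndAV.End.of πA) = ((1 : ℚ) ⊗ₜ[ℤ] EndAV.End.of πA) * (q ⊗ₜ[ℤ] g)
      rw [Algebra.TensorProduct.tmul_mul_tmul, Algebra.TensorProduct.tmul_mul_tmul, mul_one, one_mul,
        (frob_commute hπA g).eq]
    | add a b ha hb => rw [add_mul, mul_add, ha, hb]

/-- `End⁰ = ℚ[π]` iff `End` is commutative. -/
theorem qAdj_eq_top_iff (hπA : WeilLib.IsPowMap πA.left (Nat.card k)) :
    EndAV.QAdj (EndAV.End.of πA) = ⊤ ↔ ∀ a b : EndAV.End A, a * b = b * a := by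
  rw [← center_eq hπA]
  constructor
  · intro h a b
    have ha : EndAV.toEnd0 a ∈ Subalgebra.center ℚ (EndAV.End0 A) := h ▸ Algebra.mem_top
    exact AVRosati.toEnd0_injective (by rw [map_mul, map_mul, Subalgebra.mem_center_iff.1 ha])
  · intro h
    refine eq_top_iff.2 fun y hy => Subalgebra.mem_center_iff.2 fun z => ?_
    clear hy
    induction y using TensorProduct.induction_on with
    | zero => rw [zero_mul, mul_zero]
    | add a b ha hb => rw [mul_add, add_mul, ha, hb]
    | tmul q g =>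
      induction z using TensorProduct.induction_on with
      | zero => rw [zero_mul, mul_zero]
      | add a b ha hb => rw [mul_add, add_mul, ha, hb]
      | tmul q' g' => rw [Algebra.TensorProduct.tmul_mul_tmul, Algebra.TensorProduct.tmul_mul_tmul, mul_comm q', h g']

end Groth.Agent.AVFin

end
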