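import Groth.Agent.Lib.RegEpiPn
import Groth.Agent.ResolveX.MVOne
import Groth.Agent.Big.Semiample
import Groth.Agent.AmpleDev.Basic
import Groth.Agent.Snapper.DimVanish
import Groth.Agent.PicGlue.AmpleLocusAffine
import Groth.Agent.ClosedImmPn.Basic
import Groth.Agent.QCoh.Support
import Groth.Agent.AmpleX.Sect
import Groth.Agent.S3572
import Groth.Agent.CurveCohLib.Proper
import Groth.Agent.PnCoh.Finite.Projective

/-!
# Functions on the loci of generating sections

For a generated ample invertible module with vanishing cohomology, the functions on the locus of a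
coordinate are generated by ratios of sections of a fixed power.
-/

noncomputable section

set_option autoImplicit false
set_option backward.isDefEq.respectTransparency false
set_option backward.isDefEq.respectTransparency.types false
set_option linter.style.haveILetI false
set_option linter.unusedSectionVars false
set_option maxHeartbeats 1000000
set_option synthInstance.maxHeartbeats 400000

universe u

open CategoryTheory CategoryTheory.Limits AlgebraicGeometry TopologicalSpace Opposite
open scoped Groth.Agent.H23.PicMul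

namespace Groth.Agent.AVFin

open Groth.Agent

section Spanning

variable (k : Type u) [Field k] {X : Scheme.{u}} [X.Over (Spec (CommRingCat.of k))]

theorem one_smul_hom {M : X.Modules} (a : k) (φ : Coh.structureModule X ⟶ M) :
    RegEpi.one (a • φ) = ProjUP.toGlobal (X ↘ Spec (CommRingCat.of k)) a • RegEpi.one φ := by
  show φ.app ⊤ ((show Γ(X, ⊤) from Coh.resTop X (Opposite.op ⊤) (ProjUP.toGlobal (X ↘ Spec (CommRingCat.of k)) a)) • (1 : Γ(X, ⊤))) = _
  refine (Scheme.Modules.Hom.app_smul φ _ _).trans ?_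
  congr 1
  exact ConcreteCategory.congr_hom (X.presheaf.map_id (Opposite.op (⊤ : X.Opens))) _

/-- As many sections as the dimension span. -/
theorem exists_spanning (M : X.Modules) [Module.Finite k (Coh.HH X M 0)] :
    ∃ v : Fin (Module.finrank k (Coh.HH X M 0)) → Γ(M, ⊤), ∀ t : Γ(M, ⊤),
      ∃ c : Fin (Module.finrank k (Coh.HH X M 0)) → k,
        t = ∑ l, ProjUP.toGlobal (X ↘ Spec (CommRingCat.of k)) (c l) • v l := by
  let e := LinearEquiv.ofBijective _ (RegEpi.evalOneLin_bijective k M)
  let B := (Module.finBasis k (Coh.HH X M 0)).map e.symm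
  refine ⟨fun l => RegEpi.one (B l), fun t => ⟨fun l => B.repr (InvX.ofSect t) l, ?_⟩⟩
  let o : (Coh.structureModule X ⟶ M) →+ Γ(M, ⊤) :=
    AddMonoidHom.mk' RegEpi.one fun φ ψ => rfl
  calc t = o (InvX.ofSect t) := (RegEpi.one_ofSect t).symm
    _ = o (∑ l, B.repr (InvX.ofSect t) l • B l) := by rw [B.sum_repr]
    _ = _ := by rw [map_sum]; exact Finset.sum_congr rfl fun l _ => one_smul_hom k _ _

/-- Spanning sections of a globally generated invertible module generate it. -/
theorem generatedBy_of_spanning {M : X.Modules} (hgg : Curv2.IsGloballyGenerated M)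
    {ι : Type*} [Fintype ι] (v : ι → Γ(M, ⊤))
    (hv : ∀ t : Γ(M, ⊤), ∃ c : ι → k, t = ∑ l, ProjUP.toGlobal (X ↘ Spec (CommRingCat.of k)) (c l) • v l) :
    ProjUP.GeneratedBy M v := by
  obtain ⟨J, s, hs⟩ := ResolveX.exists_generatedBy hgg
  intro x
  refine top_le_iff.1 ((hs x).ge.trans (Submodule.span_le.2 ?_))
  rintro _ ⟨i, rfl⟩
  obtain ⟨c, hc⟩ := hv (s i)
  show (M.presheaf.germ ⊤ x trivial).hom (s i) ∈ _
  rw [hc, map_sum]
  refine Submodule.sum_mem _ fun l _ => ?_
  rw [QCoh.germ_smul']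
  exact Submodule.smul_mem _ _ (Submodule.subset_span ⟨l, rfl⟩)

end Spanning

theorem mul_pow_cancel {R : Type*} [CommMonoid R] (a b : R) {m j q : ℕ} (hm : m = j + q) (h : b * a ^ q = 1) :
    a ^ j = a ^ m * b := by
  rw [hm, pow_add, _root_.mul_assoc, _root_.mul_comm (a ^ q), h, _root_.mul_one]

variable {k : Type u} [Field k] {n : ℕ}

local notation "PP" => CohB1.ProjSpace n k

/-- The regularity of the direct image of a power. -/
theorem isGloballyGenerated_push {X : Scheme.{u}} [X.Over (Spec (CommRingCat.of k))]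
    [IsProper (X ↘ Spec (CommRingCat.of k))]
    (φ : X ⟶ PP) [IsFinite φ] (hφ : φ ≫ CohB1.ProjSpace.toSpec n k = X ↘ Spec (CommRingCat.of k))
    {M : X.Modules} (hM : PicF.IsInvertible M) (τ : ClosedImmPn.M φ ≅ M)
    {G : ℕ} (hdim : topologicalKrullDim X ≤ G)
    (hvan : ∀ i j : ℕ, 0 < i → 0 < j → Subsingleton (Coh.HH X (CohB1.tensorPow M j) i)) :
    Curv2.IsGloballyGenerated ((Coh.push φ).obj (CohB1.tensorPow M (G + 1))) := by
  letI : (Proj (CohB1.polyGrading n k)).Over (Spec (CommRingCat.of k)) := ⟨CohB1.ProjSpace.toSpec n k⟩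
  haveI : IsNoetherian (Proj (CohB1.polyGrading n k)) := Proj16.isNoetherian_proj _
  haveI : IsNoetherian X := CurveCohLib.isNoetherian_of_proper (k := k)
  haveI : X.IsSeparated := AmpleVan.isSeparated_of_proper (A := k) (X := X)
  let N := CohB1.tensorPow M (G + 1)
  have hN : PicF.IsInvertible N := InvX.isInvertible_tensorPow hM _
  have hF : Coh.IsCoh ((Coh.push φ).obj N) :=
    QCoh.isCoh_pushforward_finite φ (AmpleVan.isCoh_invertible hN)
  have htw : ∀ d : ℤ, PicF.IsInvertible (Twist.twist (CohB1.polyGrading n k) d) := fun d =>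
    PnCoh.Finite.isInvertible_twist (ProjRegular.coords k n) ProjRegular.coords_mem ProjRegular.coords_cover d
  have hinv : ∀ q : ℕ, PicF.pullCl φ (PicF.cl (Twist.twist (CohB1.polyGrading n k) (-(q : ℤ)))) * PicF.cl M ^ q = 1 := by
    intro q
    obtain ⟨a⟩ := PnCoh.Finite.twist_tensorPow_iso (ProjRegular.coords k n) ProjRegular.coords_mem ProjRegular.coords_cover q
    obtain ⟨b⟩ := PnCoh.Finite.twist_tensor_iso (ProjRegular.coords k n) ProjRegular.coords_mem ProjRegular.coords_cover
      (-(q : ℤ)) (q : ℤ)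
    obtain ⟨u⟩ := RegEpi.unitIso (k := k) (n := n)
    have h1 : PicF.cl (Twist.twist (CohB1.polyGrading n k) (-(q : ℤ))) *
        PicF.cl (Twist.twist (CohB1.polyGrading n k) 1) ^ q = 1 := by
      rw [← H23.PicMul.cl_tensorPow, ← H23.PicMul.cl_eq_iff.2 ⟨a⟩, ← H23.PicMul.cl_tensor, H23.PicMul.one_def]
      exact H23.PicMul.cl_eq_iff.2 ⟨b ≪≫ eqToIso (by rw [neg_add_cancel]) ≪≫ u.symm⟩
    have h2 : PicF.pullCl φ (PicF.cl (Twist.twist (CohB1.polyGrading n k) 1)) = PicF.cl M :=
      H23.PicMul.cl_eq_iff.2 ⟨τ⟩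
    have h3 := congrArg (PicF.pullCl φ) h1
    rw [H23.PicMul.pullCl_mul, H23.PicMul.pullCl_pow, h2, H23.PicMul.pullCl_one] at h3
    exact h3
  have hR : ProjRegular.Reg0 (𝒜 := CohB1.polyGrading n k) ((Coh.push φ).obj N) := by
    intro q hq
    obtain ⟨e⟩ := AmpleDev.push_tensor_iso φ (htw (-(q : ℤ))) N
    refine QCoh.subsingleton_HH_of_iso e.symm q ?_
    have hN' : PicF.IsInvertible
        (CohB1.tensorMod N ((Scheme.Modules.pullback φ).obj (Twist.twist (CohB1.polyGrading n k) (-(q : ℤ))))) :=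
      InvX.isInvertible_tensorMod hN (PicClLib.isInvertible_pullback φ (htw _))
    obtain ⟨a⟩ := PnCoh.exists_linearEquiv_push k φ hφ (ProjUPX.isQCoh_of_isInvertible hN') q
    refine a.toEquiv.subsingleton_congr.1 ?_
    rcases Nat.lt_or_ge G q with hGq | hGq
    · exact Snapper.subsingleton_HH_of_dim_le hdim (ProjUPX.isQCoh_of_isInvertible hN') hGq
    obtain ⟨j, hj⟩ := Nat.exists_eq_add_of_le (show q + 1 ≤ G + 1 by omega)
    obtain ⟨ψ⟩ := H23.PicMul.cl_eq_iff.1 (show PicF.cl (CohB1.tensorPow M (j + 1)) = PicF.cl (CohB1.tensorMod N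
        ((Scheme.Modules.pullback φ).obj (Twist.twist (CohB1.polyGrading n k) (-(q : ℤ))))) by
      rw [H23.PicMul.cl_tensor, H23.PicMul.cl_tensorPow, H23.PicMul.cl_tensorPow]
      refine Eq.trans ?_ (congrArg (PicF.cl M ^ (G + 1) * ·)
        (rfl : PicF.pullCl φ (PicF.cl (Twist.twist (CohB1.polyGrading n k) (-(q : ℤ)))) = _))
      exact mul_pow_cancel _ _ (show G + 1 = (j + 1) + q by omega) (hinv q))
    exact QCoh.subsingleton_HH_of_iso ψ q (hvan q (j + 1) hq j.succ_pos)
  exact ProjRegular.isGloballyGenerated ProjRegular.coords_mem ProjRegular.coords_cover ProjRegular.coords_noetherian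
    (PnCoh.Finite.good_of_isCoh ProjRegular.coords_mem hF) hR

end Groth.Agent.AVFin

end
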