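import Groth.Agent.AVFin.Chart
import Groth.Agent.Lib.AmpleEmbed
import Groth.Agent.QCoh.Stalk
import Groth.Agent.H9Twist.Embed

/-!
# A bounded closed immersion from a finite map to projective space

If the direct image of a power of the pulled back `O(1)` is generated by its sections, the powers of the
coordinates together with a basis of the sections of that power give a closed immersion.
-/

noncomputable section

set_option autoImplicit false
set_option backward.isDefEq.respectTransparency false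
set_option backward.isDefEq.respectTransparency.types false
set_option linter.style.haveILetI false
set_option linter.unusedSectionVars false
set_option maxHeartbeats 1000000
set_option synthInstance.maxHeartbeats 400000

universe u

open CategoryTheory CategoryTheory.Limits AlgebraicGeometry TopologicalSpace Opposite
open scoped Groth.Agent.H23.PicMul

namespace Groth.Agent.AVFin

open Groth.Agent Groth.Agent.InvX Groth.Agent.H23

/-- On an affine open, generating sections span the sections of a quasi-coherent module. -/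
theorem span_res_eq_top {X : Scheme.{u}} {M : X.Modules} (hM : Coh.IsQCoh M) {U : X.Opens} (hU : IsAffineOpen U)
    {κ : Type*} (v : κ → Γ(M, ⊤)) (hv : ProjUP.GeneratedBy M v) :
    Submodule.span Γ(X, U) (Set.range fun i => AModX.res M (le_top : U ≤ ⊤) (v i)) = ⊤ := by
  set N := Submodule.span Γ(X, U) (Set.range fun i => AModX.res M (le_top : U ≤ ⊤) (v i)) with hN
  refine eq_top_iff.2 fun z _ => ?_
  by_contra hz
  let I : Ideal Γ(X, U) := N.comap (LinearMap.toSpanSingleton _ _ z)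
  have hI : I ≠ ⊤ := fun h => hz (by
    have h1 : (1 : Γ(X, U)) ∈ I := h ▸ trivial
    simpa [I] using h1)
  obtain ⟨P, hP, hIP⟩ := Ideal.exists_le_maximal I hI
  obtain ⟨y, hy, hyP⟩ := QCoh.exists_point hU ⟨P, hP.isPrime⟩
  letI := QCoh.stalkAlg (X := X) hy
  letI := QCoh.stalkModule M hy
  haveI := QCoh.isLocalization_stalk' hU hy
  haveI := QCoh.isLocalizedModule_germLin hM hU hy
  have hS : (hU.primeIdealOf ⟨y, hy⟩).asIdeal = P := congrArg PrimeSpectrum.asIdeal hyP
  have key : ∀ w : M.presheaf.stalk y, ∃ s : (hU.primeIdealOf ⟨y, hy⟩).asIdeal.primeCompl, ∃ n ∈ N,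
      X.presheaf.germ U y hy s.1 • w = M.presheaf.germ U y hy n := by
    intro w
    have hw : w ∈ (⊤ : Submodule (X.presheaf.stalk y) (M.presheaf.stalk y)) := trivial
    rw [← hv y] at hw
    induction hw using Submodule.span_induction with
    | mem x hx =>
      obtain ⟨i, rfl⟩ := hx
      refine ⟨1, AModX.res M (le_top : U ≤ ⊤) (v i), Submodule.subset_span ⟨i, rfl⟩, ?_⟩
      rw [OneMemClass.coe_one, map_one, one_smul]
      exact (InvX.germ_res' (le_top : U ≤ ⊤) hy (v i)).symm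
    | zero => exact ⟨1, 0, N.zero_mem, by rw [smul_zero, map_zero]⟩
    | add x x' _ _ hx hx' =>
      obtain ⟨s, n, hn, e⟩ := hx
      obtain ⟨s', n', hn', e'⟩ := hx'
      refine ⟨s * s', s'.1 • n + s.1 • n', N.add_mem (N.smul_mem _ hn) (N.smul_mem _ hn'), ?_⟩
      rw [map_add, QCoh.germ_smul', QCoh.germ_smul', ← e, ← e', Submonoid.coe_mul, map_mul, smul_add, smul_smul, smul_smul]
      exact congrArg₂ (· + ·) (congrArg (· • x) (_root_.mul_comm _ _)) rfl
    | smul c x _ hx =>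
      obtain ⟨s, n, hn, e⟩ := hx
      obtain ⟨⟨a, s'⟩, hs'⟩ := IsLocalization.surj (hU.primeIdealOf ⟨y, hy⟩).asIdeal.primeCompl c
      refine ⟨s' * s, a • n, N.smul_mem _ hn, ?_⟩
      have h1 : X.presheaf.germ U y hy (s' : Γ(X, U)) * c = X.presheaf.germ U y hy a :=
        (_root_.mul_comm _ _).trans hs'
      rw [QCoh.germ_smul', ← e, Submonoid.coe_mul, map_mul, smul_smul, smul_smul, ← h1,
        mul_right_comm]
  obtain ⟨s, n, hn, e⟩ := key (M.presheaf.germ U y hy z)
  rw [← QCoh.germ_smul'] at e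
  obtain ⟨t, ht⟩ := IsLocalizedModule.exists_of_eq (S := (hU.primeIdealOf ⟨y, hy⟩).asIdeal.primeCompl)
    (f := QCoh.germLin M hy) (x₁ := s.1 • z) (x₂ := n) e
  have hmem : (t * s).1 ∈ P := hIP (show LinearMap.toSpanSingleton _ _ z (t * s).1 ∈ N by
    rw [LinearMap.toSpanSingleton_apply, Submonoid.coe_mul, mul_smul]
    exact ht ▸ N.smul_mem _ hn)
  exact (t * s).2 (hS.symm ▸ hmem)

variable {k : Type u} [Field k] {n : ℕ} {X : Scheme.{u}} (pX : X ⟶ Spec (CommRingCat.of k))
  (φ : X ⟶ CohB1.ProjSpace n k) (hφ : φ ≫ CohB1.ProjSpace.toSpec n k = pX)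

include hφ in
/-- Ratios of sections of a power to a power of a coordinate, with the constants, generate the functions. -/
theorem subring_eq_top [IsFinite φ] {m : ℕ}
    (hgg : Curv2.IsGloballyGenerated ((Coh.push φ).obj (CohB1.tensorPow (ClosedImmPn.M φ) (m + 1))))
    (hq : Coh.IsQCoh ((Coh.push φ).obj (CohB1.tensorPow (ClosedImmPn.M φ) (m + 1))))
    (j : Fin (n + 1)) (S : Subring Γ(X, φ ⁻¹ᵁ ClosedImmPn.D n k j))
    (hc : ∀ c : k, AModX.resR (le_top : φ ⁻¹ᵁ ClosedImmPn.D n k j ≤ ⊤) (ProjUP.toGlobal pX c) ∈ S)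
    (hb : ∀ (t : Γ(CohB1.tensorPow (ClosedImmPn.M φ) (m + 1), ⊤)) (b : Γ(X, φ ⁻¹ᵁ ClosedImmPn.D n k j)),
      AModX.res _ (le_top : φ ⁻¹ᵁ ClosedImmPn.D n k j ≤ ⊤) t =
        b • AmpleX.powElt (ClosedImmPn.frame φ j) (m + 1) → b ∈ S) : S = ⊤ := by
  let N := CohB1.tensorPow (ClosedImmPn.M φ) (m + 1)
  let D := ClosedImmPn.D n k j
  let f := ClosedImmPn.frame φ j
  have hf : IsFrame (AmpleX.powElt f (m + 1)) := AmpleX.isFrame_powElt (ClosedImmPn.isFrame_frame φ j) _
  have hchart : ∀ a : Γ(CohB1.ProjSpace n k, D), φ.app D a ∈ S := by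
    intro a
    refine ClosedImmPn.chart_induction n k j (P := fun a => φ.app D a ∈ S) (fun c => ?_) (fun l => ?_)
      (fun a b ha hb => by simpa only [map_add] using S.add_mem ha hb)
      (fun a b ha hb => by simpa only [map_mul] using S.mul_mem ha hb) a
    · exact ClosedImmPn.app_cst pX φ hφ j c ▸ hc c
    · refine hb (InvX.tmul (AmpleX.powElt (ClosedImmPn.σ φ j) m) (ClosedImmPn.σ φ l)) _ ?_
      refine (InvX.res_tmul (M := CohB1.tensorPow (ClosedImmPn.M φ) m) (le_top : φ ⁻¹ᵁ D ≤ ⊤) _ _).trans ?_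
      rw [AmpleX.res_powElt, ClosedImmPn.res_σ φ j l]
      exact InvX.tmul_smul_right _ _ _
  obtain ⟨κ, v, hv⟩ := ResolveX.exists_generatedBy hgg
  have hspan := span_res_eq_top hq (Proj.isAffineOpen_basicOpen _ _ (ProjPt.X_mem j) one_pos : IsAffineOpen D) v hv
  refine top_le_iff.1 fun b _ => ?_
  have h : ∀ w : Γ((Coh.push φ).obj N, D), ∀ c : Γ(X, φ ⁻¹ᵁ D),
      (show Γ(N, φ ⁻¹ᵁ D) from w) = c • AmpleX.powElt f (m + 1) → c ∈ S := by
    intro w
    have hw : w ∈ (⊤ : Submodule Γ(CohB1.ProjSpace n k, D) Γ((Coh.push φ).obj N, D)) := trivial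
    rw [← hspan] at hw
    induction hw using Submodule.span_induction with
    | mem x hx =>
      obtain ⟨i, rfl⟩ := hx
      exact fun c hc' => hb (show Γ(N, ⊤) from v i) c hc'
    | zero =>
      intro c hc'
      have h0 : c = 0 := hf.coord_unique le_rfl (by
        rw [AModX.res_self, zero_smul]
        exact hc'.symm)
      exact h0 ▸ S.zero_mem
    | add x x' _ _ hx hx' =>
      intro c hc'
      obtain ⟨c₁, h₁⟩ := hf.exists_coord le_rfl (show Γ(N, φ ⁻¹ᵁ D) from x)
      obtain ⟨c₂, h₂⟩ := hf.exists_coord le_rfl (show Γ(N, φ ⁻¹ᵁ D) from x')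
      rw [AModX.res_self] at h₁ h₂
      have h0 : c = c₁ + c₂ := hf.coord_unique le_rfl (by
        rw [AModX.res_self, add_smul, ← h₁, ← h₂, ← hc'])
      exact h0 ▸ S.add_mem (hx c₁ h₁) (hx' c₂ h₂)
    | smul a x _ hx =>
      intro c hc'
      obtain ⟨c₁, h₁⟩ := hf.exists_coord le_rfl (show Γ(N, φ ⁻¹ᵁ D) from x)
      rw [AModX.res_self] at h₁
      have h0 : c = φ.app D a * c₁ := hf.coord_unique le_rfl (by
        rw [AModX.res_self, mul_smul, ← h₁, ← hc']
        rfl)
      exact h0 ▸ S.mul_mem (hchart a) (hx c₁ h₁)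
  exact h (show Γ(N, φ ⁻¹ᵁ D) from b • AmpleX.powElt f (m + 1)) b rfl

include hφ in
/-- The closed immersion by the powers of the coordinates and a spanning family of the sections of the power. -/
theorem exists_closedImmersion_pow_finite [IsProper pX] [IsFinite φ] {m d : ℕ}
    (hgg : Curv2.IsGloballyGenerated ((Coh.push φ).obj (CohB1.tensorPow (ClosedImmPn.M φ) (m + 1))))
    (hq : Coh.IsQCoh ((Coh.push φ).obj (CohB1.tensorPow (ClosedImmPn.M φ) (m + 1))))
    (hinv : PicF.IsInvertible (ClosedImmPn.M φ))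
    (v : Fin d → Γ(CohB1.tensorPow (ClosedImmPn.M φ) (m + 1), ⊤))
    (hv : ∀ t : Γ(CohB1.tensorPow (ClosedImmPn.M φ) (m + 1), ⊤),
      ∃ c : Fin d → k, t = ∑ l, ProjUP.toGlobal pX (c l) • v l) :
    ∃ r : X ⟶ CohB1.ProjSpace (n + d) k, IsClosedImmersion r ∧ r ≫ CohB1.ProjSpace.toSpec (n + d) k = pX ∧
      Nonempty ((Scheme.Modules.pullback r).obj (Twist.twistProjSpace (n + d) k 1) ≅
        CohB1.tensorPow (ClosedImmPn.M φ) (m + 1)) := by
  classical
  let N := CohB1.tensorPow (ClosedImmPn.M φ) (m + 1)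
  have hN : PicF.IsInvertible N := InvX.isInvertible_tensorPow hinv _
  let e : Fin (n + d + 1) ≃ Fin (n + 1) ⊕ Fin d := (finCongr (by omega)).trans finSumFinEquiv.symm
  let P : Fin (n + 1) → Γ(N, ⊤) := fun j => AmpleX.powElt (ClosedImmPn.σ φ j) (m + 1)
  let s : Fin (n + d + 1) → Γ(N, ⊤) := fun i => Sum.elim P v (e i)
  let U : Fin (n + 1) → X.Opens := fun j => φ ⁻¹ᵁ ClosedImmPn.D n k j
  have hfr : ∀ j, IsFrame (AmpleX.powElt (ClosedImmPn.frame φ j) (m + 1)) := fun j =>
    AmpleX.isFrame_powElt (ClosedImmPn.isFrame_frame φ j) _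
  have hres : ∀ j, AModX.res N (le_top : U j ≤ ⊤) (P j) = AmpleX.powElt (ClosedImmPn.frame φ j) (m + 1) :=
    fun j => AmpleX.res_powElt (le_top : U j ≤ ⊤) _ (m + 1)
  have hA : ∀ {L : X.Modules} (a : Γ(L, ⊤)), H23.TrivBasic.locus a = AmpleX.locus a := fun a =>
    (AmpleX.genLocus_eq_locus _).trans (congrArg AmpleX.locus (InvX.one_ofSect a))
  have hloc : ∀ j, H23.TrivBasic.locus (P j) = U j := fun j =>
    (((hA (P j)).trans (AmpleX.locus_powElt hinv (ClosedImmPn.σ φ j) m)).trans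
      ((ClosedImmPn.preimage_D φ j).trans (hA _)).symm :)
  have hcov : ∀ x : X, ∃ j, x ∈ U j := fun x => ClosedImmPn.exists_mem_D (φ x)
  have hs : ProjUP.GeneratedBy N s := fun x => by
    obtain ⟨j, hj⟩ := hcov x
    refine eq_top_iff.2 fun z _ => ?_
    obtain ⟨c, hc⟩ := ((hfr j).germ_bijective hj).2 z
    rw [← hc]
    refine Submodule.smul_mem _ c (Submodule.subset_span ⟨e.symm (Sum.inl j), ?_⟩)
    show (N.presheaf.germ ⊤ x trivial).hom (Sum.elim P v (e (e.symm _))) = _
    rw [Equiv.apply_symm_apply, ← hres]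
    exact (InvX.germ_res' (le_top : U j ≤ ⊤) hj (P j)).symm
  obtain ⟨r, hr, τ, hτ⟩ := S3572.result (n + d) pX N hN s hs
  refine ⟨r, ?_, hr, ⟨τ⟩⟩
  haveI hp : IsProper (CohB1.ProjSpace.toSpec (n + d) k) := PnCoh.Chow.isProper_toSpec (n + d) k
  haveI : IsProper r := by
    haveI : IsProper (r ≫ CohB1.ProjSpace.toSpec (n + d) k) := hr ▸ ‹IsProper pX›
    exact IsProper.of_comp r (CohB1.ProjSpace.toSpec (n + d) k)
  let D : Fin (n + 1) → (CohB1.ProjSpace (n + d) k).Opens := fun j =>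
    Proj.basicOpen (CohB1.polyGrading (n + d) k) (MvPolynomial.X (e.symm (Sum.inl j)))
  have hτP : ∀ j, τ.hom.app ⊤ (ProjUP.pullSec r _ (ProjUP.coord (n + d) k (e.symm (Sum.inl j)))) = P j := fun j => by
    rw [hτ]; show Sum.elim P v _ = _; rw [Equiv.apply_symm_apply]; rfl
  have hτv : ∀ l, τ.hom.app ⊤ (ProjUP.pullSec r _ (ProjUP.coord (n + d) k (e.symm (Sum.inr l)))) = v l := fun l => by
    rw [hτ]; show Sum.elim P v _ = _; rw [Equiv.apply_symm_apply]; rfl
  have hpre : ∀ j, r ⁻¹ᵁ D j = U j := fun j => (AmpleEmbed.preimage_chart r τ _ (hτP j)).trans (hloc j)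
  have hDaff : ∀ j, IsAffineOpen (D j) := fun j => Proj.isAffineOpen_basicOpen _ _ (ProjPt.X_mem _) one_pos
  have hclosed : ∀ j, IsClosedImmersion (r ∣_ D j) := fun j => by
    haveI : IsAffine (D j : Scheme) := hDaff j
    haveI : IsAffine (r ⁻¹ᵁ D j : Scheme) := by
      rw [hpre]
      exact IsAffineOpen.preimage (Proj.isAffineOpen_basicOpen _ _ (ProjPt.X_mem j) one_pos) φ
    refine IsClosedImmersion.of_surjective_of_isAffine _
      (H9Twist.surjective_morphismRestrict_appTop r (D j) (U j) (hpre j) ?_)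
    let S : Subring Γ(X, U j) := (r.appLE (D j) (U j) (hpre j).ge).hom.range
    have hc : ∀ c : k, AModX.resR (le_top : U j ≤ ⊤) (ProjUP.toGlobal pX c) ∈ S := fun c => by
      refine ⟨(CohB1.ProjSpace.toSpec (n + d) k).appLE ⊤ (D j) le_top ((Scheme.ΓSpecIso (CommRingCat.of k)).inv c), ?_⟩
      rw [← CommRingCat.comp_apply, Scheme.Hom.appLE_comp_appLE]
      simp only [hr]
      rfl
    refine RingHom.range_eq_top.1 (subring_eq_top pX φ hφ hgg hq j S hc fun t b htb => ?_)
    obtain ⟨c, rfl⟩ := hv t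
    choose bl hbl using fun l => (hfr j).exists_coord le_rfl (AModX.res N (le_top : U j ≤ ⊤) (v l))
    have hmem : ∀ l, bl l ∈ S := fun l => by
      refine ⟨(Proj.awayToSection (CohB1.polyGrading (n + d) k) (MvPolynomial.X (e.symm (Sum.inl j)))).hom
        (HomogeneousLocalization.Away.mk (CohB1.polyGrading (n + d) k) (ProjPt.X_mem _) 1 (MvPolynomial.X (e.symm (Sum.inr l)))
          (by rw [one_smul]; exact ProjPt.X_mem _)), ?_⟩
      refine AmpleEmbed.ratioOf_eq r τ _ _ (hτP j) (hτv l) (hpre j).ge (bl l) ?_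
      rw [hbl l, AModX.res_self, hres]
    have hb' : b = ∑ l, AModX.resR (le_top : U j ≤ ⊤) (ProjUP.toGlobal pX (c l)) * bl l :=
      (hfr j).coord_unique le_rfl (by
        rw [AModX.res_self, ← htb, map_sum, Finset.sum_smul]
        refine (Finset.sum_congr rfl fun l _ => ?_).symm
        rw [AModX.res_smul, hbl l, AModX.res_self, mul_smul])
    exact hb' ▸ S.sum_mem fun l _ => S.mul_mem (hc _) (hmem l)
  let E : (CohB1.ProjSpace (n + d) k).Opens := ⟨(Set.range r)ᶜ, r.isClosedMap.isClosed_range.isOpen_compl⟩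
  have hE : IsClosedImmersion (r ∣_ E) := by
    haveI : IsEmpty (r ⁻¹ᵁ E : Scheme) := ⟨fun x => x.2 ⟨x.1, rfl⟩⟩
    infer_instance
  refine IsZariskiLocalAtTarget.of_iSup_eq_top (P := @IsClosedImmersion)
    (fun o : Option (Fin (n + 1)) => o.elim E D) ?_ ?_
  · refine top_le_iff.1 fun y _ => ?_
    by_cases hy : y ∈ Set.range r
    · obtain ⟨x, rfl⟩ := hy
      obtain ⟨i, hi⟩ := hcov x
      exact Opens.mem_iSup.2 ⟨some i, show x ∈ r ⁻¹ᵁ D i from (hpre i).ge hi⟩
    · exact Opens.mem_iSup.2 ⟨none, hy⟩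
  · rintro (_ | i)
    · exact hE
    · exact hclosed i

end Groth.Agent.AVFin

end
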