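import Groth.Agent.HilbBound.Closed
import Groth.Agent.QCoh.LocFree
import Groth.Agent.InvX.GenEpi
import Groth.Agent.InvX.GenLocusPull
import Groth.Agent.CurveBC.Coh
import Groth.Agent.ResolveX.MVOne

/-!
# A closed subscheme of projective space is determined by the forms of a large degree vanishing on it
-/

noncomputable section

set_option autoImplicit false
set_option backward.isDefEq.respectTransparency false
set_option backward.isDefEq.respectTransparency.types false
set_option linter.style.haveILetI false
set_option linter.unusedSectionVars false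
set_option maxHeartbeats 1000000
set_option synthInstance.maxHeartbeats 400000

universe u

open CategoryTheory CategoryTheory.Limits AlgebraicGeometry TopologicalSpace

namespace Groth.Agent.AVFin

open Groth.Agent Groth.Agent.RegEpi

section Unit

variable {P X : Scheme.{u}} (r : X ⟶ P) [IsClosedImmersion r]

/-- Restriction of functions to a closed subscheme. -/
def res1 : Coh.structureModule P ⟶ (Scheme.Modules.pushforward r).obj (Coh.structureModule X) :=
  (Scheme.Modules.pullbackPushforwardAdjunction r).unit.app _ ≫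
    (Scheme.Modules.pushforward r).map (CurveBC.unitIso r).hom

instance epi_res1 : Epi (res1 r) := by
  have h := FamHom.epi_unit r (Coh.structureModule P)
  exact @epi_comp _ _ _ _ _ _ h _ inferInstance

theorem res1_app_eq_zero_iff {U : P.Opens} (x : Γ(P, U)) :
    (res1 r).app U (show Γ(Coh.structureModule P, U) from x) = 0 ↔ r.app U x = 0 := by
  let o : Γ(Coh.structureModule P, U) := (1 : Γ(P, U))
  let c : Γ(Coh.structureModule X, r ⁻¹ᵁ U) := (res1 r).app U o
  have hc : InvX.IsFrame c :=
    (InvX.isFrame_pullElt r (InvX.isFrame_one (X := P) U)).map_iso (CurveBC.unitIso r)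
  have hx : (show Γ(Coh.structureModule P, U) from x) = x • o := (mul_one x).symm
  refine Iff.trans (Iff.of_eq (congrArg (fun z => (res1 r).app U z = 0) hx)) ?_
  refine Iff.trans (Iff.of_eq (congrArg (· = 0) (Scheme.Modules.Hom.app_smul (res1 r) x o))) ?_
  show r.app U x • c = 0 ↔ r.app U x = 0
  refine ⟨fun h => hc.coord_unique le_rfl (by rw [AModX.res_self]; exact h.trans (zero_smul _ c).symm),
    fun h => by rw [h, zero_smul]⟩

end Unit

variable {k : Type u} [Field k] {n : ℕ}

local notation "PP" => Proj (CohB1.polyGrading n k)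

/-- If the kernel twisted by `m` is generated by sections, a map killing the forms of degree `m` in the kernel kills
the kernel. -/
theorem factor_of_sections {E F F' : (PP).Modules} (v : E ⟶ F) (v' : E ⟶ F') (m : ℤ)
    (hgg : Curv2.IsGloballyGenerated ((twF m).obj (kernel v)))
    (h : ∀ ξ : Γ((twF m).obj E, ⊤), ((twF m).map v).app ⊤ ξ = 0 → ((twF m).map v').app ⊤ ξ = 0) :
    kernel.ι v ≫ v' = 0 := by
  obtain ⟨κ, s, hs⟩ := ResolveX.exists_generatedBy hgg
  refine (twF m).map_injective ?_
  rw [Functor.map_zero]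
  refine InvX.hom_ext_of_generated hs fun i => ?_
  rw [Functor.map_comp]
  refine (h _ ?_).trans rfl
  have h0 : (twF (k := k) (n := n) m).map (kernel.ι v) ≫ (twF m).map v = 0 := by
    rw [← Functor.map_comp, kernel.condition, Functor.map_zero]
  exact congrArg (fun g => Scheme.Modules.Hom.app g ⊤ (s i)) h0

/-- The forms of degree `m` vanishing on a closed subscheme. -/
def forms {X : Scheme.{u}} (r : X ⟶ PP) [IsClosedImmersion r] (m : ℤ) :
    Set Γ((twF m).obj (Coh.structureModule PP), ⊤) :=
  {ξ | ((twF m).map (res1 r)).app ⊤ ξ = 0}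

theorem ker_le {X X' : Scheme.{u}} (r : X ⟶ PP) (r' : X' ⟶ PP) [IsClosedImmersion r] [IsClosedImmersion r']
    (m : ℤ) (hgg : Curv2.IsGloballyGenerated ((twF m).obj (kernel (res1 r))))
    (h : forms r m ⊆ forms r' m) : r.ker ≤ r'.ker := by
  have h0 := factor_of_sections (res1 r) (res1 r') m hgg fun ξ hξ => h hξ
  let g := Abelian.epiDesc (res1 r) (res1 r') h0
  have hg : res1 r ≫ g = res1 r' := Abelian.comp_epiDesc _ _ _
  intro U x hx
  rw [Scheme.Hom.ker_apply, RingHom.mem_ker] at hx ⊢
  refine (res1_app_eq_zero_iff r' x).1 ?_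
  rw [← hg]
  show g.app U.1 ((res1 r).app U.1 _) = 0
  rw [(res1_app_eq_zero_iff r x).2 hx, map_zero]

/-- Closed subschemes with the same forms of degree `m` are isomorphic over projective space. -/
theorem exists_iso {X X' : Scheme.{u}} (r : X ⟶ PP) (r' : X' ⟶ PP) [IsClosedImmersion r] [IsClosedImmersion r']
    (m : ℤ) (hgg : Curv2.IsGloballyGenerated ((twF m).obj (kernel (res1 r))))
    (hgg' : Curv2.IsGloballyGenerated ((twF m).obj (kernel (res1 r'))))
    (h : forms r m = forms r' m) : ∃ e : X ≅ X', e.hom ≫ r' = r := by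
  have hk : r'.ker = r.ker := le_antisymm (ker_le r' r m hgg' h.ge) (ker_le r r' m hgg h.le)
  haveI := IsClosedImmersion.isIso_lift r' r hk
  exact ⟨asIso (IsClosedImmersion.lift r' r hk.le), IsClosedImmersion.lift_fac _ _ _⟩

/-- Over a finite field there are finitely many forms of a given degree. -/
theorem finite_sections [Finite k] (m : ℕ) : Finite Γ((twF (k := k) (n := n) (m : ℤ)).obj (Coh.structureModule PP), ⊤) := by
  haveI : IsNoetherian PP := Proj16.isNoetherian_proj _
  letI : (PP).Over (Spec (CommRingCat.of k)) := ⟨CohB1.ProjSpace.toSpec n k⟩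
  haveI : IsProper (PP ↘ Spec (CommRingCat.of k)) := PnCoh.Chow.isProper_toSpec n k
  haveI := S0002.result k PP _ (HilbBound.isCoh_tw (QCoh.isCoh_structureModule' (X := PP)) (m : ℤ)) 0
  haveI : Finite (Coh.HH PP ((twF (k := k) (n := n) (m : ℤ)).obj (Coh.structureModule PP)) 0) := Module.finite_of_finite k
  exact Finite.of_equiv _ (Sheaf.H.equiv₀ (Coh.toAb ((twF (m : ℤ)).obj (Coh.structureModule PP))) isTerminalTop).toEquiv

/-- Uniform generation of the twisted kernels of the closed subschemes with a given polynomial. -/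
theorem exists_gg_bound (n : ℕ) (P : Polynomial ℚ) :
    ∃ m : ℕ, ∀ (k : Type u) [Field k] (X : Scheme.{u}) (r : X ⟶ Proj (CohB1.polyGrading n k)) [IsClosedImmersion r],
      Coh.IsCoh (Coh.structureModule X) →
      (∀ t : ℤ, (HilbBound.chi (k := k) (n := n) ((Scheme.Modules.pushforward r).obj (Coh.structureModule X)) t : ℚ) =
        P.eval (t : ℚ)) →
      Curv2.IsGloballyGenerated ((twF (k := k) (n := n) (m : ℤ)).obj (kernel (res1 r))) := by
  obtain ⟨m₀, hm⟩ := HilbBound.exists_kernel_bound.{u} n 1 P
  refine ⟨m₀.toNat, fun k _ X r _ hX hP => ?_⟩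
  haveI : IsNoetherian (Proj (CohB1.polyGrading n k)) := Proj16.isNoetherian_proj _
  haveI : Unique (Fin 1) := inferInstance
  let j : FlatMod.freeMod (Proj (CohB1.polyGrading n k)) 1 ≅ Coh.structureModule (Proj (CohB1.polyGrading n k)) :=
    coproductUniqueIso _
  have hF := QCoh.isCoh_pushforward_finite r hX
  have hK : Coh.IsCoh (kernel (res1 r)) := QCoh.isCoh_kernel (QCoh.isCoh_structureModule') hF _
  have h1 := hm k _ (j.hom ≫ res1 r) hF (epi_comp _ _) hP
  have h2 : Curv2.IsMRegular k n (kernel (res1 r)) m₀ :=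
    HilbBound.isMRegular_of_iso (kernelIsIsoComp j.hom (res1 r)) h1
  exact S1647.result k n _ hK _ (HilbBound.isMRegular_mono hK (Int.self_le_toNat m₀) h2)

end Groth.Agent.AVFin

end
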