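import Groth.Agent.AVFin.Basic
import Groth.Agent.AVFin.Embed
import Groth.Agent.AVFin.Kernel

/-!
# Finitely many abelian varieties with an ample module of given Euler characteristic over a finite field
-/

noncomputable section

set_option autoImplicit false
set_option backward.isDefEq.respectTransparency false
set_option backward.isDefEq.respectTransparency.types false
set_option linter.style.haveILetI false
set_option linter.unusedSectionVars false
set_option maxHeartbeats 1000000
set_option synthInstance.maxHeartbeats 400000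

universe u

open CategoryTheory CategoryTheory.Limits AlgebraicGeometry TopologicalSpace
open scoped MonObj Groth.Agent.H23.PicMul

attribute [-instance] CategoryTheory.catToReflQuiver

namespace Groth.Agent.AVFin

open Groth.Agent Groth.Agent.H23

attribute [local instance] overHom

variable {k : Type u} [Field k]

/-- A finite map to projective space given by an ample module. -/
theorem isFinite_of_ample {n : ℕ} {X : Scheme.{u}} (pX : X ⟶ Spec (CommRingCat.of k)) [IsProper pX]
    (φ : X ⟶ CohB1.ProjSpace n k) (hφ : φ ≫ CohB1.ProjSpace.toSpec n k = pX)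
    (hamp : CohB1.IsAmple (ClosedImmPn.M φ)) : IsFinite φ := by
  haveI : IsProper (CohB1.ProjSpace.toSpec n k) := PnCoh.Chow.isProper_toSpec n k
  haveI : IsProper φ := by
    haveI : IsProper (φ ≫ CohB1.ProjSpace.toSpec n k) := hφ ▸ ‹IsProper pX›
    exact IsProper.of_comp φ (CohB1.ProjSpace.toSpec n k)
  haveI : IsAffineHom φ := isAffineHom_of_forall_exists_isAffineOpen φ fun y => by
    obtain ⟨j, hj⟩ := ClosedImmPn.exists_mem_D y
    refine ⟨ClosedImmPn.D n k j, hj, Proj.isAffineOpen_basicOpen _ _ (ProjPt.X_mem j) one_pos, ?_⟩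
    rw [ClosedImmPn.preimage_D φ j]
    have h := PicGlue.isAffineOpen_locus pX hamp (ClosedImmPn.σ φ j)
    rwa [show AmpleX.locus (ClosedImmPn.σ φ j) = H23.TrivBasic.locus (ClosedImmPn.σ φ j) from
      ((AmpleX.genLocus_eq_locus _).trans (congrArg AmpleX.locus (InvX.one_ofSect _))).symm] at h
  exact IsFinite.iff_isProper_and_isAffineHom.2 ⟨inferInstance, inferInstance⟩

variable (A : Over (Spec (CommRingCat.of k))) [IsProper A.hom] [GrpObj A] [GeometricallyIntegral A.hom]

theorem euler_structure {g : ℕ} (hg : topologicalKrullDim A.left = g) (hg1 : 1 ≤ g) {L : A.left.Modules}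
    (hL : PicF.IsInvertible L) : Curv2.euler k A.left (Coh.structureModule A.left) = 0 := by
  have h := AVEuler.euler_tensorPow A hg hL 0
  rw [Nat.cast_zero, zero_pow (by omega), zero_mul] at h
  exact h

/-- A closed immersion into a bounded projective space. -/
theorem exists_embedding {G B : ℕ} (hg : topologicalKrullDim A.left = G) {L : A.left.Modules}
    (hL : CohB1.IsAmple L) (hB : Curv2.euler k A.left L = (B : ℤ)) :
    ∃ r : A.left ⟶ CohB1.ProjSpace (2 ^ G * B - 1 + (2 * (G + 1)) ^ G * B) k, IsClosedImmersion r ∧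
      r ≫ CohB1.ProjSpace.toSpec _ k = A.hom ∧
      PicF.pullCl r (PicF.cl (Twist.twistProjSpace _ k 1)) = PicF.cl L ^ (2 * (G + 1)) := by
  have hB' : h0 A L = B := by exact_mod_cast (euler_eq_h0 A hL).symm.trans hB
  have hL2 : CohB1.IsAmple (CohB1.tensorPow L 2) := AmpleX.isAmple_tensorPow hL two_pos
  obtain ⟨q⟩ : Nonempty (CohB1.tensorMod L L ≅ CohB1.tensorPow L 2) := PicMul.cl_eq_iff.1 (by
    rw [PicMul.cl_tensor, PicMul.cl_tensorPow, pow_two])
  have hgg : Curv2.IsGloballyGenerated (CohB1.tensorPow L 2) :=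
    AmpleX.isGloballyGenerated_of_iso q (isGloballyGenerated_sq A hL)
  haveI := finite_HH A hL2.1 0
  obtain ⟨v, hv⟩ := exists_spanning k (CohB1.tensorPow L 2)
  have hN0 : 2 ^ G * B - 1 + 1 = Module.finrank k (Coh.HH A.left (CohB1.tensorPow L 2) 0) := by
    have h2 : Module.finrank k (Coh.HH A.left (CohB1.tensorPow L 2) 0) = 2 ^ G * B :=
      hB' ▸ h0_tensorPow A hg hL one_le_two
    have := h0_pos A hL
    rw [h2, Nat.sub_add_cancel]
    exact Nat.one_le_iff_ne_zero.2 (Nat.mul_ne_zero (by positivity) (by omega))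
  have hgen := generatedBy_of_spanning k hgg v hv
  obtain ⟨φ, hφ, τ, -⟩ := S3572.result (2 ^ G * B - 1) A.hom (CohB1.tensorPow L 2) hL2.1
    (fun i => v (Fin.cast hN0 i)) (fun x => by
      rw [← hgen x]
      congr 1
      ext a
      exact ⟨fun ⟨i, h⟩ => ⟨_, h⟩, fun ⟨i, h⟩ => ⟨Fin.cast hN0.symm i, h⟩⟩)
  have hamp : CohB1.IsAmple (ClosedImmPn.M φ) := AmpleX.isAmple_of_iso τ.symm hL2
  haveI := isFinite_of_ample A.hom φ hφ hamp
  haveI : IsLocallyNoetherian A.left := LocallyOfFiniteType.isLocallyNoetherian A.hom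
  have hvan : ∀ i j : ℕ, 0 < i → 0 < j →
      Subsingleton (Coh.HH A.left (CohB1.tensorPow (ClosedImmPn.M φ) j) i) :=
    fun i j hi hj => subsingleton_pos A (AmpleX.isAmple_tensorPow hamp hj) hi
  have hpush := isGloballyGenerated_push φ hφ hamp.1 (Iso.refl _) hg.le hvan
  have hN : PicF.IsInvertible (CohB1.tensorPow (ClosedImmPn.M φ) (G + 1)) := InvX.isInvertible_tensorPow hamp.1 _
  haveI := finite_HH A hN 0
  obtain ⟨w, hw⟩ := exists_spanning k (CohB1.tensorPow (ClosedImmPn.M φ) (G + 1))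
  have hcl : PicF.cl (ClosedImmPn.M φ) = PicF.cl L ^ 2 :=
    (PicMul.cl_eq_iff.2 ⟨τ⟩).trans (PicMul.cl_tensorPow L 2)
  have hd : Module.finrank k (Coh.HH A.left (CohB1.tensorPow (ClosedImmPn.M φ) (G + 1)) 0) = (2 * (G + 1)) ^ G * B := by
    have h1 := euler_eq_h0 A (AmpleX.isAmple_tensorPow hamp G.succ_pos)
    obtain ⟨e⟩ := PicMul.cl_eq_iff.1 (show PicF.cl (CohB1.tensorPow (ClosedImmPn.M φ) (G + 1)) =
      PicF.cl (CohB1.tensorPow L (2 * (G + 1))) by
        rw [PicMul.cl_tensorPow, hcl, ← pow_mul, PicMul.cl_tensorPow])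
    rw [CurveCohLib.euler_congr (k := k) e, AVEuler.euler_tensorPow A hg hL.1, hB] at h1
    exact_mod_cast h1.symm
  obtain ⟨r, hr, hr1, ⟨σ⟩⟩ := exists_closedImmersion_pow_finite A.hom φ hφ hpush
    (QCoh.isCoh_pushforward_finite φ (AmpleVan.isCoh_invertible hN)).1 hamp.1
    (fun l => w (Fin.cast hd.symm l)) fun t => by
      obtain ⟨c, hc⟩ := hw t
      exact ⟨fun l => c (Fin.cast hd.symm l), hc.trans (Fintype.sum_equiv (finCongr hd) _ _ fun l => rfl)⟩
  refine ⟨r, hr, hr1, ?_⟩
  rw [show PicF.pullCl r (PicF.cl (Twist.twistProjSpace _ k 1)) = PicF.cl (CohB1.tensorPow (ClosedImmPn.M φ) (G + 1))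
    from PicMul.cl_eq_iff.2 ⟨σ⟩, PicMul.cl_tensorPow, hcl, ← pow_mul]

variable (k)

/-- Over a finite field there are finitely many abelian varieties of given dimension with an ample module
of given Euler characteristic. -/
theorem finite_classes [Finite k] (G B : ℕ) (hG : 1 ≤ G) :
    ∃ T : Set (Over (Spec (CommRingCat.of k))), T.Finite ∧
      ∀ (A : Over (Spec (CommRingCat.of k))) [IsProper A.hom] [GrpObj A] [GeometricallyIntegral A.hom],
        topologicalKrullDim A.left = G → ∀ L : A.left.Modules, CohB1.IsAmple L →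
          Curv2.euler k A.left L = (B : ℤ) → ∃ W ∈ T, Nonempty (A ≅ W) := by
  let n := 2 ^ G * B - 1 + (2 * (G + 1)) ^ G * B
  let P : Polynomial ℚ := Polynomial.C ((B : ℚ) * (2 * (G + 1) : ℕ) ^ G) * Polynomial.X ^ G
  obtain ⟨m, hm⟩ := exists_gg_bound.{u} n P
  let 𝔽 := Γ((RegEpi.twF (k := k) (n := n) (m : ℤ)).obj (Coh.structureModule (Proj (CohB1.polyGrading n k))), ⊤)
  haveI : Finite 𝔽 := finite_sections (k := k) (n := n) m
  let Good : Set 𝔽 → Over (Spec (CommRingCat.of k)) → Prop := fun S W =>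
    ∃ (r : W.left ⟶ Proj (CohB1.polyGrading n k)) (_ : IsClosedImmersion r),
      r ≫ CohB1.ProjSpace.toSpec n k = W.hom ∧
      Curv2.IsGloballyGenerated ((RegEpi.twF (k := k) (n := n) (m : ℤ)).obj (kernel (res1 r))) ∧
      forms r (m : ℤ) = S
  classical
  let pick : Set 𝔽 → Over (Spec (CommRingCat.of k)) := fun S =>
    if h : ∃ W, Good S W then h.choose else Over.mk (𝟙 _)
  refine ⟨Set.range pick, Set.finite_range pick, fun A _ _ _ hg L hL hB => ?_⟩
  obtain ⟨r, hr, hr1, hcl⟩ := exists_embedding A hg hL hB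
  haveI := hr
  haveI : IsLocallyNoetherian A.left := LocallyOfFiniteType.isLocallyNoetherian A.hom
  letI : (Proj (CohB1.polyGrading n k)).Over (Spec (CommRingCat.of k)) := ⟨CohB1.ProjSpace.toSpec n k⟩
  haveI : IsNoetherian (Proj (CohB1.polyGrading n k)) := Proj16.isNoetherian_proj _
  have hO := QCoh.isCoh_structureModule' (X := A.left)
  have hOp := QCoh.isCoh_pushforward_finite r hO
  have hchi : ∀ t : ℤ, (HilbBound.chi (k := k) (n := n) ((Scheme.Modules.pushforward r).obj (Coh.structureModule A.left)) t : ℚ) =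
      P.eval (t : ℚ) := HilbBound.chi_eq_of_nat hOp fun j => by
    rw [HilbBound.chi_push r hr1 hO.1 j]
    obtain ⟨e⟩ := PicMul.cl_eq_iff.1 (show PicF.cl (CohB1.tensorMod (Coh.structureModule A.left)
        (CohB1.tensorPow (PruferCoh.oneX r) j)) = PicF.cl (CohB1.tensorPow L (2 * (G + 1) * j)) by
      rw [PicMul.cl_tensor, PicMul.cl_tensorPow, PicMul.cl_tensorPow, pow_mul, ← hcl]
      exact one_mul _)
    rw [CurveCohLib.euler_congr (k := k) e, AVEuler.euler_tensorPow A hg hL.1, hB]
    simp only [P, Polynomial.eval_mul, Polynomial.eval_C, Polynomial.eval_pow, Polynomial.eval_X]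
    push_cast
    simp only [mul_pow]
    ring
  have hgg := hm k A.left r hO hchi
  have hex : ∃ W, Good (forms r (m : ℤ)) W := ⟨A, r, hr, hr1, hgg, rfl⟩
  refine ⟨pick (forms r (m : ℤ)), ⟨_, rfl⟩, ?_⟩
  obtain ⟨r', hr', hr1', hgg', hS⟩ : Good (forms r (m : ℤ)) (pick (forms r (m : ℤ))) := by
    simp only [pick, dif_pos hex]
    exact hex.choose_spec
  haveI := hr'
  obtain ⟨e, he⟩ := exists_iso r r' (m : ℤ) hgg hgg' hS.symm
  exact ⟨Over.isoMk e (by rw [← hr1', ← Category.assoc, he]; exact hr1)⟩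

end Groth.Agent.AVFin

end
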