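import Mathlib

/-!
# Semisimple endomorphisms: similarity, intertwiners and the double commutant
-/

noncomputable section

set_option autoImplicit false
set_option linter.unusedSectionVars false
set_option linter.style.haveILetI false
set_option maxHeartbeats 1000000
set_option synthInstance.maxHeartbeats 100000

universe u v w

open Polynomial Module UniqueFactorizationMonoid

namespace Groth.Agent.AVFin.LinAlg

variable {K : Type u} [Field K]

/-- The cyclic module `K[X]/(P)`. -/
abbrev Cyc (P : K[X]) : Type u := K[X] ⧸ Ideal.span {P}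

theorem cyc_finite {P : K[X]} (hP : P.Monic) : Module.Finite K (Cyc P) := hP.finite_quotient

theorem cyc_finrank {P : K[X]} : finrank K (Cyc P) = P.natDegree := finrank_quotient_span_eq_natDegree

/-- multiplication by `X` on a `K[X]`-module -/
def mulX (M : Type*) [AddCommGroup M] [Module K M] [Module K[X] M] [IsScalarTower K K[X] M] : Module.End K M :=
  DistribSMul.toLinearMap K M (X : K[X])

theorem mulX_apply (M : Type*) [AddCommGroup M] [Module K M] [Module K[X] M] [IsScalarTower K K[X] M] (m : M) :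
    mulX (K := K) M m = (X : K[X]) • m := rfl

theorem charpoly_cyc {P : K[X]} (hP : P.Monic) (hirr : Irreducible P) :
    haveI := cyc_finite hP
    (mulX (K := K) (Cyc P)).charpoly = P := by
  haveI := cyc_finite hP
  haveI : (Ideal.span {P}).IsMaximal := PrincipalIdealRing.isMaximal_of_irreducible hirr
  letI : Field (Cyc P) := Ideal.Quotient.field _
  have hdvd : P ∣ (mulX (K := K) (Cyc P)).charpoly := by
    have h := LinearMap.congr_fun (LinearMap.aeval_self_charpoly (mulX (K := K) (Cyc P))) 1
    have hgen : ∀ (p : K[X]) (m : Cyc P), aeval (mulX (K := K) (Cyc P)) p m = p • m := by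
      intro p
      induction p using Polynomial.induction_on with
      | C a => intro m; rw [aeval_C, Module.algebraMap_end_apply, ← algebraMap_smul K[X] a m]; rfl
      | add p q hp hq => intro m; rw [map_add, LinearMap.add_apply, hp, hq, add_smul]
      | monomial n a h =>
        intro m
        rw [pow_succ, ← mul_assoc, map_mul, Module.End.mul_apply, aeval_X, h, mulX_apply]
        simp only [mul_smul]
    rw [hgen, LinearMap.zero_apply, Algebra.smul_def, mul_one] at h
    exact Ideal.mem_span_singleton.1 (Ideal.Quotient.eq_zero_iff_mem.1 h)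
  refine eq_of_monic_of_dvd_of_natDegree_le hP (LinearMap.charpoly_monic _) hdvd ?_
  rw [LinearMap.charpoly_natDegree, cyc_finrank]

theorem charpoly_pi_cyc : ∀ {n : ℕ} (P : Fin n → K[X]) (hP : ∀ i, (P i).Monic), (∀ i, Irreducible (P i)) →
    haveI := fun i => cyc_finite (hP i)
    (mulX (K := K) (Π i, Cyc (P i))).charpoly = ∏ i, P i
  | 0, P, hP, _ => by
    haveI := fun i => cyc_finite (hP i)
    rw [Finset.univ_eq_empty, Finset.prod_empty]
    exact Polynomial.eq_one_of_monic_natDegree_zero (LinearMap.charpoly_monic _)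
      (by rw [LinearMap.charpoly_natDegree, Module.finrank_zero_of_subsingleton])
  | n + 1, P, hP, hi => by
    haveI := fun i => cyc_finite (hP i)
    let e : (Cyc (P 0) × Π i : Fin n, Cyc (P i.succ)) ≃ₗ[K] Π i, Cyc (P i) :=
      Fin.consLinearEquiv K fun i => Cyc (P i)
    have h : e.conj ((mulX (K := K) (Cyc (P 0))).prodMap (mulX (K := K) (Π i : Fin n, Cyc (P i.succ)))) =
        mulX (K := K) (Π i, Cyc (P i)) := by
      refine LinearMap.ext fun f => funext fun i => ?_
      rw [LinearEquiv.conj_apply_apply]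
      refine Fin.cases ?_ (fun j => ?_) i <;> simp [e, mulX_apply, Fin.consLinearEquiv, Fin.tail]
    rw [← h, LinearEquiv.charpoly_conj, LinearMap.charpoly_prodMap, charpoly_cyc (hP 0) (hi 0),
      charpoly_pi_cyc (fun i => P i.succ) (fun i => hP _) fun i => hi _, Fin.prod_univ_succ]

variable {V : Type v} [AddCommGroup V] [Module K V] [FiniteDimensional K V]

/-- A semisimple endomorphism is a sum of cyclic blocks of its irreducible factors. -/
theorem exists_blocks {S : Module.End K V} (hS : S.IsSemisimple) :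
    ∃ (n : ℕ) (P : Fin n → K[X]), (∀ i, (P i).Monic ∧ Irreducible (P i)) ∧
      S.charpoly = ∏ i, P i ∧ Nonempty (AEval' S ≃ₗ[K[X]] Π i, Cyc (P i)) := by
  classical
  haveI : IsSemisimpleModule K[X] (AEval' S) := hS
  obtain ⟨n, B₀, e, hsimp⟩ := IsSemisimpleModule.exists_linearEquiv_fin_dfinsupp K[X] (AEval' S)
  have hblock : ∀ i, ∃ P : K[X], P.Monic ∧ Irreducible P ∧ Nonempty (B₀ i ≃ₗ[K[X]] Cyc P) := by
    intro i
    haveI := hsimp i
    obtain ⟨I, hI, ⟨f⟩⟩ := isSimpleModule_iff_quot_maximal.1 (hsimp i)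
    obtain ⟨g, rfl⟩ := (IsPrincipalIdealRing.principal I).principal
    have hg : g ≠ 0 := by
      rintro rfl
      exact Polynomial.not_isField K (Ring.isField_iff_maximal_bot.2
        (by simpa [Submodule.span_zero_singleton] using hI))
    have hirr : Irreducible g :=
      (Ideal.span_singleton_prime hg).1 hI.isPrime |>.irreducible
    refine ⟨g * C g.leadingCoeff⁻¹, monic_mul_leadingCoeff_inv hg,
      (associated_mul_unit_right g _ ?_).irreducible hirr, ⟨f.trans (Submodule.quotEquivOfEq _ _ ?_)⟩⟩
    · exact isUnit_C.2 (isUnit_iff_ne_zero.2 (inv_ne_zero (leadingCoeff_ne_zero.2 hg)))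
    · exact (Ideal.span_singleton_mul_right_unit
        (isUnit_C.2 (isUnit_iff_ne_zero.2 (inv_ne_zero (leadingCoeff_ne_zero.2 hg)))) g).symm
  choose P hP hirr hf using hblock
  let E : AEval' S ≃ₗ[K[X]] Π i, Cyc (P i) :=
    (e.trans (DFinsupp.linearEquivFunOnFintype)).trans (LinearEquiv.piCongrRight fun i => (hf i).some)
  refine ⟨n, P, fun i => ⟨hP i, hirr i⟩, ?_, ⟨E⟩⟩
  haveI := fun i => cyc_finite (hP i)
  rw [← charpoly_pi_cyc P hP hirr]
  let EK : V ≃ₗ[K] Π i, Cyc (P i) := (AEval'.of S).trans (E.restrictScalars K)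
  have h : EK.conj S = mulX (K := K) (Π i, Cyc (P i)) := LinearMap.ext fun x => by
    rw [LinearEquiv.conj_apply_apply, mulX_apply]
    show E (AEval'.of S (S (EK.symm x))) = _
    rw [← AEval'.X_smul_of, map_smul]
    exact congrArg ((X : K[X]) • ·) (EK.apply_symm_apply x)
  rw [← h, LinearEquiv.charpoly_conj]

open scoped Classical in
theorem normalizedFactors_eq {n : ℕ} (P : Fin n → K[X]) (hP : ∀ i, (P i).Monic ∧ Irreducible (P i)) :
    normalizedFactors (∏ i, P i) = Finset.univ.val.map P := by
  rw [Finset.prod_eq_multiset_prod,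
    normalizedFactors_prod_eq _ fun a ha => by obtain ⟨i, -, rfl⟩ := Multiset.mem_map.1 ha; exact (hP i).2,
    Multiset.map_map]
  exact Multiset.map_congr rfl fun i _ => (hP i).1.normalize_eq_self

variable {W : Type w} [AddCommGroup W] [Module K W] [FiniteDimensional K W]

/-- Semisimple endomorphisms with the same characteristic polynomial are similar. -/
theorem exists_equiv {S : Module.End K V} {T : Module.End K W} (hS : S.IsSemisimple) (hT : T.IsSemisimple)
    (h : S.charpoly = T.charpoly) : ∃ e : V ≃ₗ[K] W, e.toLinearMap ∘ₗ S = T ∘ₗ e.toLinearMap := by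
  classical
  obtain ⟨n, P, hP, hcP, ⟨E⟩⟩ := exists_blocks hS
  obtain ⟨m, Q, hQ, hcQ, ⟨F⟩⟩ := exists_blocks hT
  have hm : Finset.univ.val.map P = Finset.univ.val.map Q := by
    rw [← normalizedFactors_eq P hP, ← normalizedFactors_eq Q hQ, ← hcP, ← hcQ, h]
  have hcard : ∀ R : K[X], Fintype.card {i // P i = R} = Fintype.card {j // Q j = R} := by
    intro R
    have := congrArg (Multiset.count R) hm
    rw [Multiset.count_map, Multiset.count_map] at this
    simp only [Fintype.card_subtype]
    simpa [eq_comm (a := R), Finset.card_def] using this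
  let σ : Fin n ≃ Fin m := Equiv.ofFiberEquiv (f := P) (g := Q) fun R => Fintype.equivOfCardEq (hcard R)
  have hσ : ∀ i, Q (σ i) = P i := fun i => Equiv.ofFiberEquiv_map _ i
  let G : AEval' S ≃ₗ[K[X]] AEval' T :=
    (E.trans (LinearEquiv.piCongrRight fun i => Submodule.quotEquivOfEq _ _ (by rw [hσ]))).trans
      ((LinearEquiv.piCongrLeft K[X] (fun j => Cyc (Q j)) σ).trans F.symm)
  refine ⟨(AEval'.of S).trans ((G.restrictScalars K).trans (AEval'.of T).symm), LinearMap.ext fun x => ?_⟩
  show (AEval'.of T).symm (G (AEval'.of S (S x))) = T ((AEval'.of T).symm (G (AEval'.of S x)))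
  rw [← AEval'.X_smul_of, map_smul, AEval'.of_symm_X_smul]

open scoped Classical in
theorem finrank_hom_cyc {P Q : K[X]} (hP : P.Monic ∧ Irreducible P) (hQ : Q.Monic ∧ Irreducible Q) :
    finrank K (Cyc P →ₗ[K[X]] Cyc Q) = if P = Q then P.natDegree else 0 := by
  split_ifs with h
  · subst h
    rw [← cyc_finrank (P := P)]
    let ev : (Cyc P →ₗ[K[X]] Cyc P) →ₗ[K] Cyc P :=
      { toFun := fun φ => φ 1, map_add' := fun _ _ => rfl, map_smul' := fun _ _ => rfl }
    refine (LinearEquiv.ofBijective ev ⟨?_, fun q => ?_⟩).finrank_eq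
    · intro φ ψ hφ
      refine Submodule.linearMap_qext _ (LinearMap.ext_ring hφ)
    · obtain ⟨q, rfl⟩ := Ideal.Quotient.mk_surjective q
      refine ⟨q • LinearMap.id, ?_⟩
      show (Submodule.Quotient.mk (q • 1) : Cyc P) = Submodule.Quotient.mk q
      rw [smul_eq_mul, mul_one]
  · refine finrank_eq_zero_of_rank_eq_zero (rank_zero_iff_forall_zero.2 fun φ => ?_)
    obtain ⟨r, hr⟩ := Ideal.Quotient.mk_surjective (φ 1)
    have h0 : P • φ 1 = 0 := by
      have hz : P • (1 : Cyc P) = 0 := (Submodule.Quotient.mk_eq_zero _).2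
        (Ideal.mem_span_singleton.2 (dvd_mul_right P 1))
      rw [← map_smul, hz, map_zero]
    rw [← hr] at h0
    have h1 : Q ∣ P * r := Ideal.mem_span_singleton.1 ((Submodule.Quotient.mk_eq_zero _).1 h0)
    have h2 : Q ∣ r := (hQ.2.prime.dvd_or_dvd h1).resolve_left fun hd =>
      h (eq_of_monic_of_associated hP.1 hQ.1 (hQ.2.associated_of_dvd hP.2 hd).symm)
    refine Submodule.linearMap_qext _ (LinearMap.ext_ring ?_)
    show φ 1 = 0
    rw [← hr]
    exact Ideal.Quotient.eq_zero_iff_mem.2 (Ideal.mem_span_singleton.2 h2)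

/-- The intertwiners of two endomorphisms. -/
def intertwiners (S : Module.End K V) (T : Module.End K W) : Submodule K (V →ₗ[K] W) where
  carrier := {φ | φ ∘ₗ S = T ∘ₗ φ}
  zero_mem' := by simp
  add_mem' {a b} ha hb := by
    simp only [Set.mem_ofPred_eq] at ha hb ⊢
    rw [LinearMap.add_comp, LinearMap.comp_add, ha, hb]
  smul_mem' c a ha := by
    simp only [Set.mem_ofPred_eq] at ha ⊢
    rw [LinearMap.smul_comp, LinearMap.comp_smul, ha]

theorem mem_intertwiners {S : Module.End K V} {T : Module.End K W} {φ : V →ₗ[K] W} :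
    φ ∈ intertwiners S T ↔ φ ∘ₗ S = T ∘ₗ φ := Iff.rfl

/-- The intertwiners are the linear maps of the associated `K[X]`-modules. -/
def intertwinersEquiv (S : Module.End K V) (T : Module.End K W) :
    intertwiners S T ≃ₗ[K] (AEval' S →ₗ[K[X]] AEval' T) where
  toFun φ := LinearMap.ofAEval _ ((AEval'.of T).toLinearMap ∘ₗ φ.1) fun m => by
    show AEval'.of T (φ.1 (S m)) = (X : K[X]) • AEval'.of T (φ.1 m)
    rw [AEval'.X_smul_of, show φ.1 (S m) = T (φ.1 m) from LinearMap.congr_fun φ.2 m]
  invFun f := ⟨(AEval'.of T).symm.toLinearMap ∘ₗ (f.restrictScalars K) ∘ₗ (AEval'.of S).toLinearMap,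
    LinearMap.ext fun m => by
      show (AEval'.of T).symm (f (AEval'.of S (S m))) = T ((AEval'.of T).symm (f (AEval'.of S m)))
      rw [← AEval'.X_smul_of, map_smul, AEval'.of_symm_X_smul]⟩
  left_inv φ := rfl
  right_inv f := rfl
  map_add' φ ψ := rfl
  map_smul' c φ := rfl

open Classical in
/-- The dimension of the space of intertwiners of semisimple endomorphisms. -/
theorem finrank_intertwiners {S : Module.End K V} {T : Module.End K W} (hS : S.IsSemisimple) (hT : T.IsSemisimple) :
    finrank K (intertwiners S T) = ∑ P ∈ (normalizedFactors S.charpoly).toFinset,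
      (normalizedFactors S.charpoly).count P * (normalizedFactors T.charpoly).count P * P.natDegree := by
  classical
  obtain ⟨n, P, hP, hcP, ⟨E⟩⟩ := exists_blocks hS
  obtain ⟨m, Q, hQ, hcQ, ⟨F⟩⟩ := exists_blocks hT
  rw [hcP, hcQ, normalizedFactors_eq P hP, normalizedFactors_eq Q hQ]
  haveI := fun i => cyc_finite (hP i).1
  haveI := fun j => cyc_finite (hQ j).1
  haveI : ∀ i j, Module.Finite K (Cyc (P i) →ₗ[K[X]] Cyc (Q j)) := fun i j => Module.Finite.of_injective
    ({ toFun := fun φ => φ 1, map_add' := fun _ _ => rfl, map_smul' := fun _ _ => rfl } :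
      (Cyc (P i) →ₗ[K[X]] Cyc (Q j)) →ₗ[K] Cyc (Q j))
    fun φ ψ h => Submodule.linearMap_qext _ (LinearMap.ext_ring h)
  haveI : ∀ i j, Module.Free K (Cyc (P i) →ₗ[K[X]] Cyc (Q j)) := fun i j => Module.Free.of_divisionRing K _
  haveI : ∀ i, Module.Free K (Π j, Cyc (P i) →ₗ[K[X]] Cyc (Q j)) := fun i => Module.Free.pi K _
  let e1 : (AEval' S →ₗ[K[X]] AEval' T) ≃ₗ[K] ((Π i, Cyc (P i)) →ₗ[K[X]] Π j, Cyc (Q j)) :=
    { LinearEquiv.arrowCongrAddEquiv E F with
      map_smul' := fun c f => LinearMap.ext fun x => F.toLinearMap.map_smul_of_tower c (f (E.symm x)) }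
  let e2 : ((Π i, Cyc (P i)) →ₗ[K[X]] Π j, Cyc (Q j)) ≃ₗ[K] (Π i, Π j, Cyc (P i) →ₗ[K[X]] Cyc (Q j)) :=
    { toFun := fun f i j => LinearMap.proj j ∘ₗ f ∘ₗ LinearMap.single K[X] (fun i => Cyc (P i)) i
      invFun := fun g => LinearMap.lsum K[X] (fun i => Cyc (P i)) K fun i => LinearMap.pi (g i)
      map_add' := fun f g => funext fun i => funext fun j => LinearMap.ext fun x => rfl
      map_smul' := fun c f => funext fun i => funext fun j => LinearMap.ext fun x => rfl
      left_inv := fun f => LinearMap.pi_ext fun i x => funext fun j => by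
        simp only [LinearMap.lsum_apply, LinearMap.coe_sum, Finset.sum_apply, LinearMap.comp_apply, LinearMap.proj_apply,
          LinearMap.pi_apply, LinearMap.coe_single]
        exact (Finset.sum_eq_single i (fun c _ hc => by simp [hc]) (by simp)).trans (by simp)
      right_inv := fun g => funext fun i => funext fun j => LinearMap.ext fun x => by
        simp only [LinearMap.lsum_apply, LinearMap.coe_sum, Finset.sum_apply, LinearMap.comp_apply, LinearMap.proj_apply,
          LinearMap.pi_apply, LinearMap.coe_single]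
        exact (Finset.sum_eq_single i (fun c _ hc => by simp [hc]) (by simp)).trans (by simp) }
  rw [((intertwinersEquiv S T).trans (e1.trans e2)).finrank_eq, Module.finrank_pi_fintype]
  simp only [Module.finrank_pi_fintype, finrank_hom_cyc (hP _) (hQ _)]
  have h1 : ∀ i, (∑ j, if P i = Q j then (P i).natDegree else 0) =
      (Finset.univ.val.map Q).count (P i) * (P i).natDegree := fun i => by
    rw [← Finset.sum_filter, Finset.sum_const, smul_eq_mul, Multiset.count_map]
    rfl
  simp only [h1]
  refine Eq.trans ?_ (Eq.trans (Finset.sum_multiset_map_count (Finset.univ.val.map P)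
    fun R => (Finset.univ.val.map Q).count R * R.natDegree) (Finset.sum_congr rfl fun R _ => ?_))
  · rw [Multiset.map_map]
    rfl
  · rw [smul_eq_mul, mul_assoc]

/-- The double commutant of a semisimple endomorphism. -/
theorem mem_adjoin_of_commute {S : Module.End K V} (hS : S.IsSemisimple) {x : Module.End K V}
    (hx : ∀ φ : Module.End K V, φ ∘ₗ S = S ∘ₗ φ → φ ∘ₗ x = x ∘ₗ φ) : x ∈ Algebra.adjoin K {S} := by
  classical
  haveI : IsSemisimpleModule K[X] (AEval' S) := hS
  let x' : AEval' S →ₗ[K] AEval' S := (AEval'.of S).toLinearMap ∘ₗ x ∘ₗ (AEval'.of S).symm.toLinearMap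
  let f : Module.End (Module.End K[X] (AEval' S)) (AEval' S) :=
    { toFun := x'
      map_add' := map_add x'
      map_smul' := fun φ m => by
        show AEval'.of S (x ((AEval'.of S).symm (φ m))) = φ (AEval'.of S (x ((AEval'.of S).symm m)))
        have h1 := hx ((intertwinersEquiv S S).symm φ).1 ((intertwinersEquiv S S).symm φ).2
        have h2 := LinearMap.congr_fun h1 ((AEval'.of S).symm m)
        exact (congrArg (AEval'.of S) h2.symm).trans rfl }
  obtain ⟨s, hs⟩ := Module.Finite.fg_top (R := K) (M := AEval' S)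
  obtain ⟨r, hr⟩ := jacobson_density (R := K[X]) f s
  rw [Algebra.adjoin_singleton_eq_range_aeval]
  refine ⟨r, LinearMap.ext fun v => ?_⟩
  have h : ∀ m : AEval' S, x' m = r • m := by
    intro m
    induction hs.ge (trivial : m ∈ ⊤) using Submodule.span_induction with
    | mem m hm => exact hr m hm
    | zero => simp
    | add a b _ _ ha hb => rw [map_add, ha, hb, smul_add]
    | smul c a _ ha => rw [map_smul, ha, smul_comm]
  have := congrArg (AEval'.of S).symm (h (AEval'.of S v))
  simpa [x'] using this.symm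

end Groth.Agent.AVFin.LinAlg

end
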