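import Groth.Agent.AVFin.Frob
import Groth.Agent.AVFin.LinAlg
import Groth.Agent.AVHomLib.TateIndep

/-!
# Ranks of groups of homomorphisms over finite fields
-/

noncomputable section

set_option autoImplicit false
set_option backward.isDefEq.respectTransparency false
set_option backward.isDefEq.respectTransparency.types false
set_option linter.style.haveILetI false
set_option linter.unusedSectionVars false
set_option linter.overlappingInstances false
set_option maxHeartbeats 1000000
set_option synthInstance.maxHeartbeats 400000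

universe u

open CategoryTheory CategoryTheory.Limits AlgebraicGeometry MonoidalCategory CartesianMonoidalCategory
open scoped MonObj TensorProduct

attribute [-instance] CategoryTheory.catToReflQuiver

namespace Groth.Agent.AVFin

open Groth.Agent Groth.Agent.AVTate UniqueFactorizationMonoid

/-- `Σ a b deg` of the factorisations of two polynomials, read off the roots in an algebraically closed field. -/
def rootPairing {K : Type*} [Field K] (L : Type*) [Field L] [Algebra K L] (f g : Polynomial K) : ℕ :=
  letI := Classical.decEq L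
  ((f.aroots L).map fun α => (g.aroots L).count α).sum

open scoped Classical in
/-- The pairing of the factorisations does not depend on the base field. -/
theorem sum_count_eq {K : Type*} [Field K] [PerfectField K] (L : Type*) [Field L] [Algebra K L] [IsAlgClosed L]
    {f g : Polynomial K} (hf : f.Monic) (hg : g.Monic) :
    ∑ P ∈ (normalizedFactors f).toFinset,
      (normalizedFactors f).count P * (normalizedFactors g).count P * P.natDegree = rootPairing L f g := by
  have hmon : ∀ {h : Polynomial K}, h.Monic → ∀ P ∈ normalizedFactors h, P.Monic ∧ Irreducible P := fun {h} hh P hP =>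
    ⟨normalize_normalized_factor P hP ▸ Polynomial.monic_normalize (irreducible_of_normalized_factor P hP).ne_zero,
      irreducible_of_normalized_factor P hP⟩
  have hprod : ∀ {h : Polynomial K}, h.Monic → h = (normalizedFactors h).prod := fun {h} hh =>
    Polynomial.eq_of_monic_of_associated hh
      (Multiset.map_id (normalizedFactors h) ▸ Polynomial.monic_multiset_prod_of_monic (normalizedFactors h) id fun P hP => (hmon hh P hP).1)
      (by simpa using (prod_normalizedFactors hh.ne_zero).symm)
  have hroots : ∀ {h : Polynomial K}, h.Monic → h.aroots L = (normalizedFactors h).bind fun P => P.aroots L := by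
    intro h hh
    conv_lhs => rw [hprod hh, Polynomial.aroots_def, Polynomial.map_multiset_prod]
    rw [Polynomial.roots_multiset_prod _ fun h0 => ?_, Multiset.bind_map]
    · obtain ⟨P, hP, hP0⟩ := Multiset.mem_map.1 h0
      exact ((hmon hh P hP).1.map _).ne_zero hP0
  have hone : ∀ P ∈ normalizedFactors f, ∀ α ∈ P.aroots L,
      (g.aroots L).count α = (normalizedFactors g).count P := by
    intro P hP α hα
    obtain ⟨hPm, hPi⟩ := hmon hf P hP
    rw [hroots hg, Multiset.count_bind, Multiset.count_eq_card_filter_eq]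
    have hα' : Polynomial.aeval α P = 0 := ((Polynomial.mem_aroots).1 hα).2
    have heq : ∀ Q ∈ normalizedFactors g, (Q.aroots L).count α = if P = Q then 1 else 0 := by
      intro Q hQ
      obtain ⟨hQm, hQi⟩ := hmon hg Q hQ
      split_ifs with h
      · subst h
        exact Multiset.count_eq_one_of_mem
          (Polynomial.nodup_roots ((PerfectField.separable_of_irreducible hQi).map)) hα
      · refine Multiset.count_eq_zero.2 fun hQα => h ?_
        rw [minpoly.eq_of_irreducible_of_monic hPi hα' hPm,
          minpoly.eq_of_irreducible_of_monic hQi ((Polynomial.mem_aroots).1 hQα).2 hQm]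
    rw [Multiset.map_congr rfl heq, ← Multiset.count_eq_card_filter_eq]
    clear heq
    induction normalizedFactors g using Multiset.induction with
    | empty => simp
    | cons Q t ih => rw [Multiset.map_cons, Multiset.sum_cons, ih, Multiset.count_cons, add_comm]
  rw [rootPairing, hroots hf, Multiset.map_bind, Multiset.sum_bind]
  refine Eq.trans ?_ (Eq.trans (Finset.sum_multiset_map_count (normalizedFactors f)
    fun P => (normalizedFactors g).count P * P.natDegree).symm (congrArg Multiset.sum (Multiset.map_congr rfl fun P hP => ?_)))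
  · exact Finset.sum_congr rfl fun P _ => by rw [smul_eq_mul, mul_assoc]
  · rw [Multiset.map_congr rfl (hone P hP), Multiset.map_const', Multiset.sum_replicate, smul_eq_mul, mul_comm,
      Polynomial.aroots_def, IsAlgClosed.card_roots_eq_natDegree, Polynomial.natDegree_map]

theorem rootPairing_map {K : Type*} [Field K] {K' : Type*} [Field K'] [Algebra K K'] (L : Type*) [Field L]
    [Algebra K L] [Algebra K' L] [IsScalarTower K K' L] (f g : Polynomial K) :
    rootPairing L (f.map (algebraMap K K')) (g.map (algebraMap K K')) = rootPairing L f g := by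
  simp only [rootPairing, Polynomial.aroots_def, Polynomial.map_map, ← IsScalarTower.algebraMap_eq]

variable {k : Type u} [Field k] [Finite k] {l : ℕ} [Fact l.Prime] {Ω : Type u} [Field Ω] [Algebra k Ω]
  [IsAlgClosed Ω] [Algebra.IsAlgebraic k Ω] [Normal k Ω] [IsAlgClosure k Ω]
  {A B : Over (Spec (CommRingCat.of k))}
  [GrpObj A] [IsCommMonObj A] [IsProper A.hom] [GeometricallyIntegral A.hom]
  [GrpObj B] [IsCommMonObj B] [IsProper B.hom] [GeometricallyIntegral B.hom]
  {πA : A ⟶ A} [IsMonHom πA] (hπA : WeilLib.IsPowMap πA.left (Nat.card k))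
  {πB : B ⟶ B} [IsMonHom πB] (hπB : WeilLib.IsPowMap πB.left (Nat.card k))

include hπA in
omit [IsAlgClosed Ω] [Algebra.IsAlgebraic k Ω] [Normal k Ω] [IsAlgClosure k Ω] in
/-- Frobenius acts semisimply. -/
theorem isSemisimple_Vmap : Module.End.IsSemisimple (Vmap (l := l) (Ω := Ω) πA) :=
  AVRosati.isSemisimple_tate (EndAV.End.of πA)
    (AVRosati.frob_squarefree πA (by ext x; exact hπA.base x) hπA.le
      (fun U s => hπA.app U (hπA.le U) s)).2 l (SGA7.pt Ω)

include hπA hπB in
/-- Homomorphisms span the intertwiners of the Frobenius endomorphisms. -/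
theorem homSpanQ_eq (hl : (l : k) ≠ 0) :
    homSpanQ A B l Ω = LinAlg.intertwiners (Vmap (l := l) (Ω := Ω) πA) (Vmap πB) := by
  refine le_antisymm (Submodule.span_le.2 ?_) fun φ hφ => hom_rational hl φ ((comm_Vgal_iff πA hπA πB hπB hl φ).2 hφ)
  rintro _ ⟨f, hf, rfl⟩
  exact (comm_Vgal_iff πA hπA πB hπB hl _).1 fun σ => Vmap_natural σ f

omit [Finite k] [Normal k Ω] [IsAlgClosure k Ω] in
/-- The rank of the group of homomorphisms is the dimension of the space they span on Tate modules. -/
theorem finrank_hom_eq_span (hl : (l : k) ≠ 0) [Module.Free ℤ_[l] (AbDual.TateMod A l (SGA7.pt (K := k) Ω))]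
    [Module.Finite ℤ_[l] (AbDual.TateMod A l (SGA7.pt (K := k) Ω))] [Module.Free ℤ_[l] (AbDual.TateMod B l (SGA7.pt (K := k) Ω))] :
    Module.finrank ℤ (EndAV.Hom A B) = Module.finrank ℚ_[l] (homSpanQ A B l Ω) := by
  obtain ⟨hfin, hfree⟩ := AVHomLib.hom_free (A := A) (B := B)
  haveI := hfin
  haveI := hfree
  let e := Module.finBasis ℤ (EndAV.Hom A B)
  have h1 := AVHomLib.tateMap_linearIndependent Ω l hl e e.linearIndependent
  let bc : (AbDual.TateMod A l (SGA7.pt (K := k) Ω) →ₗ[ℤ_[l]] AbDual.TateMod B l (SGA7.pt (K := k) Ω)) →ₗ[ℤ_[l]]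
      (Vt l Ω A →ₗ[ℚ_[l]] Vt l Ω B) := LinearMap.baseChangeHom ℤ_[l] ℚ_[l] _ _
  have h2 : LinearIndependent ℚ_[l] fun i => bc (EndAV.Hom.tateMap l (SGA7.pt (K := k) Ω) (e i)) :=
    (LinearIndependent.iff_fractionRing (R := ℤ_[l]) (K := ℚ_[l])).1
      (h1.map' bc (LinearMap.ker_eq_bot.2 fun f g h => baseChange_injective h))
  rw [show homSpanQ A B l Ω =
      Submodule.span ℚ_[l] (Set.range fun i => bc (EndAV.Hom.tateMap l (SGA7.pt (K := k) Ω) (e i))) from ?_,
    finrank_span_eq_card h2, Fintype.card_fin]
  refine le_antisymm (Submodule.span_le.2 ?_) (Submodule.span_mono ?_)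
  · rintro _ ⟨f, hf, rfl⟩
    have h3 := congrArg (fun φ => bc (EndAV.Hom.tateMap l (SGA7.pt (K := k) Ω) φ)) (e.sum_repr (EndAV.Hom.of f))
    simp only [map_sum, map_zsmul] at h3
    show bc (EndAV.Hom.tateMap l (SGA7.pt (K := k) Ω) (EndAV.Hom.of f)) ∈ _
    rw [← h3]
    refine sum_mem fun i _ => zsmul_mem (Submodule.subset_span ?_) _
    exact ⟨i, rfl⟩
  · rintro _ ⟨i, rfl⟩
    exact ⟨(e i).toHom, inferInstance, rfl⟩

include hπA hπB in
open scoped Classical in
/-- The rank of `Hom(A, B)` over a finite field. -/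
theorem finrank_hom (hl : (l : k) ≠ 0)
    [Module.Free ℤ_[l] (AbDual.TateMod A l (SGA7.pt (K := k) Ω))]
    [Module.Finite ℤ_[l] (AbDual.TateMod A l (SGA7.pt (K := k) Ω))]
    [Module.Free ℤ_[l] (AbDual.TateMod B l (SGA7.pt (K := k) Ω))]
    [Module.Finite ℤ_[l] (AbDual.TateMod B l (SGA7.pt (K := k) Ω))] :
    Module.finrank ℤ (EndAV.Hom A B) =
      ∑ P ∈ (normalizedFactors (Vmap (l := l) (Ω := Ω) πA).charpoly).toFinset,
        (normalizedFactors (Vmap (l := l) (Ω := Ω) πA).charpoly).count P *
          (normalizedFactors (Vmap (l := l) (Ω := Ω) πB).charpoly).count P * P.natDegree := by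
  rw [finrank_hom_eq_span (Ω := Ω) hl, homSpanQ_eq hπA hπB hl]
  exact LinAlg.finrank_intertwiners (isSemisimple_Vmap hπA) (isSemisimple_Vmap hπB)

include hπA in
/-- The rational Frobenius charpoly. -/
theorem Vmap_charpoly [Module.Free ℤ_[l] (AbDual.TateMod A l (SGA7.pt (K := k) Ω))]
    [Module.Finite ℤ_[l] (AbDual.TateMod A l (SGA7.pt (K := k) Ω))] (P : Polynomial ℤ)
    (hP : (AbDual.tateMapₗ (l := l) (T := SGA7.pt (K := k) Ω) πA).charpoly = P.map (Int.castRingHom ℤ_[l])) :
    (Vmap (l := l) (Ω := Ω) πA).charpoly = (P.map (Int.castRingHom ℚ)).map (algebraMap ℚ ℚ_[l]) := by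
  rw [Vmap, LinearMap.charpoly_baseChange, hP, Polynomial.map_map, Polynomial.map_map]
  exact congrArg (fun r => Polynomial.map r P) (RingHom.ext_int _ _)

include hπA hπB in
open scoped Classical in
/-- The rank of `Hom(A, B)` read off the integral Frobenius polynomials. -/
theorem finrank_hom_rat (hl : (l : k) ≠ 0)
    [Module.Free ℤ_[l] (AbDual.TateMod A l (SGA7.pt (K := k) Ω))]
    [Module.Finite ℤ_[l] (AbDual.TateMod A l (SGA7.pt (K := k) Ω))]
    [Module.Free ℤ_[l] (AbDual.TateMod B l (SGA7.pt (K := k) Ω))]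
    [Module.Finite ℤ_[l] (AbDual.TateMod B l (SGA7.pt (K := k) Ω))]
    (PA : Polynomial ℤ) (hPA : (AbDual.tateMapₗ (l := l) (T := SGA7.pt (K := k) Ω) πA).charpoly = PA.map (Int.castRingHom ℤ_[l]))
    (PB : Polynomial ℤ) (hPB : (AbDual.tateMapₗ (l := l) (T := SGA7.pt (K := k) Ω) πB).charpoly = PB.map (Int.castRingHom ℤ_[l])) :
    Module.finrank ℤ (EndAV.Hom A B) =
      ∑ P ∈ (normalizedFactors (PA.map (Int.castRingHom ℚ))).toFinset,
        (normalizedFactors (PA.map (Int.castRingHom ℚ))).count P *
          (normalizedFactors (PB.map (Int.castRingHom ℚ))).count P * P.natDegree := by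
  have hm : ∀ {Q : Polynomial ℤ} {f : Polynomial ℚ_[l]}, f.Monic →
      f = (Q.map (Int.castRingHom ℚ)).map (algebraMap ℚ ℚ_[l]) → (Q.map (Int.castRingHom ℚ)).Monic :=
    fun hf he => Polynomial.monic_of_injective (algebraMap ℚ ℚ_[l]).injective (he ▸ hf)
  have eA := Vmap_charpoly hπA PA hPA
  have eB := Vmap_charpoly hπB PB hPB
  have mA := (Vmap (l := l) (Ω := Ω) πA).charpoly_monic
  have mB := (Vmap (l := l) (Ω := Ω) πB).charpoly_monic
  rw [finrank_hom (Ω := Ω) hπA hπB hl, sum_count_eq (AlgebraicClosure ℚ_[l]) mA mB, eA, eB, rootPairing_map]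
  convert! (sum_count_eq (AlgebraicClosure ℚ_[l]) (hm mA eA) (hm mB eB)).symm

end Groth.Agent.AVFin

end
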