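import Groth.Agent.AVFin.Rank
import Groth.Agent.AVRosati.ZetaAV
import Groth.Agent.S14936

/-!
# Point counts determine the isogeny class
-/

noncomputable section

set_option autoImplicit false
set_option backward.isDefEq.respectTransparency false
set_option backward.isDefEq.respectTransparency.types false
set_option linter.style.haveILetI false
set_option linter.unusedSectionVars false
set_option linter.overlappingInstances false
set_option maxHeartbeats 1000000
set_option synthInstance.maxHeartbeats 400000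

universe u

open CategoryTheory CategoryTheory.Limits AlgebraicGeometry MonoidalCategory CartesianMonoidalCategory
open scoped MonObj Classical

attribute [-instance] CategoryTheory.catToReflQuiver

namespace Groth.Agent.AVFin

open Groth.Agent

section Roots

/-- signed sub-products of a multiset, as a formal sum -/
def signedProds (S : Multiset ℂ) : ℂ →₀ ℂ :=
  (S.powerset.map fun I => Finsupp.single I.prod ((-1) ^ I.card)).sum

theorem signedProds_cons (a : ℂ) (ha : a ≠ 0) (S : Multiset ℂ) (y : ℂ) :
    signedProds (a ::ₘ S) y = signedProds S y - signedProds S (y / a) := by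
  have h : ∀ (M : Multiset (Multiset ℂ)),
      (M.map fun I => Finsupp.single (a ::ₘ I).prod ((-1 : ℂ) ^ (a ::ₘ I).card)).sum y =
        - (M.map fun I => Finsupp.single I.prod ((-1 : ℂ) ^ I.card)).sum (y / a) := by
    intro M
    induction M using Multiset.induction_on with
    | empty => simp
    | cons I M ih =>
      rw [Multiset.map_cons, Multiset.sum_cons, Finsupp.add_apply, ih, Multiset.map_cons, Multiset.sum_cons,
        Finsupp.add_apply, Finsupp.single_apply, Finsupp.single_apply, Multiset.prod_cons, Multiset.card_cons, pow_succ,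
        neg_add]
      congr 1
      by_cases h : a * I.prod = y
      · rw [if_pos h, if_pos (by rw [← h, mul_div_cancel_left₀ _ ha])]
        ring
      · rw [if_neg h, if_neg (fun h' => h (by rw [h', mul_div_cancel₀ _ ha])), neg_zero]
  rw [signedProds, Multiset.powerset_cons, Multiset.map_add, Multiset.sum_add, Finsupp.add_apply, Multiset.map_map,
    sub_eq_add_neg]
  exact congrArg (_ + ·) (h S.powerset)

theorem signedProds_small {r : ℝ} (hr : 1 < r) (S : Multiset ℂ) (hS : ∀ a ∈ S, ‖a‖ = r) :
    (∀ y : ℂ, ‖y‖ ≤ 1 → signedProds S y = if y = 1 then 1 else 0) ∧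
      ∀ x : ℂ, ‖x‖ = r → signedProds S x = - (S.count x : ℂ) := by
  induction S using Multiset.induction_on with
  | empty =>
    refine ⟨fun y _ => by simp [signedProds, Finsupp.single_apply, eq_comm], fun x hx => ?_⟩
    have : (1 : ℂ) ≠ x := fun h => by rw [← h, norm_one] at hx; linarith
    simp [signedProds, this]
  | cons a S ih =>
    obtain ⟨ih1, ih2⟩ := ih fun b hb => hS b (Multiset.mem_cons_of_mem hb)
    have har : ‖a‖ = r := hS a (Multiset.mem_cons_self a S)
    have ha : a ≠ 0 := fun h => by rw [h, norm_zero] at har; linarith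
    refine ⟨fun y hy => ?_, fun x hx => ?_⟩
    · have h1 : ‖y / a‖ < 1 := by
        rw [norm_div, har, div_lt_one (by linarith)]
        linarith
      rw [signedProds_cons a ha, ih1 y hy, ih1 (y / a) h1.le, if_neg (fun h : y / a = 1 => by
        rw [h, norm_one] at h1; exact lt_irrefl _ h1), sub_zero]
    · have h1 : ‖x / a‖ = 1 := by rw [norm_div, har, hx, div_self (by linarith)]
      rw [signedProds_cons a ha, ih2 x hx, ih1 (x / a) h1.le, Multiset.count_cons]
      simp only [div_eq_one_iff_eq ha]
      split_ifs with h <;> push_cast <;> ring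

theorem eval_signedProds (S : Multiset ℂ) (n : ℕ) :
    Finsupp.linearCombination ℂ (fun x : ℂ => x ^ n) (signedProds S) = (S.map fun a => 1 - a ^ n).prod := by
  rw [AVRosati.prod_one_sub_pow_eq_sum_powerset, signedProds, map_multiset_sum, Multiset.map_map]
  refine congrArg Multiset.sum (Multiset.map_congr rfl fun I _ => ?_)
  simp [Finsupp.linearCombination_single]

/-- Numbers of the same absolute value `> 1` are determined by the products `∏ (1 - aⁿ)`. -/
theorem eq_of_prod_eq {r : ℝ} (hr : 1 < r) (S T : Multiset ℂ) (hS : ∀ a ∈ S, ‖a‖ = r) (hT : ∀ a ∈ T, ‖a‖ = r)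
    (h : ∀ n : ℕ, 0 < n → (S.map fun a => 1 - a ^ n).prod = (T.map fun a => 1 - a ^ n).prod) : S = T := by
  set d := signedProds S - signedProds T
  have hli : LinearIndependent ℂ (fun x : ℂ => (fun m : Multiplicative ℕ => (powersHom ℂ x) m)) :=
    (linearIndependent_monoidHom (Multiplicative ℕ) ℂ).comp (fun x => powersHom ℂ x) (powersHom ℂ).injective
  let e : ℂ →₀ ℂ := Finsupp.onFinset d.support (fun x => d x * x) fun x hx => Finsupp.mem_support_iff.2 fun h0 =>
    hx (by rw [h0, zero_mul])
  have he : Finsupp.linearCombination ℂ (fun x : ℂ => (fun m : Multiplicative ℕ => (powersHom ℂ x) m)) e = 0 := by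
    funext m
    have h1 : Finsupp.linearCombination ℂ (fun x : ℂ => x ^ (m.toAdd + 1)) d = 0 := by
      rw [map_sub, eval_signedProds, eval_signedProds, h _ (Nat.succ_pos _), sub_self]
    rw [Finsupp.linearCombination_apply, Finsupp.sum] at h1
    rw [Finsupp.linearCombination_apply, Finsupp.sum, Finset.sum_apply, Pi.zero_apply, ← h1]
    refine Finset.sum_subset_zero_on_sdiff Finsupp.support_onFinset_subset (fun x hx => ?_) (fun x hx => ?_)
    · obtain ⟨hx1, hx2⟩ := Finset.mem_sdiff.1 hx
      have : d x * x = 0 := by simpa [e, or_iff_not_imp_left] using hx2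
      rw [smul_eq_mul, pow_succ']
      rw [← mul_assoc, this, zero_mul]
    · simp [e, powersHom_apply, pow_succ', mul_assoc]
  have he0 := linearIndependent_iff.1 hli e he
  refine Multiset.ext.2 fun x => ?_
  by_cases hx : ‖x‖ = r
  · have h1 : d x * x = 0 := by simpa [e] using DFunLike.congr_fun he0 x
    have hx0 : x ≠ 0 := fun h0 => by rw [h0, norm_zero] at hx; linarith
    have h2 := (mul_eq_zero.1 h1).resolve_right hx0
    simp only [d, Finsupp.sub_apply, (signedProds_small hr S hS).2 x hx, (signedProds_small hr T hT).2 x hx] at h2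
    have h3 : (S.count x : ℂ) = T.count x := by linear_combination -h2
    exact_mod_cast h3
  · rw [Multiset.count_eq_zero.2 fun h' => hx (hS x h'), Multiset.count_eq_zero.2 fun h' => hx (hT x h')]

end Roots

variable {k : Type u} [Field k] [Finite k] (X Y : Over (Spec (CommRingCat.of k)))
  [GrpObj X] [IsCommMonObj X] [IsProper X.hom] [GeometricallyIntegral X.hom]
  [GrpObj Y] [IsCommMonObj Y] [IsProper Y.hom] [GeometricallyIntegral Y.hom]

theorem exists_frobHom (A : Over (Spec (CommRingCat.of k))) [GrpObj A] :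
    ∃ (π : A ⟶ A) (_ : IsMonHom π), WeilLib.IsPowMap π.left (Nat.card k) := by
  obtain ⟨F, hF, hF0, hFs, hnat⟩ := AVRosati.exists_frob (k := k)
  refine ⟨F A 1, ⟨?_, ?_⟩, pow_one (Nat.card k) ▸ hF A 1⟩
  · have h1 : F (𝟙_ _) 1 = 𝟙 _ := toUnit_unique _ _
    rw [← hnat A (𝟙_ _) (η[A]) 1, h1, Category.id_comp]
  · rw [← hnat A (A ⊗ A) (μ[A]) 1]
    congr 1
    refine CartesianMonoidalCategory.hom_ext _ _ ?_ ?_
    · rw [tensorHom_fst, hnat]
    · rw [tensorHom_snd, hnat]

/-- Isogenous iff the same point counts. -/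
theorem isogenous_iff_card :
    (∃ (u : X ⟶ Y) (_ : IsMonHom u) (v : Y ⟶ X) (_ : IsMonHom v) (n : ℕ), 0 < n ∧
        u ≫ v = (𝟙 X) ^ n ∧ v ≫ u = (𝟙 Y) ^ n) ↔
      ∀ (k' : Type u) [Field k'] [Algebra k k'] [Finite k'],
        Nat.card (Over.mk (Spec.map (CommRingCat.ofHom (algebraMap k k'))) ⟶ X) =
          Nat.card (Over.mk (Spec.map (CommRingCat.ofHom (algebraMap k k'))) ⟶ Y) := by
  obtain ⟨gX, hgX⟩ := AVDegPoly.exists_dim (A := X)
  obtain ⟨gY, hgY⟩ := AVDegPoly.exists_dim (A := Y)
  obtain ⟨P, hP, hPpts, hPcp⟩ := AVRosati.exists_weil_poly_points X hgX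
  obtain ⟨Q, hQ, hQpts, hQcp⟩ := AVRosati.exists_weil_poly_points Y hgY
  obtain ⟨πX, hπX, hpX⟩ := exists_frobHom X
  obtain ⟨πY, hπY, hpY⟩ := exists_frobHom Y
  haveI := hπX
  haveI := hπY
  let Ω := AlgebraicClosure k
  obtain ⟨l, hl, hlk⟩ : ∃ l : ℕ, l.Prime ∧ (l : k) ≠ 0 := by
    by_cases h2 : ((2 : ℕ) : k) = 0
    · refine ⟨3, Nat.prime_three, fun h3 => one_ne_zero (α := k) ?_⟩
      calc (1 : k) = ((3 : ℕ) : k) - ((2 : ℕ) : k) := by norm_num
        _ = 0 := by rw [h3, h2, sub_zero]
    · exact ⟨2, Nat.prime_two, h2⟩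
  haveI : Fact l.Prime := ⟨hl⟩
  haveI := (finite_tate (Ω := Ω) X hlk).1
  haveI := (finite_tate (Ω := Ω) X hlk).2
  haveI := (finite_tate (Ω := Ω) Y hlk).1
  haveI := (finite_tate (Ω := Ω) Y hlk).2
  rw [S14936.result k Ω l hlk X Y πX (by ext x; exact hpX.base x) hpX.le (fun U s => hpX.app U (hpX.le U) s)
    πY (by ext x; exact hpY.base x) hpY.le (fun U s => hpY.app U (hpY.le U) s), hPcp πX hpX Ω l hlk,
    hQcp πY hpY Ω l hlk, (Polynomial.map_injective (Int.castRingHom ℤ_[l]) Int.cast_injective).eq_iff]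
  have hq : (1 : ℝ) < Real.sqrt (Nat.card k) :=
    Real.lt_sqrt_of_sq_lt (by rw [one_pow]; exact_mod_cast Finite.one_lt_card)
  have hprod : ∀ {R : Polynomial ℤ} {g : ℕ}, AVRosati.IsWeilPoly R (Nat.card k) g → ∀ n : ℕ,
      ((R.map (Int.castRingHom ℂ)).roots.map fun ω => ω ^ n - 1).prod =
        ((R.map (Int.castRingHom ℂ)).roots.map fun ω => 1 - ω ^ n).prod := by
    intro R g hR n
    rw [show ((R.map (Int.castRingHom ℂ)).roots.map fun ω => ω ^ n - 1) =
        (R.map (Int.castRingHom ℂ)).roots.map fun ω => (-1) * (1 - ω ^ n) from Multiset.map_congr rfl fun ω _ => by ring,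
      Multiset.prod_map_mul, Multiset.map_const', Multiset.prod_replicate, hR.card_roots, (even_two_mul g).neg_one_pow,
      one_mul]
  constructor
  · intro h k' _ _ _
    have h1 : ((Nat.card (Over.mk (Spec.map (CommRingCat.ofHom (algebraMap k k'))) ⟶ X) : ℕ) : ℂ) =
        (Nat.card (Over.mk (Spec.map (CommRingCat.ofHom (algebraMap k k'))) ⟶ Y) : ℕ) := by
      rw [hPpts k', hQpts k', h]
    exact_mod_cast h1
  · intro h
    have hroots : (P.map (Int.castRingHom ℂ)).roots = (Q.map (Int.castRingHom ℂ)).roots := by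
      refine eq_of_prod_eq hq _ _ hP.norm_root hQ.norm_root fun n hn => ?_
      haveI : NeZero n := ⟨hn.ne'⟩
      let E := ULift.{u} (FiniteField.Extension k (ringChar k) n)
      haveI : Finite E := Finite.of_equiv _ Equiv.ulift.symm
      have hE : Module.finrank k E = n := by
        rw [(ULift.algEquiv (R := k) (A := FiniteField.Extension k (ringChar k) n)).toLinearEquiv.finrank_eq,
          FiniteField.finrank_extension]
      have h1 := congrArg (Nat.cast (R := ℂ)) (h E)
      rw [hPpts E, hQpts E, hE, hprod hP, hprod hQ] at h1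
      exact h1
    refine Polynomial.map_injective (Int.castRingHom ℂ) Int.cast_injective ?_
    rw [(IsAlgClosed.splits _).eq_prod_roots_of_monic (hP.monic.map (Int.castRingHom ℂ)),
      (IsAlgClosed.splits _).eq_prod_roots_of_monic (hQ.monic.map (Int.castRingHom ℂ)), hroots]

/-- Isogenous iff the same zeta function. -/
theorem isogenous_iff_zeta :
    (∃ (u : X ⟶ Y) (_ : IsMonHom u) (v : Y ⟶ X) (_ : IsMonHom v) (n : ℕ), 0 < n ∧
        u ≫ v = (𝟙 X) ^ n ∧ v ≫ u = (𝟙 Y) ^ n) ↔
      Zeta.zetaFun X.hom = Zeta.zetaFun Y.hom := by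
  rw [isogenous_iff_card X Y]
  have hcard : ∀ (Z : Over (Spec (CommRingCat.of k))) [IsProper Z.hom] (E : Type u) [Field E] [Algebra k E] [Finite E],
      Nat.card (Over.mk (Spec.map (CommRingCat.ofHom (algebraMap k E))) ⟶ Z) = Zeta.nPts Z.hom (Module.finrank k E) := by
    intro Z _ E _ _ _
    rw [← ZetaLib.pointCount_eq_nPts Z.hom E]
    exact Nat.card_congr
      { toFun := fun f => ⟨f.left, Over.w f⟩
        invFun := fun g => Over.homMk g.1 g.2
        left_inv := fun g => rfl
        right_inv := fun f => rfl }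
  constructor
  · intro h
    have hn : ∀ m, Zeta.nPts X.hom m = Zeta.nPts Y.hom m := by
      intro m
      rcases Nat.eq_zero_or_pos m with h0 | h0
      · rw [h0, Zeta.nPts, Zeta.nPts, Nat.divisors_zero, Finset.sum_empty, Finset.sum_empty]
      haveI : NeZero m := ⟨h0.ne'⟩
      let E := ULift.{u} (FiniteField.Extension k (ringChar k) m)
      haveI : Finite E := Finite.of_equiv _ Equiv.ulift.symm
      have hE : Module.finrank k E = m := by
        rw [(ULift.algEquiv (R := k) (A := FiniteField.Extension k (ringChar k) m)).toLinearEquiv.finrank_eq,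
          FiniteField.finrank_extension]
      have h1 := h E
      rwa [hcard X E, hcard Y E, hE] at h1
    rw [Zeta.zetaFun, Zeta.zetaFun, Zeta.logZeta, Zeta.logZeta]
    simp only [hn]
  · intro h k' _ _ _
    haveI : Module.Finite k k' := Module.Finite.of_finite
    rw [hcard X k', hcard Y k']
    have hZ : ∀ Z : Over (Spec (CommRingCat.of k)),
        WeilLib.HasLogDeriv (Zeta.zetaFun Z.hom) (PowerSeries.mk fun m => (Zeta.nPts Z.hom (m + 1) : ℚ)) := by
      intro Z
      have h0 : PowerSeries.constantCoeff (Zeta.logZeta Z.hom) = 0 := WeilLib.constantCoeff_mk_div _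
      have h := WeilLib.hasLogDeriv_exp_subst h0
      rw [Zeta.logZeta, WeilLib.derivative_mk_div] at h
      exact h
    have h1 : IsUnit (Zeta.zetaFun X.hom) := by
      rw [PowerSeries.isUnit_iff_constantCoeff, Zeta.zetaFun]
      have h0 : PowerSeries.constantCoeff (Zeta.logZeta X.hom) = 0 := WeilLib.constantCoeff_mk_div _
      exact (congrArg IsUnit (WeilLib.constantCoeff_exp_subst h0)).mpr isUnit_one
    have h2 := hZ Y
    rw [← h] at h2
    have h3 := h1.mul_left_cancel ((hZ X).symm.trans h2)
    obtain ⟨m, hm⟩ : ∃ m, Module.finrank k k' = m + 1 := ⟨_, (Nat.succ_pred_eq_of_pos Module.finrank_pos).symm⟩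
    rw [hm]
    have h4 := congrArg (PowerSeries.coeff m) h3
    rw [PowerSeries.coeff_mk, PowerSeries.coeff_mk] at h4
    exact_mod_cast h4

end Groth.Agent.AVFin

end
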