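import Groth.Agent.AVFin.Centre
import Groth.Agent.AVRosati.MinCharPoly
import Groth.Agent.S15655

/-!
# The dimension of `End⁰` over a finite field against the Frobenius polynomial
-/

noncomputable section

set_option autoImplicit false
set_option backward.isDefEq.respectTransparency false
set_option backward.isDefEq.respectTransparency.types false
set_option linter.style.haveILetI false
set_option linter.unusedSectionVars false
set_option linter.overlappingInstances false
set_option maxHeartbeats 1000000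
set_option synthInstance.maxHeartbeats 400000

universe u

open CategoryTheory CategoryTheory.Limits AlgebraicGeometry MonoidalCategory CartesianMonoidalCategory
open scoped MonObj TensorProduct Classical

attribute [-instance] CategoryTheory.catToReflQuiver

namespace Groth.Agent.AVFin

open Groth.Agent Groth.Agent.AVTate UniqueFactorizationMonoid

section Combinatorics

/-- `Σ a² d = (Σ a d)²` forces a single linear factor. -/
theorem exists_single {κ : Type*} (s : Finset κ) (a d : κ → ℕ) (ha : ∀ i ∈ s, 0 < a i) (hd : ∀ i ∈ s, 0 < d i)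
    (hs : s.Nonempty) (h : ∑ i ∈ s, a i ^ 2 * d i = (∑ i ∈ s, a i * d i) ^ 2) :
    ∃ i, s = {i} ∧ d i = 1 := by
  set T := ∑ i ∈ s, a i * d i
  have hle : ∀ i ∈ s, a i * d i ≤ T := fun i hi => Finset.single_le_sum (f := fun i => a i * d i) (fun _ _ => Nat.zero_le _) hi
  have hle' : ∀ i ∈ s, a i ^ 2 * d i ≤ a i * d i * T := fun i hi => by
    rw [pow_two, mul_assoc, mul_comm (a i) (a i * d i)]
    exact Nat.mul_le_mul le_rfl (le_trans (Nat.le_mul_of_pos_right _ (hd i hi)) (hle i hi))
  have heq : ∀ i ∈ s, a i ^ 2 * d i = a i * d i * T :=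
    (Finset.sum_eq_sum_iff_of_le hle').1 (by rw [h, pow_two, ← Finset.sum_mul])
  have hT : ∀ i ∈ s, a i = T := fun i hi => Nat.eq_of_mul_eq_mul_left (Nat.mul_pos (ha i hi) (hd i hi))
    (by rw [← heq i hi]; ring)
  obtain ⟨i, hi⟩ := hs
  refine ⟨i, Finset.eq_singleton_iff_unique_mem.2 ⟨hi, fun j hj => ?_⟩, ?_⟩
  · by_contra hne
    have h1 : a i * d i + a j * d j ≤ T := by
      rw [← Finset.sum_pair (Ne.symm hne) (f := fun i => a i * d i)]
      exact Finset.sum_le_sum_of_subset (Finset.insert_subset hi (Finset.singleton_subset_iff.2 hj))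
    have h2 := Nat.le_mul_of_pos_right (a i) (hd i hi)
    have h3 := Nat.mul_pos (ha j hj) (hd j hj)
    have := hT i hi
    omega
  · refine Nat.le_antisymm ?_ (hd i hi)
    have h1 := hle i hi
    rw [← hT i hi] at h1
    exact Nat.le_of_mul_le_mul_left (by simpa using h1) (ha i hi)

theorem sum_count_mul_natDegree {f : Polynomial ℚ} (hf : f.Monic) :
    ∑ P ∈ (normalizedFactors f).toFinset, (normalizedFactors f).count P * P.natDegree = f.natDegree := by
  have h0 : (0 : Polynomial ℚ) ∉ normalizedFactors f := fun h => (irreducible_of_normalized_factor _ h).ne_zero rfl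
  rw [← Polynomial.natDegree_eq_of_degree_eq (Polynomial.degree_eq_degree_of_associated (prod_normalizedFactors hf.ne_zero)),
    Polynomial.natDegree_multiset_prod _ h0, Finset.sum_multiset_map_count]
  simp only [smul_eq_mul]

theorem squarefree_iff_sum_eq {f : Polynomial ℚ} (hf : f.Monic) :
    Squarefree f ↔ ∑ P ∈ (normalizedFactors f).toFinset,
      (normalizedFactors f).count P * (normalizedFactors f).count P * P.natDegree = f.natDegree := by
  rw [squarefree_iff_nodup_normalizedFactors hf.ne_zero, Multiset.nodup_iff_count_le_one, ← sum_count_mul_natDegree hf]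
  constructor
  · intro h
    refine Finset.sum_congr rfl fun P hP => ?_
    have h1 := h P
    have h2 := Multiset.count_pos.2 (Multiset.mem_toFinset.1 hP)
    rw [show (normalizedFactors f).count P = 1 by omega]
  · intro h P
    by_cases hP : P ∈ (normalizedFactors f).toFinset
    · have hd : 0 < P.natDegree :=
        (irreducible_of_normalized_factor P (Multiset.mem_toFinset.1 hP)).natDegree_pos
      have h1 := ((Finset.sum_eq_sum_iff_of_le fun Q _ => Nat.mul_le_mul_right _ (Nat.le_mul_self _)).1 h.symm) P hP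
      have h2 := Multiset.count_pos.2 (Multiset.mem_toFinset.1 hP)
      have h3 := Nat.eq_of_mul_eq_mul_right hd h1
      exact (Nat.le_of_mul_le_mul_left (by rw [mul_one]; exact h3.ge) h2)
    · rw [Multiset.count_eq_zero.2 fun hc => hP (Multiset.mem_toFinset.2 hc)]
      exact Nat.zero_le 1

theorem normalizedFactors_pow_irreducible {h : Polynomial ℚ} (hm : h.Monic) (hi : Irreducible h) (n : ℕ) :
    normalizedFactors (h ^ n) = Multiset.replicate n h := by
  rw [normalizedFactors_pow, normalizedFactors_irreducible hi, hm.normalize_eq_self, Multiset.nsmul_singleton]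

theorem sum_pow_irreducible {h : Polynomial ℚ} (hm : h.Monic) (hi : Irreducible h) (n : ℕ) :
    ∑ P ∈ (normalizedFactors (h ^ n)).toFinset,
      (normalizedFactors (h ^ n)).count P * (normalizedFactors (h ^ n)).count P * P.natDegree = n * n * h.natDegree := by
  rw [normalizedFactors_pow_irreducible hm hi n]
  rcases Nat.eq_zero_or_pos n with hn | hn
  · subst hn; simp
  · rw [Multiset.toFinset_replicate, if_neg hn.ne', Finset.sum_singleton, Multiset.count_replicate_self]

end Combinatorics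

variable {k : Type u} [Field k] [Finite k] {A : Over (Spec (CommRingCat.of k))}
  [GrpObj A] [IsCommMonObj A] [IsProper A.hom] [GeometricallyIntegral A.hom]
  {πA : A ⟶ A} [IsMonHom πA] (hπA : WeilLib.IsPowMap πA.left (Nat.card k))
  {g : ℕ} (hg : topologicalKrullDim A.left = g)

omit [Finite k] in
theorem finrank_End0 : Module.finrank ℚ (EndAV.End0 A) = Module.finrank ℤ (EndAV.End A) := by
  haveI : Module.Free ℤ (EndAV.End A) := AVHomLib.hom_free.2
  exact Module.finrank_baseChange

omit [Finite k] [IsMonHom πA] in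
theorem finrank_QAdj (φ : EndAV.End A) :
    Module.finrank ℚ (EndAV.QAdj φ) = (minpoly ℚ (EndAV.toEnd0 φ)).natDegree := by
  haveI := AVRosati.finite_End0 (A := A)
  let f : Polynomial ℚ →ₐ[ℚ] EndAV.End0 A := Polynomial.aeval (EndAV.toEnd0 φ)
  have hker : RingHom.ker f = Ideal.span {minpoly ℚ (EndAV.toEnd0 φ)} :=
    minpoly.ker_aeval_eq_span_minpoly ℚ (EndAV.toEnd0 φ)
  have e1 : (Polynomial ℚ ⧸ RingHom.ker f) ≃ₗ[ℚ] f.range := (Ideal.quotientKerEquivRange f).toLinearEquiv
  have e2 : (Polynomial ℚ ⧸ RingHom.ker f) ≃ₗ[ℚ] (Polynomial ℚ ⧸ Ideal.span {minpoly ℚ (EndAV.toEnd0 φ)}) :=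
    (Ideal.quotientEquivAlgOfEq ℚ hker).toLinearEquiv
  rw [show EndAV.QAdj φ = f.range from Algebra.adjoin_singleton_eq_range_aeval ℚ _]
  exact (e2.symm.trans e1).finrank_eq.symm.trans finrank_quotient_span_eq_natDegree

include hπA hg in
/-- The Frobenius polynomial and what it says about `End⁰`. -/
theorem exists_data : ∃ P : Polynomial ℤ, P.Monic ∧ P.natDegree = 2 * g ∧
    (∀ (Ω : Type u) [Field Ω] [Algebra k Ω] [IsAlgClosed Ω] (l : ℕ) [Fact l.Prime], (l : k) ≠ 0 →
      ∀ [Module.Free ℤ_[l] (AbDual.TateMod A l (SGA7.pt (K := k) Ω))]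
        [Module.Finite ℤ_[l] (AbDual.TateMod A l (SGA7.pt (K := k) Ω))],
        (AbDual.tateMapₗ (l := l) (T := SGA7.pt (K := k) Ω) πA).charpoly = P.map (Int.castRingHom ℤ_[l])) ∧
    Module.finrank ℚ (EndAV.End0 A) = (∑ Q ∈ (normalizedFactors (P.map (Int.castRingHom ℚ))).toFinset,
      (normalizedFactors (P.map (Int.castRingHom ℚ))).count Q *
        (normalizedFactors (P.map (Int.castRingHom ℚ))).count Q * Q.natDegree) ∧
    minpoly ℚ (EndAV.toEnd0 (EndAV.End.of πA)) ∣ P.map (Int.castRingHom ℚ) ∧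
    P.map (Int.castRingHom ℚ) ∣ minpoly ℚ (EndAV.toEnd0 (EndAV.End.of πA)) ^ (2 * g) ∧
    Squarefree (minpoly ℚ (EndAV.toEnd0 (EndAV.End.of πA))) := by
  obtain ⟨P, hm, hd, hval, hcp⟩ := AVDegPoly.exists_charpoly hg (EndAV.End.of πA)
  let Ω := AlgebraicClosure k
  haveI : Normal k Ω := IsAlgClosure.normal k Ω
  obtain ⟨l, hl, hlk⟩ : ∃ l : ℕ, l.Prime ∧ (l : k) ≠ 0 := by
    by_cases h2 : ((2 : ℕ) : k) = 0
    · refine ⟨3, Nat.prime_three, fun h3 => one_ne_zero (α := k) ?_⟩
      calc (1 : k) = ((3 : ℕ) : k) - ((2 : ℕ) : k) := by norm_num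
        _ = 0 := by rw [h3, h2, sub_zero]
    · exact ⟨2, Nat.prime_two, h2⟩
  haveI : Fact l.Prime := ⟨hl⟩
  haveI := (finite_tate (Ω := Ω) A hlk).1
  haveI := (finite_tate (Ω := Ω) A hlk).2
  refine ⟨P, hm, hd, fun Ω' _ _ _ l' _ hl' _ _ => hcp Ω' l' hl', ?_, minpoly.dvd _ _ ?_,
    AVRosati.charpoly_dvd_minpoly_pow (EndAV.End.of πA) hg P hm hd hval,
    (AVRosati.frob_squarefree πA (by ext x; exact hπA.base x) hπA.le (fun U s => hπA.app U (hπA.le U) s)).2⟩
  · rw [finrank_End0]
    exact finrank_hom_rat hπA hπA hlk P (hcp Ω l hlk) P (hcp Ω l hlk)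
  · have h0 := congrArg EndAV.toEnd0 (AVRosati.aeval_charpoly_eq_zero hg (EndAV.End.of πA) Ω l hlk P (hcp Ω l hlk))
    rw [map_zero, ← Polynomial.aeval_algHom_apply] at h0
    rw [← algebraMap_int_eq, Polynomial.aeval_map_algebraMap]
    exact h0

include hπA hg in
/-- `dim End⁰ ≥ 2g`. -/
theorem two_mul_le_finrank : 2 * g ≤ Module.finrank ℤ (EndAV.End A) := by
  obtain ⟨P, hm, hd, -, hrk, -⟩ := exists_data hπA hg
  rw [← finrank_End0, hrk, ← hd, ← hm.natDegree_map (Int.castRingHom ℚ), ← sum_count_mul_natDegree (hm.map _)]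
  exact Finset.sum_le_sum fun Q _ => Nat.mul_le_mul_right _ (Nat.le_mul_self _)

include hπA hg in
/-- `End` is commutative iff the Frobenius polynomial is squarefree iff `dim End⁰ = 2g`. -/
theorem comm_iff_squarefree (P' : Polynomial ℤ) {l : ℕ} [Fact l.Prime] (hlk : (l : k) ≠ 0) (Ω : Type u) [Field Ω]
    [Algebra k Ω] [IsAlgClosed Ω] [Module.Free ℤ_[l] (AbDual.TateMod A l (SGA7.pt (K := k) Ω))]
    [Module.Finite ℤ_[l] (AbDual.TateMod A l (SGA7.pt (K := k) Ω))]
    (hP' : (AbDual.tateMapₗ (l := l) (T := SGA7.pt (K := k) Ω) πA).charpoly = P'.map (Int.castRingHom ℤ_[l])) :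
    ((∀ a b : EndAV.End A, a * b = b * a) ↔ Squarefree (P'.map (Int.castRingHom ℚ))) ∧
      (Squarefree (P'.map (Int.castRingHom ℚ)) ↔ Module.finrank ℚ (EndAV.End0 A) = 2 * g) := by
  obtain ⟨P, hm, hd, hcp, hrk, hdvd, hdvd', hsq⟩ := exists_data hπA hg
  obtain rfl : P' = P := Polynomial.map_injective (Int.castRingHom ℤ_[l]) Int.cast_injective (hP'.symm.trans (hcp Ω l hlk))
  haveI := AVRosati.finite_End0 (A := A)
  have hfd : (P'.map (Int.castRingHom ℚ)).natDegree = 2 * g := by rw [hm.natDegree_map, hd]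
  have h2 : Squarefree (P'.map (Int.castRingHom ℚ)) ↔ Module.finrank ℚ (EndAV.End0 A) = 2 * g := by
    rw [hrk, squarefree_iff_sum_eq (hm.map _), hfd]
  refine ⟨⟨fun hc => ?_, fun hs => ?_⟩, h2⟩
  · rw [h2]
    refine le_antisymm ?_ (finrank_End0 (A := A) ▸ two_mul_le_finrank hπA hg)
    rw [← (Subalgebra.topEquiv (R := ℚ) (A := EndAV.End0 A)).toLinearEquiv.finrank_eq, ← (qAdj_eq_top_iff hπA).2 hc,
      finrank_QAdj, ← hfd]
    exact Polynomial.natDegree_le_of_dvd hdvd (hm.map _).ne_zero
  · refine (qAdj_eq_top_iff hπA).1 (Subalgebra.eq_of_le_of_finrank_le le_top ?_)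
    rw [(Subalgebra.topEquiv (R := ℚ) (A := EndAV.End0 A)).toLinearEquiv.finrank_eq, finrank_QAdj, h2.1 hs, ← hfd]
    refine Polynomial.natDegree_le_of_dvd ?_ (minpoly.ne_zero (Algebra.IsIntegral.isIntegral _))
    rcases Nat.eq_zero_or_pos g with h0 | h0
    · rw [(hm.map (Int.castRingHom ℚ)).natDegree_eq_zero.1 (by rw [hfd, h0])]
      exact one_dvd _
    · exact (hs.dvd_pow_iff_dvd (by omega)).1 hdvd'

omit [Finite k] hπA in
/-- A multiplication has characteristic polynomial a power of a linear one. -/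
theorem charpoly_intCast (n : ℤ) {l : ℕ} [Fact l.Prime] (hlk : (l : k) ≠ 0) (Ω : Type u) [Field Ω]
    [Algebra k Ω] [IsAlgClosed Ω] [Module.Free ℤ_[l] (AbDual.TateMod A l (SGA7.pt (K := k) Ω))]
    [Module.Finite ℤ_[l] (AbDual.TateMod A l (SGA7.pt (K := k) Ω))] (hg : topologicalKrullDim A.left = g) :
    (EndAV.End.tateRep l (SGA7.pt (K := k) Ω) (n : EndAV.End A)).charpoly =
      ((Polynomial.X - Polynomial.C n) ^ (2 * g)).map (Int.castRingHom ℤ_[l]) := by
  obtain ⟨hf, hfi, hr⟩ := AVDegPoly.finrank_tateMod (A := A) Ω l hlk hg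
  rw [map_intCast]
  have h1 := LinearMap.charpoly_sub_smul (0 : Module.End ℤ_[l] (AbDual.TateMod A l (SGA7.pt (K := k) Ω))) (-(n : ℤ_[l]))
  rw [LinearMap.charpoly_zero, hr] at h1
  simpa [Polynomial.map_pow, sub_eq_add_neg, Int.cast_smul_eq_zsmul, zsmul_one] using h1

include hπA hg in
/-- `dim End⁰ = (2g)²` iff Frobenius is an integer iff its polynomial is a power of a linear one. -/
theorem scalar_iff (P' : Polynomial ℤ) {l : ℕ} [Fact l.Prime] (hlk : (l : k) ≠ 0) (Ω : Type u) [Field Ω]
    [Algebra k Ω] [IsAlgClosed Ω] [Module.Free ℤ_[l] (AbDual.TateMod A l (SGA7.pt (K := k) Ω))]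
    [Module.Finite ℤ_[l] (AbDual.TateMod A l (SGA7.pt (K := k) Ω))]
    (hP' : (AbDual.tateMapₗ (l := l) (T := SGA7.pt (K := k) Ω) πA).charpoly = P'.map (Int.castRingHom ℤ_[l])) :
    (Module.finrank ℚ (EndAV.End0 A) = (2 * g) ^ 2 ↔ ∃ n : ℤ, EndAV.End.of πA = (n : EndAV.End A)) ∧
      ((∃ n : ℤ, EndAV.End.of πA = (n : EndAV.End A)) ↔ ∃ a : ℤ, P' = (Polynomial.X - Polynomial.C a) ^ (2 * g)) := by
  obtain ⟨P, hm, hd, hcp, hrk, hdvd, hdvd', hsq⟩ := exists_data hπA hg
  obtain rfl : P' = P := Polynomial.map_injective (Int.castRingHom ℤ_[l]) Int.cast_injective (hP'.symm.trans (hcp Ω l hlk))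
  haveI := AVRosati.finite_End0 (A := A)
  have hlin : ∀ a : ℤ, P'.map (Int.castRingHom ℚ) = (Polynomial.X - Polynomial.C (a : ℚ)) ^ (2 * g) →
      EndAV.End.of πA = (a : EndAV.End A) := by
    intro a ha
    refine AVRosati.toEnd0_injective ?_
    rw [map_intCast]
    rw [ha] at hdvd
    have h1 : minpoly ℚ (EndAV.toEnd0 (EndAV.End.of πA)) ∣ Polynomial.X - Polynomial.C (a : ℚ) := by
      rcases Nat.eq_zero_or_pos (2 * g) with h0 | h0
      · rw [h0, pow_zero] at hdvd
        exact hdvd.trans (one_dvd _)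
      · exact (hsq.dvd_pow_iff_dvd h0.ne').1 hdvd
    have h2 := Polynomial.aeval_eq_zero_of_dvd_aeval_eq_zero h1 (minpoly.aeval ℚ (EndAV.toEnd0 (EndAV.End.of πA)))
    rw [map_sub, Polynomial.aeval_X, Polynomial.aeval_C, map_intCast, sub_eq_zero] at h2
    exact h2
  have hto : ∀ n : ℤ, EndAV.End.of πA = (n : EndAV.End A) → P' = (Polynomial.X - Polynomial.C n) ^ (2 * g) := by
    intro n hn
    refine Polynomial.map_injective (Int.castRingHom ℤ_[l]) Int.cast_injective ?_
    rw [← hP', ← charpoly_intCast n hlk Ω hg, ← hn]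
    rfl
  have hb : (∃ n : ℤ, EndAV.End.of πA = (n : EndAV.End A)) ↔ ∃ a : ℤ, P' = (Polynomial.X - Polynomial.C a) ^ (2 * g) :=
    ⟨fun ⟨n, hn⟩ => ⟨n, hto n hn⟩, fun ⟨a, ha⟩ => ⟨a, hlin a (by simp [ha, Polynomial.map_pow])⟩⟩
  refine ⟨⟨fun hdim => ?_, fun ⟨n, hn⟩ => ?_⟩, hb⟩
  · rcases Nat.eq_zero_or_pos g with h0 | h0
    · refine ⟨0, hlin 0 ?_⟩
      rw [h0, mul_zero, pow_zero]
      exact (hm.map _).natDegree_eq_zero.1 (by rw [hm.natDegree_map, hd, h0])
    · set f := P'.map (Int.castRingHom ℚ)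
      have hfd : f.natDegree = 2 * g := by rw [hm.natDegree_map, hd]
      have hne : (normalizedFactors f).toFinset.Nonempty := by
        rw [Multiset.toFinset_nonempty]
        intro h1
        have := sum_count_mul_natDegree (hm.map (Int.castRingHom ℚ))
        rw [h1, Multiset.toFinset_zero, Finset.sum_empty, hfd] at this
        omega
      obtain ⟨Q, hQ, hQd⟩ := exists_single (normalizedFactors f).toFinset (fun R => (normalizedFactors f).count R)
        (fun R => R.natDegree) (fun R hR => Multiset.count_pos.2 (Multiset.mem_toFinset.1 hR))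
        (fun R hR => (irreducible_of_normalized_factor R (Multiset.mem_toFinset.1 hR)).natDegree_pos) hne (by
          rw [sum_count_mul_natDegree (hm.map _), hfd, ← hdim, hrk]
          exact Finset.sum_congr rfl fun R _ => by rw [pow_two])
      have hQmem : Q ∈ normalizedFactors f := Multiset.mem_toFinset.1 (hQ ▸ Finset.mem_singleton_self Q)
      have hQm : Q.Monic := normalize_normalized_factor Q hQmem ▸
        Polynomial.monic_normalize (irreducible_of_normalized_factor Q hQmem).ne_zero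
      have hQc : Q = Polynomial.X - Polynomial.C (-Q.coeff 0) := by
        rw [map_neg, sub_neg_eq_add]
        exact hQm.eq_X_add_C hQd
      set c := -Q.coeff 0
      have hf : f = Q ^ (2 * g) := by
        have hall : normalizedFactors f = Multiset.replicate (normalizedFactors f).card Q :=
          Multiset.eq_replicate_card.2 fun R hR => Finset.mem_singleton.1 (hQ ▸ Multiset.mem_toFinset.2 hR)
        have hcard : (normalizedFactors f).card = 2 * g := by
          have := sum_count_mul_natDegree (hm.map (Int.castRingHom ℚ))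
          rw [hQ, Finset.sum_singleton, hQd, mul_one, hfd, hall, Multiset.count_replicate_self] at this
          exact this
        refine Polynomial.eq_of_monic_of_associated (hm.map _) (hQm.pow _) ?_
        have := prod_normalizedFactors (hm.map (Int.castRingHom ℚ)).ne_zero
        rw [hall, Multiset.prod_replicate, hcard] at this
        exact this.symm
      have hroot : Polynomial.aeval c P' = 0 := by
        rw [← Polynomial.eval_map_algebraMap, algebraMap_int_eq]
        show f.eval c = 0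
        rw [hf, hQc]
        simp [zero_pow (show 2 * g ≠ 0 by omega)]
      obtain ⟨a, ha⟩ := isInteger_of_is_root_of_monic hm hroot
      exact ⟨a, hlin a (by
        show f = _
        rw [hf, hQc, ← show (a : ℚ) = c from ha])⟩
  · obtain rfl := hto n hn
    rw [hrk, show Polynomial.map (Int.castRingHom ℚ) ((Polynomial.X - Polynomial.C n) ^ (2 * g)) =
      (Polynomial.X - Polynomial.C (n : ℚ)) ^ (2 * g) by simp [Polynomial.map_pow],
      sum_pow_irreducible (Polynomial.monic_X_sub_C _) (Polynomial.irreducible_X_sub_C _), Polynomial.natDegree_X_sub_C,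
      mul_one, pow_two]

include hπA hg in
/-- The elementary case. -/
theorem elementary (hK : IsField (EndAV.QAdj (EndAV.End.of πA))) :
    ∃ d : ℕ, Module.finrank ℚ (EndAV.End0 A) = Module.finrank ℚ (EndAV.QAdj (EndAV.End.of πA)) * d ^ 2 ∧
      d * Module.finrank ℚ (EndAV.QAdj (EndAV.End.of πA)) = 2 * g ∧
      ∀ (P' : Polynomial ℤ) (l : ℕ) [Fact l.Prime] (_ : (l : k) ≠ 0) (Ω : Type u) [Field Ω] [Algebra k Ω] [IsAlgClosed Ω]
        [Module.Free ℤ_[l] (AbDual.TateMod A l (SGA7.pt (K := k) Ω))]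
        [Module.Finite ℤ_[l] (AbDual.TateMod A l (SGA7.pt (K := k) Ω))],
        (AbDual.tateMapₗ (l := l) (T := SGA7.pt (K := k) Ω) πA).charpoly = P'.map (Int.castRingHom ℤ_[l]) →
          P'.map (Int.castRingHom ℚ) = minpoly ℚ (EndAV.toEnd0 (EndAV.End.of πA)) ^ d := by
  obtain ⟨P, hm, hd, hcp, hrk, hdvd, hdvd', hsq⟩ := exists_data hπA hg
  haveI := AVRosati.finite_End0 (A := A)
  have hi := (AVRosati.isField_qAdj_iff (EndAV.End.of πA)).1 hK
  have hmm := minpoly.monic (A := ℚ) (Algebra.IsIntegral.isIntegral (EndAV.toEnd0 (EndAV.End.of πA)))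
  obtain ⟨d, -, hd'⟩ := (dvd_prime_pow hi.prime _).1 hdvd'
  have hf := Polynomial.eq_of_monic_of_associated (hm.map _) (hmm.pow d) hd'
  refine ⟨d, ?_, ?_, fun P' l _ hl Ω _ _ _ _ _ hP' => ?_⟩
  · rw [hrk, hf, sum_pow_irreducible hmm hi, finrank_QAdj]
    ring
  · rw [finrank_QAdj, ← hmm.natDegree_pow, ← hf, hm.natDegree_map, hd]
  · rw [Polynomial.map_injective (Int.castRingHom ℤ_[l]) Int.cast_injective (hP'.symm.trans (hcp Ω l hl)), hf]

include hπA hg in
/-- The simple case. -/
theorem of_simple (hsimple : ∀ (B : Over (Spec (CommRingCat.of k))) [GrpObj B] [GeometricallyIntegral B.hom] (i : B ⟶ A) [IsMonHom i]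
      [IsClosedImmersion i.left], Subsingleton B.left ∨ IsIso i) :
    Module.Finite ℚ (EndAV.End0 A) ∧ ∃ n : ℕ,
      Module.finrank (EndAV.QAdj (EndAV.End.of πA)) (EndAV.End0 A) = n ^ 2 ∧
      n * Module.finrank ℚ (EndAV.QAdj (EndAV.End.of πA)) = 2 * g := by
  haveI := AVRosati.finite_End0 (A := A)
  refine ⟨inferInstance, ?_⟩
  rcases subsingleton_or_nontrivial (EndAV.End0 A) with hs | hs
  · refine ⟨1, ?_, ?_⟩
    · haveI : Subsingleton (EndAV.QAdj (EndAV.End.of πA)) := Subtype.val_injective.subsingleton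
      rw [one_pow, Module.finrank_subsingleton]
    · haveI : Subsingleton (EndAV.QAdj (EndAV.End.of πA)) := Subtype.val_injective.subsingleton
      have h1 := two_mul_le_finrank hπA hg
      rw [← finrank_End0, Module.finrank_zero_of_subsingleton] at h1
      rw [Module.finrank_zero_of_subsingleton]
      omega
  · haveI : NoZeroDivisors (EndAV.End0 A) := ⟨fun {a b} hab => or_iff_not_imp_left.2 fun ha =>
      ((S15655.result k A hsimple a ha).mul_right_eq_zero).1 hab⟩
    haveI : IsDomain (EndAV.End0 A) := NoZeroDivisors.to_isDomain _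
    have hK : IsField (EndAV.QAdj (EndAV.End.of πA)) :=
      (AVRosati.isField_qAdj_iff _).2 (minpoly.irreducible (Algebra.IsIntegral.isIntegral _))
    obtain ⟨d, h1, h2, -⟩ := elementary hπA hg hK
    refine ⟨d, ?_, h2⟩
    letI : Field (EndAV.QAdj (EndAV.End.of πA)) := @IsField.toField _ (EndAV.QAdj (EndAV.End.of πA)).toRing hK
    have hpos : 0 < Module.finrank ℚ (EndAV.QAdj (EndAV.End.of πA)) := Module.finrank_pos
    refine Nat.eq_of_mul_eq_mul_left hpos ?_
    rw [← h1, Module.finrank_mul_finrank]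

end Groth.Agent.AVFin

end
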