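import Groth.Agent.AVFin.Isog
import Groth.Agent.AVRosati.PointCount
import Groth.Agent.AVRosati.FrobRows

/-!
# The Galois group of a finite field acts on Tate modules through powers of Frobenius
-/

noncomputable section

set_option autoImplicit false
set_option backward.isDefEq.respectTransparency false
set_option backward.isDefEq.respectTransparency.types false
set_option linter.style.haveILetI false
set_option linter.overlappingInstances false
set_option linter.unusedSectionVars false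
set_option maxHeartbeats 1000000
set_option synthInstance.maxHeartbeats 400000

universe u

open CategoryTheory CategoryTheory.Limits AlgebraicGeometry MonoidalCategory CartesianMonoidalCategory
open scoped MonObj TensorProduct

attribute [-instance] CategoryTheory.catToReflQuiver

namespace Groth.Agent.AVFin

open Groth.Agent Groth.Agent.AVTate

variable {k Ω : Type u} [Field k] [Field Ω] [Algebra k Ω]

section Gal

variable {X : Over (Spec (CommRingCat.of k))}

theorem galAct_one (x : SGA7.Pts (K := k) Ω X) : SGA7.galAct 1 x = x := by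
  refine Over.OverMorphism.ext ?_
  show Spec.map (CommRingCat.ofHom ((1 : Ω ≃ₐ[k] Ω) : Ω →+* Ω)) ≫ x.left = x.left
  rw [show CommRingCat.ofHom ((1 : Ω ≃ₐ[k] Ω) : Ω →+* Ω) = 𝟙 (CommRingCat.of Ω) from rfl, Spec.map_id, Category.id_comp]

theorem galAct_mul (σ τ : Ω ≃ₐ[k] Ω) (x : SGA7.Pts (K := k) Ω X) :
    SGA7.galAct (σ * τ) x = SGA7.galAct σ (SGA7.galAct τ x) := by
  refine Over.OverMorphism.ext ?_
  show Spec.map (CommRingCat.ofHom ((σ * τ : Ω ≃ₐ[k] Ω) : Ω →+* Ω)) ≫ x.left =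
    Spec.map (CommRingCat.ofHom (σ : Ω →+* Ω)) ≫ Spec.map (CommRingCat.ofHom (τ : Ω →+* Ω)) ≫ x.left
  rw [← Spec.map_comp_assoc, ← CommRingCat.ofHom_comp]
  rfl

theorem galAct_fix_congr (x : SGA7.Pts (K := k) Ω X) (ρ σ σ' : Ω ≃ₐ[k] Ω) (hx : SGA7.galAct ρ x = x)
    (h : ∀ z : Ω, ρ z = z → σ z = σ' z) : SGA7.galAct σ x = SGA7.galAct σ' x := by
  set φ := Scheme.descResidueField (Scheme.stalkClosedPointTo x.left)
  have hφ : Spec.map φ ≫ X.left.fromSpecResidueField _ = x.left :=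
    Scheme.descResidueField_stalkClosedPointTo_fromSpecResidueField Ω X.left x.left
  have hρ : φ ≫ CommRingCat.ofHom (ρ : Ω →+* Ω) = φ := Spec.map_injective (by
    rw [Spec.map_comp, ← cancel_mono (X.left.fromSpecResidueField _), Category.assoc, hφ]
    exact congrArg (fun m => m.left) hx)
  refine Over.OverMorphism.ext ?_
  show Spec.map (CommRingCat.ofHom (σ : Ω →+* Ω)) ≫ x.left = Spec.map (CommRingCat.ofHom (σ' : Ω →+* Ω)) ≫ x.left
  rw [← hφ, ← Spec.map_comp_assoc, ← Spec.map_comp_assoc]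
  congr 2
  ext r
  exact h _ (congr($(hρ).hom r))

end Gal

variable [Finite k]

variable (k Ω) in
/-- the `#k`-power automorphism of an algebraic extension of a finite field -/
def frobO [Algebra.IsAlgebraic k Ω] : Ω ≃ₐ[k] Ω :=
  letI := Fintype.ofFinite k
  FiniteField.frobeniusAlgEquivOfAlgebraic k Ω

variable [Algebra.IsAlgebraic k Ω]

theorem frobO_pow_apply (j : ℕ) (z : Ω) : (frobO k Ω ^ j) z = z ^ (Nat.card k ^ j) := by
  letI := Fintype.ofFinite k
  rw [AlgEquiv.coe_pow, Nat.card_eq_fintype_card]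
  exact congrFun (FiniteField.coe_frobeniusAlgEquivOfAlgebraic_iterate k Ω j) z

theorem frobO_apply (z : Ω) : frobO k Ω z = z ^ Nat.card k := by
  simpa using frobO_pow_apply (k := k) 1 z

/-- On points Frobenius is the Galois action of the `#k`-power automorphism. -/
theorem galAct_frobO {A : Over (Spec (CommRingCat.of k))} (π : A ⟶ A) (hπ : WeilLib.IsPowMap π.left (Nat.card k))
    (x : SGA7.Pts (K := k) Ω A) : SGA7.galAct (frobO k Ω) x = x ≫ π := by
  obtain ⟨F, hF, -, -, hnat⟩ := AVRosati.exists_frob (k := k)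
  have h1 : π = F A 1 :=
    Over.OverMorphism.ext (AVRosati.isPowMap_unique hπ (pow_one (Nat.card k) ▸ hF A 1))
  rw [h1, ← hnat A (SGA7.pt Ω) x 1]
  haveI : IsAffine (SGA7.pt (K := k) Ω).left := inferInstanceAs (IsAffine (Spec (CommRingCat.of Ω)))
  refine congrArg (· ≫ x) (Over.OverMorphism.ext (ext_of_isAffine (CommRingCat.hom_ext (RingHom.ext fun s => ?_))))
  show (Spec.map (CommRingCat.ofHom (frobO k Ω : Ω →+* Ω))).appTop.hom s = ((F (SGA7.pt (K := k) Ω) 1).left.appTop).hom s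
  have h2 := (hF (SGA7.pt (K := k) Ω) 1).app ⊤ le_top s
  rw [pow_one] at h2
  rw [show (F (SGA7.pt (K := k) Ω) 1).left.appTop = (F (SGA7.pt (K := k) Ω) 1).left.appLE ⊤ ⊤ le_top from
    Scheme.Hom.app_eq_appLE _]
  refine Eq.trans ?_ h2.symm
  obtain ⟨c, rfl⟩ := (Scheme.ΓSpecIso (CommRingCat.of Ω)).commRingCatIsoToRingEquiv.symm.surjective s
  have hnat' := congr($(Scheme.ΓSpecIso_inv_naturality (CommRingCat.ofHom (frobO k Ω : Ω →+* Ω))).hom c)
  refine Eq.trans (Eq.trans ?_ hnat'.symm) ?_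
  · rfl
  · show (Scheme.ΓSpecIso (CommRingCat.of Ω)).inv.hom (frobO k Ω c) = _
    rw [frobO_apply, map_pow]
    rfl

theorem galAct_frobO_pow {A : Over (Spec (CommRingCat.of k))} [GrpObj A] [IsCommMonObj A]
    (π : EndAV.End A) (hπ : WeilLib.IsPowMap π.toHom.left (Nat.card k)) (j : ℕ) :
    ∀ x : SGA7.Pts (K := k) Ω A, SGA7.galAct (frobO k Ω ^ j) x = x ≫ (π ^ j).toHom := by
  induction j with
  | zero => intro x; rw [pow_zero, pow_zero, galAct_one, EndAV.End.toHom_one, Category.comp_id]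
  | succ j ih =>
    intro x
    rw [pow_succ', galAct_mul, galAct_frobO π.toHom hπ, ih, pow_succ', EndAV.End.toHom_mul, Category.assoc]

theorem isPowMap_of {A : Over (Spec (CommRingCat.of k))} (π : A ⟶ A) (hb : π.left.base = 𝟙 _)
    (hle : ∀ U : A.left.Opens, U ≤ π.left ⁻¹ᵁ U)
    (happ : ∀ (U : A.left.Opens) (s : Γ(A.left, U)), (π.left.appLE U U (hle U)).hom s = s ^ Nat.card k) :
    WeilLib.IsPowMap π.left (Nat.card k) :=
  ⟨fun x => congrArg (fun h => h x) hb, fun U _ s => happ U s⟩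

/-- Every automorphism is a power of Frobenius on the fixed field of a power of Frobenius. -/
theorem exists_pow_eqOn (σ : Ω ≃ₐ[k] Ω) {m : ℕ} (hm : 0 < m) :
    ∃ j : ℕ, ∀ z : Ω, z ^ (Nat.card k ^ m) = z → σ z = z ^ (Nat.card k ^ j) := by
  letI := Fintype.ofFinite k
  let L : IntermediateField k Ω := IntermediateField.fixedField (Subgroup.zpowers (frobO k Ω ^ m))
  have hL : ∀ z : Ω, z ∈ L ↔ z ^ (Nat.card k ^ m) = z := by
    intro z
    constructor
    · intro hz
      rw [← frobO_pow_apply m z]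
      exact hz ⟨_, Subgroup.mem_zpowers _⟩
    · rintro hz ⟨g, n, rfl⟩
      have h1 : (frobO k Ω ^ m) • z = z := (frobO_pow_apply m z).trans hz
      exact Subgroup.zpow_mem (MulAction.stabilizer _ z) h1 n
  haveI : Finite L := by
    have hQ : 1 < Nat.card k ^ m := Nat.one_lt_pow hm.ne' Finite.one_lt_card
    have hp : (Polynomial.X ^ (Nat.card k ^ m) - Polynomial.X : Polynomial Ω) ≠ 0 :=
      FiniteField.X_pow_card_sub_X_ne_zero Ω hQ
    refine (Set.Finite.subset (Polynomial.finite_setOfPred_isRoot hp) fun z (hz : z ∈ L) => ?_).to_subtype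
    simpa [Polynomial.IsRoot.def, sub_eq_zero] using (hL z).1 hz
  haveI : FiniteDimensional k L := Module.Finite.of_finite
  haveI : Normal k L := inferInstance
  obtain ⟨j, hj⟩ := (FiniteField.bijective_frobeniusAlgEquivOfAlgebraic_pow k L).2 (σ.restrictNormal L)
  refine ⟨j, fun z hz => ?_⟩
  have h1 := AlgEquiv.restrictNormal_commutes σ L ⟨z, (hL z).2 hz⟩
  rw [← hj] at h1
  refine h1.symm.trans ?_
  rw [AlgEquiv.coe_pow, FiniteField.coe_frobeniusAlgEquivOfAlgebraic_iterate]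
  simp [Nat.card_eq_fintype_card]

variable [IsAlgClosed Ω] {A : Over (Spec (CommRingCat.of k))} [GrpObj A] [IsCommMonObj A] [IsProper A.hom]
  [GeometricallyIntegral A.hom]

/-- Modulo `l ^ n` the Galois group acts on the Tate module through powers of Frobenius. -/
theorem exists_galT_component {l : ℕ} [Fact l.Prime] (hl : (l : k) ≠ 0) (π : EndAV.End A)
    (hπ : WeilLib.IsPowMap π.toHom.left (Nat.card k)) (n : ℕ) :
    ∃ m : ℕ, 0 < m ∧ ∀ m' : ℕ, m ∣ m' → ∀ (σ : Ω ≃ₐ[k] Ω) (j : ℕ),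
      (∀ z : Ω, z ^ (Nat.card k ^ m') = z → σ z = z ^ (Nat.card k ^ j)) →
      ∀ x : AbDual.TateMod A l (SGA7.pt (K := k) Ω),
      ((galT A l σ x : AbDual.TateMod A l (SGA7.pt (K := k) Ω)) : ℕ → Additive (SGA7.pt (K := k) Ω ⟶ A)) n =
        ((AbDual.tateMapₗ (l := l) (T := SGA7.pt (K := k) Ω) (π ^ j).toHom x :
          AbDual.TateMod A l (SGA7.pt (K := k) Ω)) : ℕ → Additive (SGA7.pt (K := k) Ω ⟶ A)) n := by
  obtain ⟨hp, hg'⟩ := AVTorsLib.isAV_bc (A := A) Ω
  haveI := hp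
  haveI := hg'
  haveI : IsIntegral (Red.bc (AVTorsLib.extMap (k := k) Ω) A).left :=
    GeometricallyIntegral.isIntegral_of_subsingleton (Red.bc (AVTorsLib.extMap (k := k) Ω) A).hom
  have hcard := AVTorsLib.pt_natCard_tor (A := A) Ω
    (VarDim.topologicalKrullDim_eq_deg_genericPoint (Red.bc (AVTorsLib.extMap (k := k) Ω) A).hom) (l ^ n)
    (by rw [Nat.cast_pow]; exact pow_ne_zero _ hl)
  let S := {x : SGA7.Pts (K := k) Ω A // x ^ l ^ n = 1}
  haveI : Finite S := by
    haveI : Finite (AVTorsLib.tor (P := Additive (SGA7.pt (K := k) Ω ⟶ A)) (l ^ n) :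
        AddSubgroup (Additive (SGA7.pt (K := k) Ω ⟶ A))) :=
      Nat.finite_of_card_ne_zero (by
        rw [hcard]
        exact pow_ne_zero _ (pow_ne_zero _ (Fact.out : l.Prime).ne_zero))
    refine Finite.of_injective
      (fun x : S => (⟨Additive.ofMul x.1, congrArg Additive.ofMul x.2⟩ :
        (AVTorsLib.tor (P := Additive (SGA7.pt (K := k) Ω ⟶ A)) (l ^ n) :
          AddSubgroup (Additive (SGA7.pt (K := k) Ω ⟶ A))))) fun x y h => Subtype.ext ?_
    exact congrArg (fun z => z.1.toMul) h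
  have hS : ∀ (g : Ω ≃ₐ[k] Ω) (x : S), SGA7.galAct g x.1 ^ l ^ n = 1 := fun g x => by
    show (SGA7.specAut g ≫ x.1) ^ l ^ n = 1
    rw [← MonObj.comp_pow, x.2, MonObj.comp_one]
  let act : (Ω ≃ₐ[k] Ω) →* Equiv.Perm S :=
    MonoidHom.toHomPerm
      { toFun := fun g (x : S) => (⟨SGA7.galAct g x.1, hS g x⟩ : S)
        map_one' := funext fun x => Subtype.ext (galAct_one x.1)
        map_mul' := fun g g' => funext fun x => Subtype.ext (galAct_mul g g' x.1) }
  refine ⟨orderOf (act (frobO k Ω)), orderOf_pos _, fun m hm σ j hj x => congrArg Additive.ofMul ?_⟩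
  set y := ((x : ℕ → Additive (SGA7.pt (K := k) Ω ⟶ A)) n).toMul
  have hy : y ^ l ^ n = 1 := congrArg Additive.toMul (x.torsion n)
  have hfix : SGA7.galAct (frobO k Ω ^ m) y = y := by
    have h1 : act (frobO k Ω ^ m) = 1 := by rw [map_pow, orderOf_dvd_iff_pow_eq_one.1 hm]
    exact congrArg (fun f : Equiv.Perm S => (f ⟨y, hy⟩).1) h1
  show SGA7.galAct σ y = y ≫ (π ^ j).toHom
  rw [← galAct_frobO_pow π hπ j y]
  refine galAct_fix_congr y _ _ _ hfix fun z hz => ?_
  rw [frobO_pow_apply] at hz ⊢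
  exact hj z hz

section Comm

variable {l : ℕ} [Fact l.Prime]

omit [IsAlgClosed Ω] [IsProper A.hom] [GeometricallyIntegral A.hom] in
/-- The Galois action of the `#k`-power automorphism is the Tate map of Frobenius. -/
theorem galT_frobO (π : A ⟶ A) [IsMonHom π] (hπ : WeilLib.IsPowMap π.left (Nat.card k)) :
    galT A l (frobO k Ω) = AbDual.tateMapₗ (l := l) (T := SGA7.pt (K := k) Ω) π :=
  LinearMap.ext fun _ => AbDual.TateMod.ext fun _ => congrArg Additive.ofMul (galAct_frobO π hπ _)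

variable {B : Over (Spec (CommRingCat.of k))} [GrpObj B] [IsCommMonObj B] [IsProper B.hom] [GeometricallyIntegral B.hom]
  (πA : A ⟶ A) [IsMonHom πA] (hπA : WeilLib.IsPowMap πA.left (Nat.card k))
  (πB : B ⟶ B) [IsMonHom πB] (hπB : WeilLib.IsPowMap πB.left (Nat.card k))

include hπA hπB in
/-- Maps of Tate modules commuting with Frobenius commute with the Galois group. -/
theorem galT_comm (hl : (l : k) ≠ 0)
    (u : AbDual.TateMod A l (SGA7.pt (K := k) Ω) →ₗ[ℤ_[l]] AbDual.TateMod B l (SGA7.pt (K := k) Ω))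
    (hu : u ∘ₗ AbDual.tateMapₗ (l := l) (T := SGA7.pt (K := k) Ω) πA =
      AbDual.tateMapₗ (l := l) (T := SGA7.pt (K := k) Ω) πB ∘ₗ u) (σ : Ω ≃ₐ[k] Ω) :
    u ∘ₗ galT A l σ = galT B l σ ∘ₗ u := by
  refine LinearMap.ext fun x => AbDual.TateMod.ext fun n => ?_
  obtain ⟨mA, hmA, hA⟩ := exists_galT_component (Ω := Ω) hl (EndAV.End.of πA) hπA n
  obtain ⟨mB, hmB, hB⟩ := exists_galT_component (Ω := Ω) hl (EndAV.End.of πB) hπB n
  obtain ⟨j, hj⟩ := exists_pow_eqOn σ (Nat.mul_pos hmA hmB)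
  have hA' := hA _ (dvd_mul_right mA mB) σ j hj x
  have hB' := hB _ (dvd_mul_left mB mA) σ j hj (u x)
  have hpow : ∀ y, u (EndAV.End.tateRep l (SGA7.pt (K := k) Ω) (EndAV.End.of πA ^ j) y) =
      EndAV.End.tateRep l (SGA7.pt (K := k) Ω) (EndAV.End.of πB ^ j) (u y) := by
    intro y
    rw [map_pow, map_pow]
    clear hA' hB' hj hA hB
    induction j generalizing y with
    | zero => rfl
    | succ j ih => rw [pow_succ', pow_succ', Module.End.mul_apply, Module.End.mul_apply, ← ih]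
                   exact LinearMap.congr_fun hu _
  let F : AbDual.TateMod A l (SGA7.pt (K := k) Ω) := galT A l σ x -
    EndAV.End.tateRep l (SGA7.pt (K := k) Ω) (EndAV.End.of πA ^ j) x
  obtain ⟨z, hz⟩ := exists_smul_eq_of_component F n (sub_eq_zero.2 hA')
  have h0 : ((u F : AbDual.TateMod B l (SGA7.pt (K := k) Ω)) : ℕ → Additive (SGA7.pt (K := k) Ω ⟶ B)) n = 0 := by
    rw [hz, map_smul]
    exact component_pow_smul _ n
  rw [show u F = u (galT A l σ x) - u (EndAV.End.tateRep l (SGA7.pt (K := k) Ω) (EndAV.End.of πA ^ j) x) from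
    map_sub u _ _, hpow] at h0
  exact (sub_eq_zero.1 h0).trans hB'.symm

/-- Rational maps become integral after scaling. -/
theorem exists_integral {M N : Type*} [AddCommGroup M] [Module ℤ_[l] M] [Module.Free ℤ_[l] M] [Module.Finite ℤ_[l] M]
    [AddCommGroup N] [Module ℤ_[l] N] (φ : ℚ_[l] ⊗[ℤ_[l]] M →ₗ[ℚ_[l]] ℚ_[l] ⊗[ℤ_[l]] N) :
    ∃ (c : ℕ) (u : M →ₗ[ℤ_[l]] N), ((l : ℚ_[l]) ^ c) • φ = u.baseChange ℚ_[l] := by
  let b := Module.Free.chooseBasis ℤ_[l] M
  choose m z hz using fun i => exists_pow_smul (φ (1 ⊗ₜ b i))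
  refine ⟨∑ i, m i, b.constr ℤ_[l] fun i => ((l : ℤ_[l]) ^ ((∑ i, m i) - m i)) • z i, ?_⟩
  refine (Algebra.TensorProduct.basis ℚ_[l] b).ext fun i => ?_
  simp only [Algebra.TensorProduct.basis_apply, LinearMap.smul_apply, LinearMap.baseChange_tmul, Module.Basis.constr_basis]
  rw [TensorProduct.tmul_smul, ← hz i, ← algebraMap_smul ℚ_[l] ((l : ℤ_[l]) ^ ((∑ i, m i) - m i)), map_pow, map_natCast,
    smul_smul, ← pow_add, Nat.sub_add_cancel (Finset.single_le_sum (fun j _ => Nat.zero_le (m j)) (Finset.mem_univ i))]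

include hπA hπB in
/-- Galois equivariance is commutation with Frobenius. -/
theorem comm_Vgal_iff [Normal k Ω] (hl : (l : k) ≠ 0) (φ : Vt l Ω A →ₗ[ℚ_[l]] Vt l Ω B) :
    (∀ σ : Ω ≃ₐ[k] Ω, φ ∘ₗ Vgal A σ = Vgal B σ ∘ₗ φ) ↔ φ ∘ₗ Vmap πA = Vmap πB ∘ₗ φ := by
  constructor
  · intro h
    have h1 := h (frobO k Ω)
    simpa only [Vgal, galT_frobO πA hπA, galT_frobO πB hπB] using h1
  · intro h σ
    haveI := (finite_tate (Ω := Ω) A hl).1
    haveI := (finite_tate (Ω := Ω) A hl).2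
    haveI := (finite_tate (Ω := Ω) B hl).1
    obtain ⟨c, u, hu⟩ := exists_integral φ
    have hl0 : ((l : ℚ_[l]) ^ c) ≠ 0 := pow_ne_zero _ (Nat.cast_ne_zero.2 (Fact.out : l.Prime).ne_zero)
    have h1 := galT_comm πA hπA πB hπB hl u (baseChange_injective (by
      rw [LinearMap.baseChange_comp, LinearMap.baseChange_comp, ← hu, LinearMap.smul_comp, LinearMap.comp_smul, h])) σ
    refine smul_right_injective _ hl0 ?_
    show ((l : ℚ_[l]) ^ c) • (φ ∘ₗ Vgal A σ) = ((l : ℚ_[l]) ^ c) • (Vgal B σ ∘ₗ φ)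
    rw [← LinearMap.smul_comp, ← LinearMap.comp_smul, hu, ← LinearMap.baseChange_comp, h1, LinearMap.baseChange_comp]

end Comm

end Groth.Agent.AVFin

end
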