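import Groth.Agent.AVFin.Tate
import Groth.Agent.S16588

/-!
# Tate's theorem: homomorphisms of abelian varieties over a finite field and their Tate modules
-/

noncomputable section

set_option autoImplicit false
set_option backward.isDefEq.respectTransparency false
set_option backward.isDefEq.respectTransparency.types false
set_option linter.style.haveILetI false
set_option linter.unusedSectionVars false
set_option maxHeartbeats 1000000
set_option synthInstance.maxHeartbeats 400000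

universe u

open CategoryTheory CategoryTheory.Limits AlgebraicGeometry MonoidalCategory CartesianMonoidalCategory
open scoped MonObj TensorProduct

attribute [-instance] CategoryTheory.catToReflQuiver

namespace Groth.Agent.AVFin

open Groth.Agent Groth.Agent.AVTate

attribute [local instance] isProper_tensor gi_tensor

variable {k : Type u} [Field k] [Finite k] {l : ℕ} [Fact l.Prime] {Ω : Type u} [Field Ω] [Algebra k Ω]

theorem finite_tate [IsAlgClosed Ω] (A : Over (Spec (CommRingCat.of k))) [GrpObj A] [IsCommMonObj A] [IsProper A.hom]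
    [GeometricallyIntegral A.hom] (hl : (l : k) ≠ 0) :
    Module.Free ℤ_[l] (AbDual.TateMod A l (SGA7.pt (K := k) Ω)) ∧
      Module.Finite ℤ_[l] (AbDual.TateMod A l (SGA7.pt (K := k) Ω)) := by
  obtain ⟨g, hg⟩ := AVDegPoly.exists_dim (A := A)
  exact ⟨(AVDegPoly.finrank_tateMod (A := A) Ω l hl hg).1, (AVDegPoly.finrank_tateMod (A := A) Ω l hl hg).2.1⟩

section Scalars

/-- Every `l`-adic number becomes integral after multiplication by a power of `l`. -/
theorem exists_pow_mul_int (q : ℚ_[l]) : ∃ (m : ℕ) (z : ℤ_[l]), (l : ℚ_[l]) ^ m * q = algebraMap ℤ_[l] ℚ_[l] z := by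
  obtain ⟨m, hm⟩ := pow_unbounded_of_one_lt ‖q‖ (show (1 : ℝ) < l by exact_mod_cast (Fact.out : l.Prime).one_lt)
  refine ⟨m, ⟨(l : ℚ_[l]) ^ m * q, ?_⟩, rfl⟩
  have hl0 : (0 : ℝ) < (l : ℝ) ^ m := pow_pos (by exact_mod_cast (Fact.out : l.Prime).pos) m
  rw [norm_mul, norm_pow, Padic.norm_p, inv_pow, inv_mul_le_iff₀ hl0, mul_one]
  exact hm.le

variable {M N : Type*} [AddCommGroup M] [Module ℤ_[l] M] [AddCommGroup N] [Module ℤ_[l] N]

theorem tmul_one_injective [Module.Free ℤ_[l] N] :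
    Function.Injective fun x : N => (1 : ℚ_[l]) ⊗ₜ[ℤ_[l]] x := by
  let b := Module.Free.chooseBasis ℤ_[l] N
  intro x y h
  refine b.repr.injective (Finsupp.ext fun i => ?_)
  have h' := congrArg (fun z => (Algebra.TensorProduct.basis ℚ_[l] b).repr z i) h
  simp only [Algebra.TensorProduct.basis_repr_tmul, Finsupp.mapRange_apply, one_smul] at h'
  exact IsFractionRing.injective ℤ_[l] ℚ_[l] h'

theorem baseChange_injective [Module.Free ℤ_[l] N] {f g : M →ₗ[ℤ_[l]] N} (h : f.baseChange ℚ_[l] = g.baseChange ℚ_[l]) :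
    f = g :=
  LinearMap.ext fun x => tmul_one_injective (l := l) (N := N) (by simpa using LinearMap.congr_fun h (1 ⊗ₜ x))

/-- Clearing denominators in a span of extended maps. -/
theorem exists_pow_smul_mem (s : Set (M →ₗ[ℤ_[l]] N)) {ψ : ℚ_[l] ⊗[ℤ_[l]] M →ₗ[ℚ_[l]] ℚ_[l] ⊗[ℤ_[l]] N}
    (h : ψ ∈ Submodule.span ℚ_[l] ((fun f => f.baseChange ℚ_[l]) '' s)) :
    ∃ c : ℕ, ∃ w ∈ Submodule.span ℤ_[l] s, ((l : ℚ_[l]) ^ c) • ψ = w.baseChange ℚ_[l] := by
  induction h using Submodule.span_induction with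
  | mem x hx =>
    obtain ⟨f, hf, rfl⟩ := hx
    exact ⟨0, f, Submodule.subset_span hf, by rw [pow_zero, one_smul]⟩
  | zero => exact ⟨0, 0, zero_mem _, by rw [smul_zero, LinearMap.baseChange_zero]⟩
  | add x y _ _ hx hy =>
    obtain ⟨c, w, hw, e⟩ := hx
    obtain ⟨c', w', hw', e'⟩ := hy
    refine ⟨c + c', ((l : ℤ_[l]) ^ c') • w + ((l : ℤ_[l]) ^ c) • w',
      add_mem (Submodule.smul_mem _ _ hw) (Submodule.smul_mem _ _ hw'), ?_⟩
    rw [LinearMap.baseChange_add, LinearMap.baseChange_smul, LinearMap.baseChange_smul, ← e, ← e',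
      ← algebraMap_smul ℚ_[l] ((l : ℤ_[l]) ^ c'), ← algebraMap_smul ℚ_[l] ((l : ℤ_[l]) ^ c), map_pow, map_pow,
      map_natCast, smul_smul, smul_smul, smul_add, pow_add]
    rw [mul_comm ((l : ℚ_[l]) ^ c') ((l : ℚ_[l]) ^ c)]
  | smul q x _ hx =>
    obtain ⟨c, w, hw, e⟩ := hx
    obtain ⟨m, z, hz⟩ := exists_pow_mul_int q
    refine ⟨c + m, z • w, Submodule.smul_mem _ _ hw, ?_⟩
    rw [LinearMap.baseChange_smul, ← e, ← algebraMap_smul ℚ_[l] z, ← hz, smul_smul, smul_smul, pow_add]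
    congr 1
    ring

end Scalars

variable [IsAlgClosed Ω] [Algebra.IsAlgebraic k Ω] [Normal k Ω]
  {A B : Over (Spec (CommRingCat.of k))}
  [GrpObj A] [IsCommMonObj A] [IsProper A.hom] [GeometricallyIntegral A.hom]
  [GrpObj B] [IsCommMonObj B] [IsProper B.hom] [GeometricallyIntegral B.hom]

/-- Semisimplicity and the double commutant over a finite field. -/
theorem semisimple_and_commutant (A : Over (Spec (CommRingCat.of k))) [GrpObj A] [IsCommMonObj A] [IsProper A.hom]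
    [GeometricallyIntegral A.hom] (hl : (l : k) ≠ 0) :
    (∀ W : Submodule ℚ_[l] (Vt l Ω A), (∀ τ : Ω ≃ₐ[k] Ω, W.map (Vgal A τ) ≤ W) →
        ∃ W' : Submodule ℚ_[l] (Vt l Ω A), IsCompl W W' ∧ ∀ τ : Ω ≃ₐ[k] Ω, W'.map (Vgal A τ) ≤ W') ∧
      ∀ φ : Module.End ℚ_[l] (Vt l Ω A), (∀ τ : Ω ≃ₐ[k] Ω, φ ∘ₗ Vgal A τ = Vgal A τ ∘ₗ φ) →
        φ ∈ endSpan l Ω A := by
  haveI := (finite_tate (Ω := Ω) A hl).2
  exact semisimple_and_commutant_of_range A hl fun Z _ _ _ _ W hW => exists_range_eq Z hl W hW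

variable (A B) in
/-- The maps of rational Tate modules given by homomorphisms. -/
def homSpanQ (l : ℕ) [Fact l.Prime] (Ω : Type u) [Field Ω] [Algebra k Ω] :
    Submodule ℚ_[l] (Vt l Ω A →ₗ[ℚ_[l]] Vt l Ω B) :=
  Submodule.span ℚ_[l] {ψ | ∃ (f : A ⟶ B) (_ : IsMonHom f), ψ = Vmap f}

/-- Tate's theorem, rationally. -/
theorem hom_rational (hl : (l : k) ≠ 0) (φ : Vt l Ω A →ₗ[ℚ_[l]] Vt l Ω B)
    (hφ : ∀ τ : Ω ≃ₐ[k] Ω, φ ∘ₗ Vgal A τ = Vgal B τ ∘ₗ φ) : φ ∈ homSpanQ A B l Ω := by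
  haveI : IsCommMonObj (A ⊗ B) := isCommMonObj_of_isProper_of_geometricallyIntegral (A ⊗ B)
  let l₁ : A ⟶ A ⊗ B := lift (𝟙 A) 1
  let l₂ : B ⟶ A ⊗ B := lift 1 (𝟙 B)
  haveI : IsMonHom l₁ := GrpSchLib.RigidHom.isMonHom_of_one l₁ (by
    ext1 <;> simp [l₁, comp_lift, MonObj.comp_one, MonObj.one_eq_one])
  haveI : IsMonHom l₂ := GrpSchLib.RigidHom.isMonHom_of_one l₂ (by
    ext1 <;> simp [l₂, comp_lift, MonObj.comp_one, MonObj.one_eq_one])
  let Φ : Module.End ℚ_[l] (Vt l Ω (A ⊗ B)) := Vmap l₂ ∘ₗ φ ∘ₗ Vmap (fst A B)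
  have hΦ := (semisimple_and_commutant (Ω := Ω) (A ⊗ B) hl).2 Φ fun τ => LinearMap.ext fun z => by
    show Vmap l₂ (φ (Vmap (fst A B) (Vgal (A ⊗ B) τ z))) = Vgal (A ⊗ B) τ (Vmap l₂ (φ (Vmap (fst A B) z)))
    rw [show Vmap (fst A B) (Vgal (A ⊗ B) τ z) = Vgal A τ (Vmap (fst A B) z) from
        LinearMap.congr_fun (Vmap_natural τ (fst A B)) z,
      show φ (Vgal A τ (Vmap (fst A B) z)) = Vgal B τ (φ (Vmap (fst A B) z)) from LinearMap.congr_fun (hφ τ) _]
    exact LinearMap.congr_fun (Vmap_natural τ l₂) _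
  have hφΦ : φ = Vmap (snd A B) ∘ₗ Φ ∘ₗ Vmap l₁ := LinearMap.ext fun x => by
    have h1 : ∀ x, Vmap (l := l) (Ω := Ω) (fst A B) (Vmap l₁ x) = x := fun x => by
      rw [← LinearMap.comp_apply, ← Vmap_comp, Vmap_congr (lift_fst (𝟙 A) (1 : A ⟶ B)), Vmap_id]; rfl
    have h2 : ∀ y, Vmap (l := l) (Ω := Ω) (snd A B) (Vmap l₂ y) = y := fun y => by
      rw [← LinearMap.comp_apply, ← Vmap_comp, Vmap_congr (lift_snd (1 : B ⟶ A) (𝟙 B)), Vmap_id]; rfl
    show φ x = Vmap (snd A B) (Vmap l₂ (φ (Vmap (fst A B) (Vmap l₁ x))))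
    rw [h1, h2]
  rw [hφΦ]
  clear hφΦ
  clear_value Φ
  induction hΦ using Submodule.span_induction with
  | mem x hx =>
    obtain ⟨f, hf, rfl⟩ := hx
    refine Submodule.subset_span ⟨(l₁ ≫ f) ≫ snd A B, inferInstance, ?_⟩
    rw [Vmap_comp, Vmap_comp]
  | zero => rw [LinearMap.zero_comp, LinearMap.comp_zero]; exact zero_mem _
  | add x y _ _ hx hy => rw [LinearMap.add_comp, LinearMap.comp_add]; exact add_mem hx hy
  | smul c x _ hx => rw [LinearMap.smul_comp, LinearMap.comp_smul]; exact Submodule.smul_mem _ c hx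

variable [IsAlgClosure k Ω]

/-- Tate's theorem, integrally. -/
theorem hom_integral (hl : (l : k) ≠ 0)
    (u : AbDual.TateMod A l (SGA7.pt (K := k) Ω) →ₗ[ℤ_[l]] AbDual.TateMod B l (SGA7.pt (K := k) Ω))
    (hu : ∀ τ : Ω ≃ₐ[k] Ω, u ∘ₗ galT A l τ = galT B l τ ∘ₗ u) : u ∈ homSpan l Ω A B := by
  haveI := (finite_tate (Ω := Ω) B hl).1
  have h := hom_rational hl (u.baseChange ℚ_[l]) fun τ => by
    rw [← LinearMap.baseChange_comp, hu, LinearMap.baseChange_comp]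
  obtain ⟨c, w, hw, hcw⟩ := exists_pow_smul_mem
    (Set.range (EndAV.Hom.tateMap (A := A) (B := B) l (SGA7.pt (K := k) Ω)))
    (Submodule.span_mono (by
      rintro _ ⟨f, hf, rfl⟩
      exact ⟨_, ⟨EndAV.Hom.of f, rfl⟩, rfl⟩) h)
  refine S16588.result k Ω l hl A B u c ?_
  rw [show ((l : ℤ_[l]) ^ c) • u = w from baseChange_injective (by
    rw [LinearMap.baseChange_smul, ← hcw, ← algebraMap_smul ℚ_[l] ((l : ℤ_[l]) ^ c), map_pow, map_natCast])]
  exact hw

end Groth.Agent.AVFin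

end
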