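import Groth.Agent.AVFin.HomThm
import Groth.Agent.AVDegPoly.DetVal
import Groth.Agent.S7790
import Mathlib.Algebra.MvPolynomial.Funext

/-!
# Isogenies of abelian varieties over finite fields and their Tate modules
-/

noncomputable section

set_option autoImplicit false
set_option backward.isDefEq.respectTransparency false
set_option backward.isDefEq.respectTransparency.types false
set_option linter.style.haveILetI false
set_option linter.unusedSectionVars false
set_option maxHeartbeats 1000000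
set_option synthInstance.maxHeartbeats 400000

universe u

open CategoryTheory CategoryTheory.Limits AlgebraicGeometry MonoidalCategory CartesianMonoidalCategory
open scoped MonObj TensorProduct

attribute [-instance] CategoryTheory.catToReflQuiver

namespace Groth.Agent.AVFin

open Groth.Agent Groth.Agent.AVTate

/-- A span over a field of characteristic zero contains a bijection only if the lattice does. -/
theorem exists_bijective_of_span {K V W G : Type*} [Field K] [CharZero K] [AddCommGroup V] [Module K V]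
    [FiniteDimensional K V] [AddCommGroup W] [Module K W] [AddCommGroup G] (Φ : G →+ (V →ₗ[K] W)) (e : V ≃ₗ[K] W)
    (he : e.toLinearMap ∈ Submodule.span K (Set.range Φ)) : ∃ g : G, Function.Bijective (Φ g) := by
  classical
  obtain ⟨c, hc⟩ := Finsupp.mem_span_range_iff_exists_finsupp.1 he
  let b := Module.finBasis K V
  let M : c.support → Matrix (Fin (Module.finrank K V)) (Fin (Module.finrank K V)) K := fun g =>
    LinearMap.toMatrix b b (e.symm.toLinearMap ∘ₗ Φ g.1)
  let P : MvPolynomial c.support K :=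
    (∑ g, (MvPolynomial.X g : MvPolynomial c.support K) • (M g).map MvPolynomial.C).det
  have hev : ∀ x : c.support → K, MvPolynomial.eval x P =
      LinearMap.det (e.symm.toLinearMap ∘ₗ ∑ g, x g • Φ g.1) := fun x => by
    rw [← LinearMap.det_toMatrix b, RingHom.map_det, show (e.symm.toLinearMap ∘ₗ ∑ g, x g • Φ g.1) = ∑ g, x g • (e.symm.toLinearMap ∘ₗ Φ g.1) from LinearMap.ext fun v => by simp [map_sum], map_sum]
    refine congrArg Matrix.det ?_
    ext i j
    simp [M, Matrix.sum_apply, LinearMap.comp_smul]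
  have hP : P ≠ 0 := fun h0 => by
    have h1 := hev fun g => c g.1
    rw [h0, map_zero, show (∑ g : c.support, c g.1 • Φ g.1) = e.toLinearMap by
      rw [← hc, Finsupp.sum, ← Finset.sum_attach c.support]
      rfl] at h1
    simp at h1
  obtain ⟨x, hx⟩ : ∃ x : c.support → ℤ, MvPolynomial.eval (fun g => ((x g : ℤ) : K)) P ≠ 0 := by
    by_contra h
    push_neg at h
    refine hP (MvPolynomial.funext_set (fun _ => Set.range (fun z : ℤ => (z : K)))
      (fun _ => Set.infinite_range_of_injective Int.cast_injective) fun y hy => ?_)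
    choose z hz using fun g => hy g (Set.mem_univ g)
    rw [map_zero, show y = fun g => ((z g : ℤ) : K) from (funext hz).symm]
    exact h z
  refine ⟨∑ g, x g • g.1, ?_⟩
  rw [hev, show (∑ g : c.support, ((x g : ℤ) : K) • Φ g.1) = Φ (∑ g, x g • g.1) by
    rw [map_sum]
    exact Finset.sum_congr rfl fun g _ => by rw [map_zsmul, Int.cast_smul_eq_zsmul]] at hx
  have hu : Function.Bijective (e.symm.toLinearMap ∘ₗ Φ (∑ g, x g • g.1)) :=
    (Module.End.isUnit_iff _).1 ((LinearMap.isUnit_iff_isUnit_det _).2 (isUnit_iff_ne_zero.2 hx))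
  exact (Function.Bijective.of_comp_iff' e.symm.bijective _).1 hu

attribute [local instance] isProper_tensor gi_tensor

variable {k : Type u} [Field k] [Finite k] {l : ℕ} [Fact l.Prime] {Ω : Type u} [Field Ω] [Algebra k Ω]
  [IsAlgClosed Ω] [Algebra.IsAlgebraic k Ω] [Normal k Ω] [IsAlgClosure k Ω]
  {A B : Over (Spec (CommRingCat.of k))}
  [GrpObj A] [IsCommMonObj A] [IsProper A.hom] [GeometricallyIntegral A.hom]
  [GrpObj B] [IsCommMonObj B] [IsProper B.hom] [GeometricallyIntegral B.hom]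

/-- The maps of rational Tate modules of homomorphisms, additively. -/
def Vhom : EndAV.Hom A B →+ (Vt l Ω A →ₗ[ℚ_[l]] Vt l Ω B) :=
  AddMonoidHom.mk' (fun f => (EndAV.Hom.tateMap l (SGA7.pt (K := k) Ω) f).baseChange ℚ_[l]) fun f g => by
    rw [map_add, LinearMap.baseChange_add]

theorem dim_eq_of_equiv (hl : (l : k) ≠ 0) (e : Vt l Ω A ≃ₗ[ℚ_[l]] Vt l Ω B) {g : ℕ}
    (hg : topologicalKrullDim A.left = g) : topologicalKrullDim B.left = g := by
  obtain ⟨h, hh⟩ := AVDegPoly.exists_dim (A := B)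
  obtain ⟨hAf, hAfin, hA⟩ := AVDegPoly.finrank_tateMod (A := A) Ω l hl hg
  obtain ⟨hBf, hBfin, hB⟩ := AVDegPoly.finrank_tateMod (A := B) Ω l hl hh
  haveI := hAf
  haveI := hBf
  have h1 := e.finrank_eq
  rw [Module.finrank_baseChange, Module.finrank_baseChange, hA, hB] at h1
  rw [hh, show h = g by omega]

omit [Finite k] [Algebra.IsAlgebraic k Ω] [Normal k Ω] [IsAlgClosure k Ω] in
/-- A homomorphism with a partner such that the composite has nonzero determinant is an isogeny. -/
theorem isogeny_of_det (hl : (l : k) ≠ 0) {g : ℕ} (hA : topologicalKrullDim A.left = g)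
    (hB : topologicalKrullDim B.left = g) (u : A ⟶ B) [IsMonHom u] (v : B ⟶ A) [IsMonHom v]
    (h : LinearMap.det (AbDual.tateMapₗ (l := l) (T := SGA7.pt (K := k) Ω) (u ≫ v)) ≠ 0) :
    IsFinite u.left ∧ Flat u.left ∧ Surjective u.left := by
  haveI := AVDegPoly.isFinite_of_det_ne_zero Ω l hl hA (u ≫ v) h
  haveI : IsProper v.left := by
    haveI : IsProper (v.left ≫ A.hom) := by rw [Over.w]; infer_instance
    exact IsProper.of_comp v.left A.hom
  haveI : IsFinite (u.left ≫ v.left) := by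
    rw [← Over.comp_left]
    infer_instance
  haveI : IsFinite u.left := IsFinite.of_comp u.left v.left
  obtain ⟨h1, h2, -⟩ := AVDegPoly.finite_props u hA hB
  exact ⟨inferInstance, h2, h1⟩

omit [Finite k] [Algebra.IsAlgebraic k Ω] [Normal k Ω] [IsAlgClosure k Ω] in
/-- An isogeny inverse up to a positive integer gives an isomorphism of rational Tate modules. -/
theorem equiv_of_isogeny (u : A ⟶ B) [IsMonHom u] (v : B ⟶ A) [IsMonHom v] {n : ℕ} (hn : 0 < n)
    (h₁ : u ≫ v = 𝟙 A ^ n) (h₂ : v ≫ u = 𝟙 B ^ n) :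
    ∃ e : Vt l Ω A ≃ₗ[ℚ_[l]] Vt l Ω B, e.toLinearMap = Vmap u := by
  haveI : IsMonHom (𝟙 A ^ n : A ⟶ A) := AVDegLib.isMonHom_pow (A := A) n
  haveI : IsMonHom (𝟙 B ^ n : B ⟶ B) := AVDegLib.isMonHom_pow (A := B) n
  have hn' : (n : ℚ_[l]) ≠ 0 := Nat.cast_ne_zero.2 hn.ne'
  have hpow : ∀ {X : Over (Spec (CommRingCat.of k))} [GrpObj X] [IsCommMonObj X] [IsMonHom (𝟙 X ^ n : X ⟶ X)],
      Vmap (l := l) (Ω := Ω) (𝟙 X ^ n : X ⟶ X) = (n : ℚ_[l]) • LinearMap.id := by
    intro X _ _ _
    rw [Vmap, tateMapₗ_pow, LinearMap.baseChange_smul, LinearMap.baseChange_id, ← algebraMap_smul ℚ_[l] (n : ℤ_[l]),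
      map_natCast]
  refine ⟨LinearEquiv.ofLinearMap (Vmap u) ((n : ℚ_[l])⁻¹ • Vmap v) ?_ ?_, rfl⟩
  · rw [LinearMap.comp_smul, ← Vmap_comp, Vmap_congr h₂, hpow, smul_smul, inv_mul_cancel₀ hn', one_smul]
  · rw [LinearMap.smul_comp, ← Vmap_comp, Vmap_congr h₁, hpow, smul_smul, inv_mul_cancel₀ hn', one_smul]

/-- Isogenous iff the rational Tate modules are isomorphic as Galois modules. -/
theorem isogenous_iff (hl : (l : k) ≠ 0) :
    (∃ (u : A ⟶ B) (_ : IsMonHom u) (v : B ⟶ A) (_ : IsMonHom v) (n : ℕ), 0 < n ∧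
        u ≫ v = (𝟙 A) ^ n ∧ v ≫ u = (𝟙 B) ^ n) ↔
      ∃ e : Vt l Ω A ≃ₗ[ℚ_[l]] Vt l Ω B, ∀ τ : Ω ≃ₐ[k] Ω, e.toLinearMap ∘ₗ Vgal A τ = Vgal B τ ∘ₗ e.toLinearMap := by
  constructor
  · rintro ⟨u, hu, v, hv, n, hn, h₁, h₂⟩
    obtain ⟨e, he⟩ := equiv_of_isogeny (l := l) (Ω := Ω) u v hn h₁ h₂
    exact ⟨e, fun τ => by rw [he]; exact Vmap_natural τ u⟩
  · rintro ⟨e, he⟩
    haveI := (finite_tate (Ω := Ω) A hl).2
    haveI := (finite_tate (Ω := Ω) B hl).2
    have he' : ∀ τ : Ω ≃ₐ[k] Ω, e.symm.toLinearMap ∘ₗ Vgal B τ = Vgal A τ ∘ₗ e.symm.toLinearMap := fun τ =>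
      LinearMap.ext fun x => e.injective (by
        show e (e.symm (Vgal B τ x)) = e (Vgal A τ (e.symm x))
        rw [e.apply_symm_apply, show e (Vgal A τ (e.symm x)) = Vgal B τ (e (e.symm x)) from LinearMap.congr_fun (he τ) _,
          e.apply_symm_apply])
    have hs : ∀ {X Y : Over (Spec (CommRingCat.of k))} [GrpObj X] [IsCommMonObj X] [GrpObj Y] [IsCommMonObj Y]
        [IsProper X.hom] [GeometricallyIntegral X.hom] [IsProper Y.hom] [GeometricallyIntegral Y.hom],
        homSpanQ X Y l Ω ≤ Submodule.span ℚ_[l] (Set.range (Vhom (l := l) (Ω := Ω) (A := X) (B := Y))) := by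
      intro X Y _ _ _ _ _ _ _ _
      refine Submodule.span_mono ?_
      rintro _ ⟨f, hf, rfl⟩
      exact ⟨EndAV.Hom.of f, rfl⟩
    obtain ⟨f, hf⟩ := exists_bijective_of_span Vhom e (hs (hom_rational hl _ he))
    obtain ⟨f', hf'⟩ := exists_bijective_of_span Vhom e.symm (hs (hom_rational hl _ he'))
    obtain ⟨g, hg⟩ := AVDegPoly.exists_dim (A := A)
    have hgB := dim_eq_of_equiv hl e hg
    let u := f.toHom
    let v := f'.toHom
    haveI := (finite_tate (Ω := Ω) A hl).1
    have hdet : LinearMap.det (AbDual.tateMapₗ (l := l) (T := SGA7.pt (K := k) Ω) (u ≫ v)) ≠ 0 := fun h0 => by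
      have hbij : Function.Bijective (Vmap (l := l) (Ω := Ω) (u ≫ v)) := by
        rw [Vmap_comp, LinearMap.coe_comp]
        exact hf'.comp hf
      have hu := (LinearMap.isUnit_iff_isUnit_det _).1 ((Module.End.isUnit_iff _).2 hbij)
      refine hu.ne_zero ?_
      rw [show Vmap (l := l) (Ω := Ω) (u ≫ v) = (AbDual.tateMapₗ (l := l) (T := SGA7.pt (K := k) Ω) (u ≫ v)).baseChange ℚ_[l]
        from rfl, LinearMap.det_baseChange, h0, map_zero]
    obtain ⟨h1, h2, h3⟩ := isogeny_of_det hl hg hgB u v hdet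
    haveI := h1
    haveI := h2
    haveI := h3
    obtain ⟨n, w, hn, hw, hn1, hn2, -, -, -⟩ := IsogLib.exists_quasiInverse u
    exact ⟨u, inferInstance, w, hw, n, hn, hn1, hn2⟩

/-- Tate modules isomorphic as Galois modules iff there is an isogeny of degree prime to `l`. -/
theorem tate_iso_iff (hl : (l : k) ≠ 0) :
    (∃ e : AbDual.TateMod A l (SGA7.pt (K := k) Ω) ≃ₗ[ℤ_[l]] AbDual.TateMod B l (SGA7.pt (K := k) Ω),
        ∀ τ : Ω ≃ₐ[k] Ω, e.toLinearMap ∘ₗ galT A l τ = galT B l τ ∘ₗ e.toLinearMap) ↔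
      ∃ (f : A ⟶ B) (_ : IsMonHom f) (g : B ⟶ A) (_ : IsMonHom g) (N : ℕ), 0 < N ∧ ¬ l ∣ N ∧
        f ≫ g = (𝟙 A) ^ N ∧ g ≫ f = (𝟙 B) ^ N := by
  constructor
  · rintro ⟨e, he⟩
    obtain ⟨g, hg⟩ := AVDegPoly.exists_dim (A := A)
    obtain ⟨hfA, hfinA, hrA⟩ := AVDegPoly.finrank_tateMod (A := A) Ω l hl hg
    haveI := hfA
    haveI := hfinA
    have hgB : topologicalKrullDim B.left = g := dim_eq_of_equiv hl (e.baseChange ℤ_[l] ℚ_[l] _ _) hg
    obtain ⟨bA⟩ := AVDegPoly.nonempty_basis (A := A) Ω l hl hg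
    have hmem := hom_integral hl e.toLinearMap he
    -- a homomorphism congruent to `e` modulo `l`
    have happrox : ∀ w ∈ homSpan l Ω A B, ∃ f : EndAV.Hom A B, ∀ x, ∃ z,
        w x = EndAV.Hom.tateMap l (SGA7.pt (K := k) Ω) f x + (l : ℤ_[l]) • z := by
      intro w hw
      induction hw using Submodule.span_induction with
      | mem x hx =>
        obtain ⟨f, rfl⟩ := hx
        exact ⟨f, fun y => ⟨0, by rw [smul_zero, add_zero]⟩⟩
      | zero => exact ⟨0, fun y => ⟨0, by rw [map_zero, smul_zero, add_zero]⟩⟩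
      | add x y _ _ hx hy =>
        obtain ⟨f, hf⟩ := hx
        obtain ⟨f', hf'⟩ := hy
        refine ⟨f + f', fun a => ?_⟩
        obtain ⟨z, hz⟩ := hf a
        obtain ⟨z', hz'⟩ := hf' a
        refine ⟨z + z', ?_⟩
        rw [LinearMap.add_apply, map_add, LinearMap.add_apply, hz, hz', smul_add]
        abel
      | smul c x _ hx =>
        obtain ⟨f, hf⟩ := hx
        obtain ⟨d, hd⟩ := Ideal.mem_span_singleton.1 (show c - ((c.appr 1 : ℕ) : ℤ_[l]) ∈ Ideal.span {(l : ℤ_[l])} by
          simpa using PadicInt.appr_spec 1 c)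
        refine ⟨c.appr 1 • f, fun a => ?_⟩
        obtain ⟨z, hz⟩ := hf a
        refine ⟨d • EndAV.Hom.tateMap l (SGA7.pt (K := k) Ω) f a + c • z, ?_⟩
        have hc : c = ((c.appr 1 : ℕ) : ℤ_[l]) + (l : ℤ_[l]) * d := by rw [← hd, add_sub_cancel]
        rw [LinearMap.smul_apply, hz, map_nsmul, LinearMap.smul_apply, ← Nat.cast_smul_eq_nsmul ℤ_[l], smul_add, smul_add,
          smul_smul (l : ℤ_[l]) d, smul_comm (l : ℤ_[l]) c z, ← add_assoc, ← add_smul, ← hc]
    obtain ⟨f, hf⟩ := happrox _ hmem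
    choose z hz using hf
    let bB := bA.map e
    let u := f.toHom
    let M := LinearMap.toMatrix bA bB (AbDual.tateMapₗ (l := l) (T := SGA7.pt (K := k) Ω) u)
    have hM : ∀ i j, (1 : Matrix (Fin (2 * g)) (Fin (2 * g)) ℤ_[l]) i j - M i j ∈ IsLocalRing.maximalIdeal ℤ_[l] := by
      intro i j
      have h1 := congrArg (fun y => bB.repr y i) (hz (bA j))
      simp only [LinearEquiv.coe_coe, map_add, map_smul, Finsupp.add_apply, Finsupp.smul_apply, EndAV.Hom.tateMap_apply,
        show e (bA j) = bB j from (Module.Basis.map_apply bA e j).symm, Module.Basis.repr_self] at h1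
      rw [show M i j = bB.repr (AbDual.tateMapₗ (l := l) (T := SGA7.pt (K := k) Ω) u (bA j)) i from
        LinearMap.toMatrix_apply _ _ _ i j, Matrix.one_apply, PadicInt.maximalIdeal_eq_span_p,
        Ideal.mem_span_singleton]
      refine ⟨bB.repr (z (bA j)) i, ?_⟩
      rw [sub_eq_iff_eq_add']
      simp only [smul_eq_mul] at h1
      rw [← h1]
      by_cases hij : i = j
      · subst hij; simp
      · simp [hij, Ne.symm hij]
    have hdet : IsUnit M.det := by
      refine (isUnit_map_iff (IsLocalRing.residue ℤ_[l]) M.det).1 ?_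
      rw [RingHom.map_det, show (IsLocalRing.residue ℤ_[l]).mapMatrix M = 1 from ?_, Matrix.det_one]
      · exact isUnit_one
      ext i j
      have := (IsLocalRing.residue_eq_zero_iff _).2 (hM i j)
      rw [map_sub, sub_eq_zero] at this
      simp only [RingHom.mapMatrix_apply, Matrix.map_apply, ← this]
      by_cases hij : i = j
      · subst hij; simp
      · simp [hij]
    have hbij : Function.Bijective (Vmap (l := l) (Ω := Ω) u) := by
      have := LinearEquiv.ofIsUnitDet hdet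
      exact ((LinearEquiv.ofIsUnitDet hdet).baseChange ℤ_[l] ℚ_[l] _ _).bijective
    haveI := (finite_tate (Ω := Ω) B hl).2
    obtain ⟨f', hf'⟩ := exists_bijective_of_span (Vhom (l := l) (Ω := Ω) (A := B) (B := A))
      (e.baseChange ℤ_[l] ℚ_[l] _ _).symm (by
        refine Submodule.span_mono ?_ (hom_rational hl _ fun τ => ?_)
        · rintro _ ⟨f, hf, rfl⟩
          exact ⟨EndAV.Hom.of f, rfl⟩
        · refine LinearMap.ext fun x => (e.baseChange ℤ_[l] ℚ_[l] _ _).injective ?_
          show (e.baseChange ℤ_[l] ℚ_[l] _ _) ((e.baseChange ℤ_[l] ℚ_[l] _ _).symm (Vgal B τ x)) =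
            (e.baseChange ℤ_[l] ℚ_[l] _ _) (Vgal A τ ((e.baseChange ℤ_[l] ℚ_[l] _ _).symm x))
          have h2 : ∀ y, (e.baseChange ℤ_[l] ℚ_[l] _ _) (Vgal A τ y) = Vgal B τ ((e.baseChange ℤ_[l] ℚ_[l] _ _) y) := fun y => by
            induction y using TensorProduct.induction_on with
            | zero => simp
            | add a b ha hb => rw [map_add, map_add, map_add, map_add, ha, hb]
            | tmul c a =>
              show c ⊗ₜ[ℤ_[l]] e (galT A l τ a) = c ⊗ₜ galT B l τ (e a)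
              rw [show e (galT A l τ a) = galT B l τ (e a) from LinearMap.congr_fun (he τ) a]
          rw [LinearEquiv.apply_symm_apply, h2, LinearEquiv.apply_symm_apply])
    have hdet' : LinearMap.det (AbDual.tateMapₗ (l := l) (T := SGA7.pt (K := k) Ω) (u ≫ f'.toHom)) ≠ 0 := fun h0 => by
      have hb2 : Function.Bijective (Vmap (l := l) (Ω := Ω) (u ≫ f'.toHom)) := by
        rw [Vmap_comp, LinearMap.coe_comp]
        exact hf'.comp hbij
      refine ((LinearMap.isUnit_iff_isUnit_det _).1 ((Module.End.isUnit_iff _).2 hb2)).ne_zero ?_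
      rw [show Vmap (l := l) (Ω := Ω) (u ≫ f'.toHom) =
        (AbDual.tateMapₗ (l := l) (T := SGA7.pt (K := k) Ω) (u ≫ f'.toHom)).baseChange ℚ_[l] from rfl,
        LinearMap.det_baseChange, h0, map_zero]
    obtain ⟨h1, h2, h3⟩ := isogeny_of_det hl hg hgB u f'.toHom hdet'
    haveI := h1
    haveI := h2
    haveI := h3
    let b₀ := η[B].left (IsLocalRing.closedPoint k)
    obtain ⟨-, hval⟩ := AVDegPoly.valuation_det Ω l hl hg hgB u bA bB b₀
    rw [show (LinearMap.toMatrix bA bB (AbDual.tateMapₗ (l := l) (T := SGA7.pt (K := k) Ω) u)).det.valuation = 0 from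
      AVDegPoly.valuation_eq_zero_of_isUnit hdet] at hval
    have hpos := AVDegPoly.finrank_pos hg hgB u b₀
    haveI : Smooth A.hom := S7795.result A
    haveI : Smooth B.hom := S7795.result B
    haveI : GeometricallyConnected A.hom := H23.CubeAb.geometricallyConnected_of_integral A.hom
    haveI : GeometricallyConnected B.hom := H23.CubeAb.geometricallyConnected_of_integral B.hom
    haveI : GeometricallyReduced A.hom := H23.RigidGamma.geometricallyReduced_of_smooth A.hom
    haveI : GeometricallyReduced B.hom := H23.RigidGamma.geometricallyReduced_of_smooth B.hom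
    obtain ⟨⟨w, ⟨hw, hw1⟩, -⟩, hall⟩ := S7790.result A B u (u.left.finrank b₀) hpos
      fun s => AVDegPoly.finrank_const hg hgB u _ b₀
    refine ⟨u, inferInstance, w, hw, u.left.finrank b₀, hpos, fun hdvd => ?_, hw1, (hall w hw hw1).1⟩
    have := one_le_padicValNat_of_dvd hpos.ne' hdvd
    omega
  · rintro ⟨f, hf, g, hg, N, hN, hlN, h₁, h₂⟩
    haveI : IsMonHom (𝟙 A ^ N : A ⟶ A) := AVDegLib.isMonHom_pow (A := A) N
    haveI : IsMonHom (𝟙 B ^ N : B ⟶ B) := AVDegLib.isMonHom_pow (A := B) N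
    have hu : IsUnit (N : ℤ_[l]) := by
      rw [PadicInt.isUnit_iff, PadicInt.norm_natCast_eq_one_iff]
      exact (Nat.Prime.coprime_iff_not_dvd Fact.out).2 hlN
    obtain ⟨U, hU⟩ := hu
    refine ⟨LinearEquiv.ofLinearMap (AbDual.tateMapₗ f) ((↑U⁻¹ : ℤ_[l]) • AbDual.tateMapₗ g) ?_ ?_, fun τ => galT_natural τ f⟩
    · rw [LinearMap.comp_smul, ← tateMapₗ_comp, tateMapₗ_congr h₂, tateMapₗ_pow, smul_smul, ← hU, Units.inv_mul, one_smul]
    · rw [LinearMap.smul_comp, ← tateMapₗ_comp, tateMapₗ_congr h₁, tateMapₗ_pow, smul_smul, ← hU, Units.inv_mul, one_smul]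

end Groth.Agent.AVFin

end
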