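import Groth.Agent.AVFin.Polar
import Groth.Agent.AVFin.Isog
import Groth.Agent.GrpSchLib.HomFlat
import Groth.Agent.IsogLib.Field
import Groth.Agent.AVRosati.KernelPoint

/-!
# Finiteness of polarised abelian varieties in an isogeny class
-/

noncomputable section

set_option autoImplicit false
set_option backward.isDefEq.respectTransparency false
set_option backward.isDefEq.respectTransparency.types false
set_option linter.style.haveILetI false
set_option linter.unusedSectionVars false
set_option maxHeartbeats 1000000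
set_option synthInstance.maxHeartbeats 400000

universe u

open CategoryTheory CategoryTheory.Limits MonoidalCategory CartesianMonoidalCategory MonObj AlgebraicGeometry

attribute [-instance] CategoryTheory.catToReflQuiver

namespace Groth.Agent.AVFin

open Groth.Agent

variable {k : Type u} [Field k]

/-- A finite surjective homomorphism of abelian varieties over a finite field preserves the dimension. -/
theorem dim_eq_of_hom [Finite k] {A B : Over (Spec (CommRingCat.of k))} [GrpObj A] [IsCommMonObj A] [IsProper A.hom]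
    [GeometricallyIntegral A.hom] [GrpObj B] [IsCommMonObj B] [IsProper B.hom] [GeometricallyIntegral B.hom]
    (u : A ⟶ B) [IsMonHom u] [IsFinite u.left] [Surjective u.left] {g : ℕ} (hg : topologicalKrullDim A.left = g) :
    topologicalKrullDim B.left = g := by
  haveI : IsIntegral B.left := H23.MaxAbelian.isIntegral_of_geometricallyIntegral
  haveI : Flat u.left := GrpSchLib.flat_of_surjective_hom u
  obtain ⟨n, v, hn, hv, h₁, h₂, -⟩ := IsogLib.exists_quasiInverse u
  haveI := hv
  let Ω := AlgebraicClosure k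
  obtain ⟨l, hl, hlk⟩ : ∃ l : ℕ, l.Prime ∧ (l : k) ≠ 0 := by
    by_cases h2 : ((2 : ℕ) : k) = 0
    · refine ⟨3, Nat.prime_three, fun h3 => one_ne_zero (α := k) ?_⟩
      calc (1 : k) = ((3 : ℕ) : k) - ((2 : ℕ) : k) := by norm_num
        _ = 0 := by rw [h3, h2, sub_zero]
    · exact ⟨2, Nat.prime_two, h2⟩
  haveI : Fact l.Prime := ⟨hl⟩
  haveI := (finite_tate (Ω := Ω) A hlk).1
  haveI := (finite_tate (Ω := Ω) A hlk).2
  haveI := (finite_tate (Ω := Ω) B hlk).1
  haveI := (finite_tate (Ω := Ω) B hlk).2
  obtain ⟨e, -⟩ := equiv_of_isogeny (l := l) (Ω := Ω) u v hn h₁ h₂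
  exact dim_eq_of_equiv hlk e hg

/-- An abelian variety of dimension zero is trivial. -/
theorem iso_unit_of_dim_zero {B : Over (Spec (CommRingCat.of k))} [GrpObj B] [IsProper B.hom]
    [GeometricallyIntegral B.hom] (h : topologicalKrullDim B.left = ((0 : ℕ) : WithBot ℕ∞)) :
    Nonempty (B ≅ 𝟙_ (Over (Spec (CommRingCat.of k)))) := by
  haveI : IsIntegral B.left := H23.MaxAbelian.isIntegral_of_geometricallyIntegral
  haveI : Subsingleton B.left := by
    refine ⟨fun x y => ?_⟩
    have hx : IsMax (⟨closure {x}, isIrreducible_singleton.closure, isClosed_closure⟩ : TopologicalSpace.IrreducibleCloseds B.left) := Order.krullDim_nonpos_iff_forall_isMax.1 h.le _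
    have hy : IsMax (⟨closure {y}, isIrreducible_singleton.closure, isClosed_closure⟩ : TopologicalSpace.IrreducibleCloseds B.left) := Order.krullDim_nonpos_iff_forall_isMax.1 h.le _
    let top : TopologicalSpace.IrreducibleCloseds B.left := ⟨Set.univ, IrreducibleSpace.isIrreducible_univ _, isClosed_univ⟩
    have e1 := hx.eq_of_le (show _ ≤ top from Set.subset_univ _)
    have e2 := hy.eq_of_le (show _ ≤ top from Set.subset_univ _)
    have e := congrArg (fun Z : TopologicalSpace.IrreducibleCloseds B.left => (Z : Set B.left)) (e1.trans e2.symm)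
    exact ((inseparable_iff_closure_eq).2 e).eq
  haveI : IsClosedImmersion η[B].left := AVRosati.KernelPoint.isClosedImmersion_unit
  haveI : Surjective η[B].left := ⟨fun y => ⟨IsLocalRing.closedPoint k, Subsingleton.elim _ _⟩⟩
  haveI : IsIso η[B].left := isIso_of_isClosedImmersion_of_surjective η[B].left
  haveI : IsIso η[B] := by
    haveI : IsIso ((Over.forget _).map η[B]) := inferInstanceAs (IsIso η[B].left)
    exact isIso_of_reflects_iso η[B] (Over.forget _)
  exact ⟨(asIso η[B]).symm⟩

/-- Finiteness of polarised abelian varieties of given degree in an isogeny class over a finite field. -/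
theorem finite_isogenous_polarized [Finite k] (A : Over (Spec (CommRingCat.of k)))
    [GrpObj A] [IsCommMonObj A] [IsProper A.hom] [GeometricallyIntegral A.hom] (d : ℕ) (hd : 1 ≤ d) :
    ∃ (n : ℕ) (Bs : Fin n → Over (Spec (CommRingCat.of k))),
      ∀ (B Bt : Over (Spec (CommRingCat.of k))) [GrpObj B] [IsCommMonObj B] [IsProper B.hom] [GeometricallyIntegral B.hom]
        [GrpObj Bt] [IsCommMonObj Bt] (φ : AgPol.DualMap B Bt),
        AbDual.IsDualAV Scheme.fppfPrecoverage B Bt φ →
        ∀ lam : B ⟶ Bt, AgPol.IsPolarization B Bt φ lam → AgPol.HasDegSq lam d →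
        (∃ (u : A ⟶ B) (_ : IsMonHom u), IsFinite u.left ∧ Function.Surjective u.left.base) →
        ∃ i : Fin n, Nonempty (B ≅ Bs i) := by
  obtain ⟨g, hg⟩ := AVDegPoly.exists_dim (A := A)
  rcases Nat.eq_zero_or_pos g with rfl | hg1
  · refine ⟨1, fun _ => 𝟙_ _, ?_⟩
    intro B Bt _ _ _ _ _ _ φ _ lam _ _ ⟨u, hu, hf, hs⟩
    haveI := hu
    haveI := hf
    haveI : Surjective u.left := ⟨hs⟩
    exact ⟨0, iso_unit_of_dim_zero (dim_eq_of_hom u hg)⟩
  obtain ⟨T, hT, hall⟩ := finite_classes k g (2 ^ g * d) hg1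
  obtain ⟨n, f, -, hf⟩ := hT.fin_param
  refine ⟨n, f, ?_⟩
  intro B Bt _ _ _ _ _ _ φ hφ lam hlam hdeg ⟨u, hu, hfin, hs⟩
  haveI := hu
  haveI := hfin
  haveI : Surjective u.left := ⟨hs⟩
  have hgB := dim_eq_of_hom u hg
  obtain ⟨L, hL, hchi⟩ := exists_ample_of_polarization B Bt φ hφ lam hlam hd hdeg hgB
  obtain ⟨W, hW, hBW⟩ := hall B hgB L hL hchi
  rw [← hf] at hW
  obtain ⟨i, rfl⟩ := hW
  exact ⟨i, hBW⟩

end Groth.Agent.AVFin

end
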