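import Groth.Agent.AVFin.Basic
import Groth.Agent.AVRosati.Pair
import Groth.Agent.AVEuler.Degenerate
import Groth.Agent.AVEuler.Isogeny
import Groth.Agent.FinDesc.Degree
import Groth.Agent.S9816
import Groth.Agent.FpqcDescLib.Group

/-!
# Euler characteristics and ampleness of exterior products, and degrees of products of isogenies
-/

noncomputable section

set_option autoImplicit false
set_option backward.isDefEq.respectTransparency false
set_option backward.isDefEq.respectTransparency.types false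
set_option linter.style.haveILetI false
set_option linter.unusedSectionVars false
set_option maxHeartbeats 1000000
set_option synthInstance.maxHeartbeats 400000

universe u

open CategoryTheory CategoryTheory.Limits AlgebraicGeometry MonoidalCategory CartesianMonoidalCategory
open scoped MonObj Groth.Agent.H23.PicMul

attribute [-instance] CategoryTheory.catToReflQuiver

namespace Groth.Agent.AVFin

open Groth.Agent Groth.Agent.AVRosati

variable {k : Type u} [Field k]

/-- Products of proper schemes are proper. -/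
theorem isProper_tensor (A B : Over (Spec (CommRingCat.of k))) [IsProper A.hom] [IsProper B.hom] :
    IsProper (A ⊗ B).hom :=
  inferInstanceAs (IsProper (pullback.fst A.hom B.hom ≫ A.hom))

theorem gi_tensor (A B : Over (Spec (CommRingCat.of k))) [GeometricallyIntegral A.hom] [GeometricallyIntegral B.hom]
    [GrpObj A] [GrpObj B] [IsProper A.hom] [IsProper B.hom] : GeometricallyIntegral (A ⊗ B).hom :=
  H23.MaxAbelian.geometricallyIntegral_tensor A B

attribute [local instance] isProper_tensor gi_tensor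

/-- The Euler characteristic of a class. -/
abbrev χU {T : Over (Spec (CommRingCat.of k))} [IsProper T.hom] (c : U T) : ℤ :=
  AVEuler.chi T (c : PicF.Cl T.left)

/-- An ample class. -/
def Amp {T : Over (Spec (CommRingCat.of k))} (c : U T) : Prop :=
  ∃ L : T.left.Modules, PicF.cl L = (c : PicF.Cl T.left) ∧ CohB1.IsAmple L

theorem Amp.inv {T : Over (Spec (CommRingCat.of k))} {c : U T} (h : Amp c) : Inv c :=
  let ⟨L, hL, ha⟩ := h
  ⟨L, hL, ha.1⟩

theorem χU_iso {S T : Over (Spec (CommRingCat.of k))} [IsProper S.hom] [IsProper T.hom] (θ : S ⟶ T) [IsIso θ.left]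
    {c : U T} (hc : Inv c) : χU (pb θ c) = χU c :=
  AVEuler.chi_iso T θ hc

/-- The exterior product of two classes. -/
def box {X Y : Over (Spec (CommRingCat.of k))} (a : U X) (b : U Y) : U (X ⊗ Y) := pb (fst X Y) a * pb (snd X Y) b

theorem Amp.box {X Y : Over (Spec (CommRingCat.of k))} [IsProper X.hom] [IsProper Y.hom] {a : U X} {b : U Y}
    (ha : Amp a) (hb : Amp b) : Amp (box a b) := by
  obtain ⟨L, hL, hLa⟩ := ha
  obtain ⟨N, hN, hNa⟩ := hb
  refine ⟨_, ?_, S9816.result X.hom Y.hom L N hLa hNa⟩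
  rw [H23.PicMul.cl_tensor]
  show PicF.pullCl (fst X Y).left (PicF.cl L) * PicF.pullCl (snd X Y).left (PicF.cl N) = _
  rw [hL, hN]
  rfl

theorem χU_box (X Y : Over (Spec (CommRingCat.of k))) [GrpObj X] [IsProper X.hom] [GeometricallyIntegral X.hom]
    [GrpObj Y] [IsProper Y.hom] [GeometricallyIntegral Y.hom] {a : U X} {b : U Y} (ha : Inv a) (hb : Amp b) :
    χU (box a b) = χU a * χU b := by
  obtain ⟨H, hH, hHa⟩ := id hb
  haveI : IsCommMonObj Y := isCommMonObj_of_isProper_of_geometricallyIntegral Y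
  haveI : IsCommMonObj (X ⊗ Y) := isCommMonObj_of_isProper_of_geometricallyIntegral (X ⊗ Y)
  obtain ⟨dY, hdY⟩ := AVDegPoly.exists_dim (A := Y)
  obtain ⟨dT, hdT⟩ := AVDegPoly.exists_dim (A := X ⊗ Y)
  have h := AVEuler.chi_box X Y hdY.le hdT.le hHa a ha b hb.inv
  rw [FinDesc.kappa_eq_one, one_mul] at h
  exact h

/-- A map multiplying Euler characteristics by `d`, also after products with abelian varieties. -/
structure Deg {X Y : Over (Spec (CommRingCat.of k))} [IsProper X.hom] [IsProper Y.hom] (f : X ⟶ Y) (d : ℕ) : Prop where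
  finite : ∀ (A : Over (Spec (CommRingCat.of k))), IsFinite (A ◁ f).left
  surj : ∀ (A : Over (Spec (CommRingCat.of k))), Surjective (A ◁ f).left
  chi : ∀ (A : Over (Spec (CommRingCat.of k))) [GrpObj A] [IsProper A.hom] [GeometricallyIntegral A.hom]
    (c : U (A ⊗ Y)), Inv c → χU (pb (A ◁ f) c) = d * χU c

section

variable {X Y W : Over (Spec (CommRingCat.of k))} [IsProper X.hom] [IsProper Y.hom] [IsProper W.hom]

theorem Deg.comp {f : X ⟶ Y} {g : Y ⟶ W} {d e : ℕ} (hf : Deg f d) (hg : Deg g e) : Deg (f ≫ g) (d * e) where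
  finite A := by
    haveI := hf.finite A
    haveI := hg.finite A
    rw [MonoidalCategory.whiskerLeft_comp, Over.comp_left]
    infer_instance
  surj A := by
    haveI := hf.surj A
    haveI := hg.surj A
    rw [MonoidalCategory.whiskerLeft_comp, Over.comp_left]
    infer_instance
  chi A _ _ _ c hc := by
    rw [MonoidalCategory.whiskerLeft_comp, ← pb_pb, hf.chi A _ (inv_pb _ hc), hg.chi A c hc]
    push_cast
    ring

theorem isFinite_conj {S S' T T' : Over (Spec (CommRingCat.of k))} (a : S ≅ S') (g : S' ⟶ T') (b : T ≅ T')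
    {f : S ⟶ T} (hf : f = a.hom ≫ g ≫ b.inv) [IsFinite g.left] : IsFinite f.left := by
  haveI : IsIso a.hom.left := (Over.forget _).map_isIso a.hom
  haveI : IsIso b.inv.left := (Over.forget _).map_isIso b.inv
  rw [hf, Over.comp_left, Over.comp_left]
  infer_instance

theorem surjective_conj {S S' T T' : Over (Spec (CommRingCat.of k))} (a : S ≅ S') (g : S' ⟶ T') (b : T ≅ T')
    {f : S ⟶ T} (hf : f = a.hom ≫ g ≫ b.inv) [Surjective g.left] : Surjective f.left := by
  haveI : IsIso a.hom.left := (Over.forget _).map_isIso a.hom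
  haveI : IsIso b.inv.left := (Over.forget _).map_isIso b.inv
  rw [hf, Over.comp_left, Over.comp_left]
  infer_instance

theorem χU_conj {S S' T T' : Over (Spec (CommRingCat.of k))} [IsProper S.hom] [IsProper S'.hom] [IsProper T.hom]
    [IsProper T'.hom] (a : S ≅ S') (g : S' ⟶ T') (b : T ≅ T') {f : S ⟶ T} (hf : f = a.hom ≫ g ≫ b.inv) {d : ℕ}
    (hg : ∀ c : U T', Inv c → χU (pb g c) = d * χU c) {c : U T} (hc : Inv c) : χU (pb f c) = d * χU c := by
  haveI : IsIso a.hom.left := (Over.forget _).map_isIso a.hom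
  haveI : IsIso b.inv.left := (Over.forget _).map_isIso b.inv
  rw [hf, ← pb_pb, ← pb_pb, χU_iso a.hom (inv_pb _ (inv_pb _ hc)), hg _ (inv_pb _ hc), χU_iso b.inv hc]

theorem Deg.of_cover [GrpObj X] [GeometricallyIntegral X.hom] [GrpObj Y] [GeometricallyIntegral Y.hom]
    {f : X ⟶ Y} [IsMonHom f] {d : ℕ} (hf : FinCov.IsCover f.left d) [Surjective f.left] : Deg f d where
  finite A := (FinDesc.isCover_whiskerLeft A f hf).1.1
  surj A := MorphismProperty.of_isPullback (P := @Surjective)
    ((FpqcDescLib.isPullback_whiskerLeft f A).map (Over.forget _)).flip (show Surjective f.left from inferInstance)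
  chi A _ _ _ c hc := by
    obtain ⟨⟨h1, h2, -⟩, h3⟩ := FinDesc.isCover_whiskerLeft A f hf
    haveI := h1
    haveI := h2
    haveI : IsLocallyNoetherian (A ⊗ Y).left := LocallyOfFiniteType.isLocallyNoetherian (A ⊗ Y).hom
    obtain ⟨L, hL, hLi⟩ := hc
    show AVEuler.chi _ (PicF.pullCl (A ◁ f).left (c : PicF.Cl (A ⊗ Y).left)) = _
    rw [χU, ← hL]
    exact AVEuler.euler_pullback_isogeny (A ◁ f) d h3 (F := L) (AmpleVan.isCoh_invertible hLi)

end

section

variable {X Y : Over (Spec (CommRingCat.of k))} [IsProper X.hom] [IsProper Y.hom]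

theorem Deg.left {f : X ⟶ Y} {d : ℕ} (hf : Deg f d) (B : Over (Spec (CommRingCat.of k))) [GrpObj B] [IsProper B.hom]
    [GeometricallyIntegral B.hom] : Deg (B ◁ f) d where
  finite A := by
    haveI := hf.finite (A ⊗ B)
    exact isFinite_conj (α_ A B X).symm ((A ⊗ B) ◁ f) (α_ A B Y).symm (by simp)
  surj A := by
    haveI := hf.surj (A ⊗ B)
    exact surjective_conj (α_ A B X).symm ((A ⊗ B) ◁ f) (α_ A B Y).symm (by simp)
  chi A _ _ _ c hc :=
    χU_conj (α_ A B X).symm ((A ⊗ B) ◁ f) (α_ A B Y).symm (by simp) (hf.chi (A ⊗ B)) hc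

/-- `A ⊗ (X ⊗ B) ≅ (A ⊗ B) ⊗ X` -/
def moveIso (A X B : Over (Spec (CommRingCat.of k))) : A ⊗ (X ⊗ B) ≅ (A ⊗ B) ⊗ X where
  hom := lift (lift (fst _ _) (snd _ _ ≫ snd _ _)) (snd _ _ ≫ fst _ _)
  inv := lift (fst _ _ ≫ fst _ _) (lift (snd _ _) (fst _ _ ≫ snd _ _))

theorem moveIso_natural (A B : Over (Spec (CommRingCat.of k))) (f : X ⟶ Y) :
    A ◁ (f ▷ B) = (moveIso A X B).hom ≫ ((A ⊗ B) ◁ f) ≫ (moveIso A Y B).inv := by
  simp only [moveIso]
  ext <;> simp

theorem Deg.right {f : X ⟶ Y} {d : ℕ} (hf : Deg f d) (B : Over (Spec (CommRingCat.of k))) [GrpObj B] [IsProper B.hom]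
    [GeometricallyIntegral B.hom] : Deg (f ▷ B) d where
  finite A := by
    haveI := hf.finite (A ⊗ B)
    exact isFinite_conj _ _ _ (moveIso_natural A B f)
  surj A := by
    haveI := hf.surj (A ⊗ B)
    exact surjective_conj _ _ _ (moveIso_natural A B f)
  chi A _ _ _ c hc := χU_conj _ _ _ (moveIso_natural A B f) (hf.chi (A ⊗ B)) hc

theorem Deg.tensor [GrpObj X] [GeometricallyIntegral X.hom] {X' Y' : Over (Spec (CommRingCat.of k))}
    [IsProper X'.hom] [GrpObj Y'] [IsProper Y'.hom] [GeometricallyIntegral Y'.hom] {f : X ⟶ Y} {g : X' ⟶ Y'}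
    {d e : ℕ} (hf : Deg f d) (hg : Deg g e) : Deg (f ⊗ₘ g) (e * d) := by
  rw [MonoidalCategory.tensorHom_def']
  exact (hg.left X).comp (hf.right Y')

end

end Groth.Agent.AVFin

end
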