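import Groth.Agent.AVFin.Count
import Groth.Agent.FinDesc.Field
import Groth.Agent.FinDesc.BaseChange
import Groth.Agent.FinDesc.Polarization
import Groth.Agent.AVEuler.Homogeneous
import Groth.Agent.AVTheta.LevelQuot
import Groth.Agent.SrcDescent.SchemeFppf
import Groth.Agent.Lib.AVProj
import Groth.Agent.S7673
import Groth.Agent.S7795

/-!
# A polarisation of given degree gives an ample module with bounded Euler characteristic
-/

noncomputable section

set_option autoImplicit false
set_option backward.isDefEq.respectTransparency false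
set_option backward.isDefEq.respectTransparency.types false
set_option linter.style.haveILetI false
set_option linter.unusedSectionVars false
set_option maxHeartbeats 1000000
set_option synthInstance.maxHeartbeats 400000

universe u

open CategoryTheory CategoryTheory.Limits MonoidalCategory CartesianMonoidalCategory MonObj AlgebraicGeometry

attribute [-instance] CategoryTheory.catToReflQuiver

namespace Groth.Agent.AVFin

open Groth.Agent Groth.Agent.H23 Groth.Agent.H23.CubeAb Groth.Agent.AbDualBase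
open scoped Groth.Agent.H23.PicMul CategoryTheory.Obj

variable {k : Type u} [Field k]

/-- The diagonal of an abelian variety, squared. -/
theorem chi_diag {X : Over (Spec (CommRingCat.of k))} [IsAlgClosed k] [GrpObj X] [IsProper X.hom]
    [GeometricallyIntegral X.hom] {g : ℕ} (hg : topologicalKrullDim X.left = g) {M : X.left.Modules}
    (hM : CohB1.IsAmple M) {cN : PicF.Cl (X ⊗ X).left} (e : cN * F (PicF.cl M) (fst X X) * F (PicF.cl M) (snd X X) =
      F (PicF.cl M) μ[X]) :
    (∃ L : X.left.Modules, CohB1.IsAmple L ∧ PicF.cl L = PicF.pullCl (lift (𝟙 X) (𝟙 X)).left cN) ∧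
      AVEuler.chi X (PicF.pullCl (lift (𝟙 X) (𝟙 X)).left cN) = 2 ^ g * AVEuler.chi X (PicF.cl M) := by
  haveI : IsCommMonObj X := isCommMonObj_of_isProper_of_geometricallyIntegral X
  haveI : CompactSpace X.left := hM.2.1
  let u : (PicF.Cl X.left)ˣ := (PicMul.isUnit_of_isInvertibleCl ⟨M, rfl, hM.1⟩).unit
  have hu : PicF.IsInvertibleCl (u : PicF.Cl X.left) := ⟨M, rfl, hM.1⟩
  let ng : X ⟶ X := (𝟙 X)⁻¹
  have hng : ng ≫ ng = 𝟙 X := by
    show ng ≫ (𝟙 X)⁻¹ = 𝟙 X
    rw [GrpObj.comp_inv, Category.comp_id, inv_inv]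
  haveI : IsIso ng.left := by
    haveI : IsIso ng := ⟨ng, hng, hng⟩
    exact (Over.forget _).map_isIso ng
  -- the diagonal class
  have h2 : PicF.pullCl (lift (𝟙 X) (𝟙 X)).left cN * (PicF.cl M * PicF.cl M) = F (PicF.cl M) (𝟙 X * 𝟙 X) := by
    have h' := congrArg (PicMul.pullHom (lift (𝟙 X) (𝟙 X)).left) e
    rw [map_mul, map_mul, pull_F, pull_F, pull_F, lift_fst, lift_snd, show lift (𝟙 X) (𝟙 X) ≫ μ[X] = 𝟙 X * 𝟙 X from
      (Hom.mul_def _ _).symm, show F (PicF.cl M) (𝟙 X) = PicF.cl M from (show PicF.pullCl (𝟙 X.left) (PicF.cl M) = _ from PicClLib.pullCl_id _), _root_.mul_assoc] at h'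
    exact h'
  have h3 : AVEuler.R u (𝟙 X * 𝟙 X) = u * u * u * AVEuler.R u ng := by
    have h := AVEuler.R_cube hu (𝟙 X) (𝟙 X) ng
    rw [show 𝟙 X * ng = 1 from mul_inv_cancel (𝟙 X), show AVEuler.R u (1 : X ⟶ X) = 1 from Units.ext (F_one hu),
      _root_.mul_one, _root_.mul_one, show 𝟙 X * 𝟙 X * ng = 𝟙 X from mul_inv_cancel_right (𝟙 X) (𝟙 X), AVEuler.R_id] at h
    exact h.symm
  have h4 : PicF.pullCl (lift (𝟙 X) (𝟙 X)).left cN = ((u * AVEuler.R u ng : (PicF.Cl X.left)ˣ) : PicF.Cl X.left) := by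
    refine (PicMul.isUnit_of_isInvertibleCl (PicMul.isInvertibleCl_mul hu hu)).mul_right_cancel ?_
    refine h2.trans ?_
    show ((AVEuler.R u (𝟙 X * 𝟙 X) : (PicF.Cl X.left)ˣ) : PicF.Cl X.left) = _
    rw [h3]
    simp only [Units.val_mul]
    ac_rfl
  refine ⟨⟨_, AVEuler.ample_mul hM (AmpleVan.isAmple_pullback_of_isEmbedding ng.left ng.left.homeomorph.isEmbedding hM), ?_⟩, ?_⟩
  · rw [h4, PicMul.cl_tensor, Units.val_mul]
    rfl
  let d := AVEuler.R u ng / u
  have hd : PicF.IsInvertibleCl (d : PicF.Cl X.left) := by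
    simp only [d, div_eq_mul_inv, Units.val_mul]
    exact PicMul.isInvertibleCl_mul (AVEuler.isInvertibleCl_R hu ng) (AVDegPoly.isInvertibleCl_units _ hu)
  have hdinv : ∀ a, F (d : PicF.Cl X.left) (tr a) = (d : PicF.Cl X.left) := fun a => by
    have hs : Units.map (PicMul.pullHom (tr a).left) (AVEuler.R u ng) * u = AVEuler.R u ng * AVEuler.R u (tr a) :=
      Units.ext (H23.CubeAb.symmetric hu a)
    refine congrArg Units.val (show AVEuler.R d (tr a) = d from ?_)
    show Units.map _ (AVEuler.R u ng / u) = AVEuler.R u ng / u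
    rw [map_div, div_eq_div_iff_mul_eq_mul, hs]
  rw [h4, show u * AVEuler.R u ng = u ^ (2 : ℤ) * d by
    rw [zpow_two]
    show _ = u * u * (AVEuler.R u ng / u)
    rw [div_eq_mul_inv, _root_.mul_assoc, mul_comm (AVEuler.R u ng) u⁻¹, mul_inv_cancel_left]]
  rw [Units.val_mul, AVEuler.chi_mul_invariant X (AVDegPoly.isInvertibleCl_zpow u hu 2) hd hdinv,
    AVEuler.chi_zpow_ample hg hM rfl]
  rfl

/-- The target of a polarisation is an abelian variety. -/
theorem isAV_target {A At : Over (Spec (CommRingCat.of k))} [IsProper A.hom] [GeometricallyIntegral A.hom]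
    [GrpObj At] (lam : A ⟶ At) [Flat lam.left] [Surjective lam.left] [LocallyOfFinitePresentation lam.left] :
    IsProper At.hom ∧ GeometricallyIntegral At.hom := by
  haveI : LocallyOfFiniteType (lam.left ≫ At.hom) := by rw [Over.w]; infer_instance
  haveI : LocallyOfFiniteType At.hom := SrcDescent.locallyOfFiniteType_of_fppf_comp lam.left At.hom
  exact AVTheta.proper_geometricallyIntegral_of_surjective lam

/-- A polarisation of degree `d²` gives an ample module over the base field with `χ² = 4^g d²`. -/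
theorem exists_ample_of_polarization (B Bt : Over (Spec (CommRingCat.of k))) [GrpObj B] [IsProper B.hom]
    [GeometricallyIntegral B.hom] [GrpObj Bt] (φ : AgPol.DualMap B Bt)
    (hφ : AbDual.IsDualAV Scheme.fppfPrecoverage B Bt φ) (lam : B ⟶ Bt) (hlam : AgPol.IsPolarization B Bt φ lam)
    {d : ℕ} (hd : 1 ≤ d) (hdeg : AgPol.HasDegSq lam d) {g : ℕ} (hg : topologicalKrullDim B.left = g) :
    ∃ L : B.left.Modules, CohB1.IsAmple L ∧ Curv2.euler k B.left L = ((2 ^ g * d : ℕ) : ℤ) := by
  obtain ⟨hfin, hflat, hlfp, hrk⟩ := hdeg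
  haveI := hfin
  haveI := hflat
  haveI := hlfp
  haveI : Surjective lam.left := (Scheme.Hom.one_le_finrank_iff_surjective lam.left).1 fun y => by
    rw [hrk y]
    exact Nat.one_le_pow _ _ hd
  obtain ⟨hBtp, hBtg⟩ := isAV_target lam
  haveI := hBtp
  haveI := hBtg
  haveI : Smooth B.hom := S7795.result B
  haveI : IsCommMonObj B := isCommMonObj_of_isProper_of_geometricallyIntegral B
  haveI : IsLocallyNoetherian B.left := LocallyOfFiniteType.isLocallyNoetherian B.hom
  haveI : Smooth Bt.hom := S7795.result Bt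
  haveI : GeometricallyConnected B.hom := geometricallyConnected_of_integral B.hom
  haveI : GeometricallyConnected Bt.hom := geometricallyConnected_of_integral Bt.hom
  haveI : IsMonHom lam := hlam.1
  obtain ⟨P, hP, hξ⟩ := FinDesc.exists_poincare_field hφ
  -- the family classified by `lam`
  let cl₀ : PicF.Cl (PicF.XT B.hom B) := PicF.pullCl (PicF.XTmap B.hom lam) (PicF.cl P)
  have hcz : AbDual.IsPicZeroCl B.hom B cl₀ := pz_xtMap _ hξ.1
  have hcφ : φ B cl₀ = lam := by
    rw [hφ.relPic.natural _ _ _ _ hξ.1, hξ.2.1, Category.comp_id]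
  have hcs : PicF.pullCl (PicF.secT B.hom η[B].left (Over.w η[B]) B) cl₀ = 1 := by
    rw [PicClLib.pullCl_comp, FinDesc.secT_xtMap, ← PicClLib.pullCl_comp, hξ.2.2]
    exact pullCl_one' _
  clear_value cl₀
  obtain ⟨L, hL, hLi⟩ := PicClLib.isInvertibleCl_pullCl (lift (𝟙 B) (𝟙 B)).left (pz_invertible hcz)
  -- over an algebraic closure
  let Ω := AlgebraicClosure k
  let t : Spec (CommRingCat.of Ω) ⟶ Spec (CommRingCat.of k) := Spec.map (CommRingCat.ofHom (algebraMap k Ω))
  let X := Red.bc t B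
  let Xt := Red.bc t Bt
  haveI : IsProper X.hom := MorphismProperty.pullback_snd (P := @IsProper) B.hom t inferInstance
  haveI : GeometricallyIntegral X.hom := MorphismProperty.pullback_snd (P := @GeometricallyIntegral) B.hom t inferInstance
  haveI : IsProper Xt.hom := MorphismProperty.pullback_snd (P := @IsProper) Bt.hom t inferInstance
  haveI : GeometricallyIntegral Xt.hom := MorphismProperty.pullback_snd (P := @GeometricallyIntegral) Bt.hom t inferInstance
  haveI : IsCommMonObj X := isCommMonObj_of_isProper_of_geometricallyIntegral X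
  haveI : Smooth X.hom := S7795.result X
  haveI : Smooth Xt.hom := S7795.result Xt
  haveI : GeometricallyConnected X.hom := geometricallyConnected_of_integral X.hom
  haveI : GeometricallyConnected Xt.hom := geometricallyConnected_of_integral Xt.hom
  have hψ : AbDual.IsDualAV Scheme.fppfPrecoverage X Xt (AgPol.bcDual t B Bt φ) := FinDesc.isDualAV_bc hφ
  obtain ⟨M, hM, N, hN, hNM, hNlam⟩ := hlam.2 Ω t
  let cN : PicF.Cl (X ⊗ X).left := PicF.cl N
  have e : cN * F (PicF.cl M) (fst X X) * F (PicF.cl M) (snd X X) = F (PicF.cl M) μ[X] :=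
    (PicGrp.cl_eq_cl_iff _ _).2 hNM
  have hNz : AbDual.IsPicZeroCl X.hom X (PicF.cl N) := FinDesc.pz_lambdaSheaf hM.1 hN hNM
  -- the base change of the family
  let pr : FinDesc.dn t X ⟶ B := Over.homMk (pullback.fst B.hom t) pullback.condition
  let cX : PicF.Cl (PicF.XT X.hom X) :=
    PicF.pullCl (AgPol.bcXTIso t B X).hom (PicF.pullCl (PicF.XTmap B.hom pr) cl₀)
  have hXz : AbDual.IsPicZeroCl X.hom X cX := FinDesc.pz_hom (pz_xtMap _ hcz)
  have hXφ : AgPol.bcDual t B Bt φ X cX = (Over.pullback t).map lam := by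
    rw [FinDesc.bcDual_eq, FinDesc.pull_inv_hom, hφ.relPic.natural _ _ _ _ hcz, hcφ]
    refine Over.OverMorphism.ext (pullback.hom_ext ?_ ?_)
    · simp [FinDesc.unitMap, Over.pullback, pr, X]
      exact Category.id_comp _
    · simp [FinDesc.unitMap, Over.pullback, pr, X]
  have hNs : PicF.pullCl (PicF.secT X.hom η[X].left (Over.w η[X]) X) (PicF.cl N) = 1 := by
    rw [PicZeroPrim.secT_eq]
    have h' := congrArg (PicMul.pullHom (lift (toUnit X ≫ η[X]) (𝟙 X)).left) e
    rw [map_mul, map_mul, pull_F, pull_F, pull_F, lift_fst, lift_snd,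
      show lift (toUnit X ≫ η[X]) (𝟙 X) ≫ μ[X] = 𝟙 X by
        rw [← Hom.mul_def, ← Hom.one_def, _root_.one_mul],
      show F (PicF.cl M) (toUnit X ≫ η[X]) = 1 by
        rw [← Hom.one_def]
        exact F_one ⟨M, rfl, hM.1⟩, _root_.mul_one] at h'
    exact (PicMul.isUnit_of_isInvertibleCl (PicClLib.isInvertibleCl_pullCl (𝟙 X : X ⟶ X).left ⟨M, rfl, hM.1⟩)).mul_eq_right.1 h'
  have hXs : PicF.pullCl (PicF.secT X.hom η[X].left (Over.w η[X]) X) cX = 1 := by
    have hsq : PicF.secT X.hom η[X].left (Over.w η[X]) X ≫ (AgPol.bcXTIso t B X).hom ≫ PicF.XTmap B.hom pr =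
        pr.left ≫ PicF.secT B.hom η[B].left (Over.w η[B]) B := by
      apply pullback.hom_ext
      · simp [PicF.secT, AgPol.bcXTIso, PicF.XTmap, pr, X]
        exact (pullback.condition_assoc _).symm
      · simp [PicF.secT, AgPol.bcXTIso, PicF.XTmap, pr, X]
        exact Category.id_comp _
    rw [PicClLib.pullCl_comp, PicClLib.pullCl_comp, Category.assoc, hsq, ← PicClLib.pullCl_comp, hcs]
    exact pullCl_one' _
  have hcXN : cX = PicF.cl N :=
    PicZeroPrim.eq_of_phi hψ hXz hNz (hXφ.trans hNlam.symm) (hXs.trans hNs.symm)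
  -- the pulled back module is `M ⊗ [-1]^* M`
  obtain ⟨gX, hgX⟩ := AVDegPoly.exists_dim (A := X)
  obtain rfl : gX = g := by
    have h := AVHomLib.topologicalKrullDim_bc (A := B) Ω hg
    exact_mod_cast hgX.symm.trans h
  obtain ⟨⟨L₂, hL₂a, hL₂⟩, hchi⟩ := chi_diag hgX hM e
  let fstX : X.left ⟶ B.left := pullback.fst B.hom t
  have hbc : PicF.pullCl fstX (PicF.cl L) = PicF.cl L₂ := by
    have hsq : (lift (𝟙 X) (𝟙 X)).left ≫ (AgPol.bcXTIso t B X).hom ≫ PicF.XTmap B.hom pr =
        fstX ≫ (lift (𝟙 B) (𝟙 B)).left := by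
      apply pullback.hom_ext
      · simp [AgPol.bcXTIso, PicF.XTmap, pr, X, fstX]
        exact Category.id_comp _
      · simp [AgPol.bcXTIso, PicF.XTmap, pr, X, fstX]
        exact Category.id_comp _
    rw [hL₂, hL, show cN = cX from hcXN.symm, PicClLib.pullCl_comp, PicClLib.pullCl_comp, PicClLib.pullCl_comp,
      Category.assoc, hsq]
  obtain ⟨eL⟩ : Nonempty ((Scheme.Modules.pullback fstX).obj L ≅ L₂) := PicMul.cl_eq_iff.1 hbc
  have hamp : CohB1.IsAmple L := AVProj.isAmple_of_baseChange (K' := Ω) B.hom L hLi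
    (AmpleX.isAmple_of_iso eL.symm hL₂a)
  refine ⟨L, hamp, ?_⟩
  -- Euler characteristics
  letI : X.left.Over (Spec (CommRingCat.of Ω)) := ⟨X.hom⟩
  letI : B.left.Over (Spec (CommRingCat.of k)) := ⟨B.hom⟩
  haveI : IsProper (B.left ↘ Spec (CommRingCat.of k)) := inferInstanceAs (IsProper B.hom)
  have hχ : Curv2.euler k B.left L = AVEuler.chi X (PicF.cl L₂) := by
    rw [AVEuler.chi_cl, ← S7673.result k B.left Ω L (AmpleVan.isCoh_invertible hamp.1)]
    exact CurveCohLib.euler_congr (k := Ω) (X := X.left) eL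
  have hsquare : AVEuler.chi X (PicF.cl M) ^ 2 = ((d ^ 2 : ℕ) : ℤ) := by
    obtain ⟨M', hM', eM'⟩ := PicInv.exists_inverse hM.1
    have hMM : PicF.cl M * PicF.cl M' = 1 := (PicGrp.cl_eq_cl_iff _ _).2 eM'
    have hΛ : (PicF.cl N : PicF.Cl (PicF.XT X.hom X)) = PicF.pullCl μ[X].left (PicF.cl M) *
        PicF.pullCl (fst X X).left (PicF.cl M') * PicF.pullCl (snd X X).left (PicF.cl M') := by
      have h1 : F (PicF.cl M) (fst X X) * F (PicF.cl M') (fst X X) = 1 :=
        (map_mul (PicMul.pullHom (fst X X).left) _ _).symm.trans ((congrArg _ hMM).trans (map_one _))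
      have h2 : F (PicF.cl M) (snd X X) * F (PicF.cl M') (snd X X) = 1 :=
        (map_mul (PicMul.pullHom (snd X X).left) _ _).symm.trans ((congrArg _ hMM).trans (map_one _))
      show cN = F (PicF.cl M) μ[X] * F (PicF.cl M') (fst X X) * F (PicF.cl M') (snd X X)
      rw [← e]
      calc cN = cN * (F (PicF.cl M) (fst X X) * F (PicF.cl M') (fst X X) *
            (F (PicF.cl M) (snd X X) * F (PicF.cl M') (snd X X))) := by
            rw [h1, h2, _root_.one_mul, _root_.mul_one]
        _ = _ := by ac_rfl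
    have hsqm : IsPullback (pullback.fst B.hom t) ((Over.pullback t).map lam).left lam.left (pullback.fst Bt.hom t) := by
      refine IsPullback.of_bot ?_ (by simp [Over.pullback]) (IsPullback.of_hasPullback Bt.hom t)
      simpa [Over.pullback] using IsPullback.of_hasPullback B.hom t
    haveI : IsFinite (AgPol.bcDual t B Bt φ X (PicF.cl N)).left := by
      rw [hNlam]
      exact MorphismProperty.of_isPullback (P := @IsFinite) hsqm hfin
    haveI : Flat (AgPol.bcDual t B Bt φ X (PicF.cl N)).left := by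
      rw [hNlam]
      exact MorphismProperty.of_isPullback (P := @Flat) hsqm hflat
    refine (congrArg (· ^ 2) (AVEuler.chi_cl X M)).trans ?_
    refine FinDesc.euler_sq_eq_degree hψ hM.1 hMM hΛ hNz fun y => ?_
    rw [hNlam, Scheme.Hom.finrank_of_isPullback _ _ _ _ hsqm, hrk]
  have h0 : 0 ≤ Curv2.euler k B.left L := by
    rw [euler_eq_h0 B hamp]
    exact Nat.cast_nonneg _
  rw [hχ, ← hbc] at h0 ⊢
  rw [hbc, hL₂, hchi] at h0 ⊢
  have hM0 : AVEuler.chi X (PicF.cl M) = d := by
    rw [Nat.cast_pow] at hsquare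
    rcases (sq_eq_sq_iff_eq_or_eq_neg).1 hsquare with h | h
    · exact h
    · rw [h] at h0
      have : (0 : ℤ) < 2 ^ gX * (d : ℤ) := mul_pos (pow_pos two_pos _) (by exact_mod_cast hd)
      linarith
  rw [hM0]
  push_cast
  rfl

end Groth.Agent.AVFin

end
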