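import Groth.Agent.AVFin.Basic
import Groth.Agent.AVTheta.DualQuot
import Groth.Agent.AVTheta.KLRank
import Groth.Agent.AVTheta.IsogenyRank

/-!
# The quotient by `K(L)` of an ample module over any field
-/

noncomputable section

set_option autoImplicit false
set_option backward.isDefEq.respectTransparency false
set_option backward.isDefEq.respectTransparency.types false
set_option linter.style.haveILetI false
set_option linter.unusedSectionVars false
set_option maxHeartbeats 1000000
set_option synthInstance.maxHeartbeats 400000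

universe u

open CategoryTheory CategoryTheory.Limits AlgebraicGeometry MonoidalCategory CartesianMonoidalCategory
open scoped MonObj Groth.Agent.H23.PicMul

attribute [-instance] CategoryTheory.catToReflQuiver

namespace Groth.Agent.AVFin

open Groth.Agent Groth.Agent.H23 Groth.Agent.H23.CubeAb

/-- `K(L)` of an ample module is finite over an algebraically closed field. -/
theorem isFinite_isKL_closed {k : Type u} [Field k] [IsAlgClosed k] {A : Over (Spec (CommRingCat.of k))} [GrpObj A]
    [IsProper A.hom] [GeometricallyIntegral A.hom] {L : A.left.Modules} (hL : CohB1.IsAmple L)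
    {K : Over (Spec (CommRingCat.of k))} {iK : K ⟶ A} (hK : ThetaGrp.IsKL A L iK) : IsFinite K.hom := by
  haveI := hK.closed
  haveI := AVRosati.SubAV.mono_of_closed iK
  haveI : IsProper K.hom := by
    rw [← Over.w iK]
    infer_instance
  haveI : LocallyOfFiniteType (𝟙_ (Over (Spec (CommRingCat.of k)))).hom :=
    inferInstanceAs (LocallyOfFiniteType (𝟙 (Spec (CommRingCat.of k))))
  haveI : IsSeparated (𝟙_ (Over (Spec (CommRingCat.of k)))).hom :=
    inferInstanceAs (IsSeparated (𝟙 (Spec (CommRingCat.of k))))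
  have h : IsFinite (toUnit K).left := AVPoinc.isFinite_of_finite_points (toUnit K) fun x => by
    have hfin := S12002.result k A L hL
    refine Set.Finite.subset (hfin.preimage (f := fun y => y ≫ iK) ?_) fun y _ => ?_
    · exact fun y _ y' _ h => (cancel_mono iK).1 h
    · show Nonempty _
      exact PicMul.cl_eq_iff.1 ((AVTheta.DualQuot.mumford_point_iff hL.1 _).1 ((hK.univ _ _).2 ⟨y, rfl⟩))
  exact h

attribute [local instance] overHom

variable {k : Type u} [Field k] {A : Over (Spec (CommRingCat.of k))} [GrpObj A] [IsProper A.hom]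
  [GeometricallyIntegral A.hom]

/-- `K(L)` of an ample module is finite, of rank the square of the Euler characteristic. -/
theorem finrank_isKL {L : A.left.Modules} (hL : CohB1.IsAmple L)
    {K : Over (Spec (CommRingCat.of k))} {iK : K ⟶ A} (hK : ThetaGrp.IsKL A L iK) :
    IsFinite K.hom ∧ ∀ s : ↥(Spec (CommRingCat.of k)),
      ((Scheme.Hom.finrank K.hom s : ℕ) : ℤ) = Curv2.euler k A.left L ^ 2 := by
  let Ω := AlgebraicClosure k
  let σ := AVTorsLib.extMap (k := k) Ω
  haveI : IsCommMonObj A := isCommMonObj_of_isProper_of_geometricallyIntegral A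
  haveI := (AVTorsLib.isAV_bc (A := A) Ω).1
  haveI := (AVTorsLib.isAV_bc (A := A) Ω).2
  haveI : Subsingleton ↥(Spec (CommRingCat.of k)) := inferInstanceAs (Subsingleton (PrimeSpectrum k))
  haveI : Surjective σ := ⟨fun y => ⟨IsLocalRing.closedPoint Ω, Subsingleton.elim _ _⟩⟩
  let L' := (Scheme.Modules.pullback (pullback.fst A.hom σ)).obj L
  have hK' := AVTheta.KLBase.isKL_bc σ hL.1 hK
  have hL' : CohB1.IsAmple L' := (AmpleX.isRelAmple_iff_isAmple (Red.bc σ A).hom _).1
    (AmpleX.isRelAmple_baseChange A.hom σ ((AmpleX.isRelAmple_iff_isAmple A.hom L).2 hL))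
  haveI hfin' : IsFinite (Red.bc σ K).hom := isFinite_isKL_closed hL' hK'
  haveI := hK.closed
  haveI : IsProper K.hom := by
    rw [← Over.w iK]
    infer_instance
  haveI : Surjective (pullback.fst K.hom σ) := MorphismProperty.pullback_fst _ _ inferInstance
  haveI : IsFinite K.hom := by
    haveI : Finite ↥(pullback K.hom σ) := Set.finite_univ_iff.1
      ((Scheme.Hom.finite_preimage_singleton (Red.bc σ K).hom (IsLocalRing.closedPoint Ω)).subset fun z _ =>
        Subsingleton.elim (α := PrimeSpectrum Ω) _ _)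
    haveI : Finite ↥K.left := Finite.of_surjective _ (pullback.fst K.hom σ).surjective
    exact AVTheta.IsogenyRank.isFinite_of_finite K.hom
  haveI : Flat K.hom := AssLib.flat_over_field K.hom
  refine ⟨inferInstance, fun s => ?_⟩
  let t : ↥(Spec (CommRingCat.of Ω)) := IsLocalRing.closedPoint Ω
  have h := AVTheta.KLRank.finrank_isKL hL'.1 _ hK' t
  have e : Scheme.Hom.finrank (Red.bc σ K).hom t = Scheme.Hom.finrank K.hom (σ t) :=
    Scheme.Hom.finrank_pullback_snd K.hom σ t
  rw [e, Subsingleton.elim (σ t) s] at h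
  rw [h, ← CohBasic.euler_bc k A.left Ω (ProjUPX.isQCoh_of_isInvertible hL.1)]
  rfl

/-- The quotient by `K(L)` with the descended Mumford bundle, a cover of degree `χ(L) ^ 2`. -/
theorem exists_dual {L : A.left.Modules} (hL : CohB1.IsAmple L) :
    ∃ (Q : Over (Spec (CommRingCat.of k))) (_ : GrpObj Q) (_ : IsProper Q.hom) (_ : GeometricallyIntegral Q.hom)
      (q : A ⟶ Q) (_ : IsMonHom q) (P : (A ⊗ Q).left.Modules) (d : ℕ),
      FinCov.IsCover q.left d ∧ Surjective q.left ∧ PicF.IsInvertible P ∧ (d : ℤ) = Curv2.euler k A.left L ^ 2 ∧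
      ∀ {T : Over (Spec (CommRingCat.of k))} (a b : T ⟶ A),
        AVPair.pl (lift a (b ≫ q)) (PicF.cl P) * F (PicF.cl L) a * F (PicF.cl L) b = F (PicF.cl L) (a * b) := by
  obtain ⟨K, iK, hK⟩ := AVTheta.KLExist.exists_isKL A L hL.1
  obtain ⟨hKf, hKr⟩ := finrank_isKL hL hK
  haveI := hKf
  obtain ⟨Q, sQ, q, P, hq, hqf, hqs, hQp, hQg, hqfl, hsq, hP, hchar, -, -⟩ :=
    AVTheta.DualQuot.exists_dual_of_isKL hL.1 iK hK
  letI := sQ
  haveI := hQp
  haveI := hQg
  haveI := hq
  haveI := hqf
  haveI := hqfl
  haveI : IsIntegral Q.left := GeometricallyIntegral.isIntegral_of_subsingleton Q.hom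
  haveI : IsLocallyNoetherian A.left := LocallyOfFiniteType.isLocallyNoetherian A.hom
  haveI : IsLocallyNoetherian Q.left := LocallyOfFiniteType.isLocallyNoetherian Q.hom
  haveI : LocallyOfFinitePresentation q.left := inferInstance
  let s : ↥(Spec (CommRingCat.of k)) := IsLocalRing.closedPoint k
  refine ⟨Q, sQ, hQp, hQg, q, hq, P, Scheme.Hom.finrank K.hom s,
    ⟨⟨inferInstance, inferInstance, inferInstance⟩, fun y => ?_⟩, hqs, hP, hKr s, hchar⟩
  refine ((Scheme.Hom.isLocallyConstant_finrank q.left).apply_eq_of_preconnectedSpace y (η[Q].left s)).trans ?_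
  have sq : IsPullback iK.left (toUnit K).left q.left η[Q].left := hsq.map (Over.forget _)
  exact (Scheme.Hom.finrank_of_isPullback _ _ _ _ sq s).symm

end Groth.Agent.AVFin

end
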