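import Groth.Agent.AVFin.NSClosed
import Groth.Agent.AVVanish.Triv
import Groth.Agent.Lib.AVAmple

/-!
# Effective classes on simple abelian varieties
-/

noncomputable section

set_option autoImplicit false
set_option backward.isDefEq.respectTransparency false
set_option backward.isDefEq.respectTransparency.types false
set_option linter.style.haveILetI false
set_option linter.unusedSectionVars false
set_option maxHeartbeats 1000000
set_option synthInstance.maxHeartbeats 400000

universe u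

open CategoryTheory CategoryTheory.Limits AlgebraicGeometry MonoidalCategory CartesianMonoidalCategory TopologicalSpace
open scoped MonObj Groth.Agent.H23.PicMul

attribute [-instance] CategoryTheory.catToReflQuiver

namespace Groth.Agent.AVFin.NS

open Groth.Agent Groth.Agent.H23 Groth.Agent.H23.CubeAb Groth.Agent.H23.TrivBasic Groth.Agent.AVRosati

attribute [local instance] isProper_tensor gi_tensor

variable {k : Type u} [Field k] [IsAlgClosed k]

local notation "Pt" => 𝟙_ (Over (Spec (CommRingCat.of k)))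

/-- A closed set whose rational points form a subgroup contains an abelian subvariety through each of its pieces. -/
theorem exists_subAV_through {P : Over (Spec (CommRingCat.of k))} [GrpObj P] [IsProper P.hom] [GeometricallyIntegral P.hom]
    {S : Set P.left} (hS : IsClosed S)
    (h1 : (1 : Pt ⟶ P).left (IsLocalRing.closedPoint k) ∈ S)
    (hdiv : ∀ x y : Pt ⟶ P, x.left (IsLocalRing.closedPoint k) ∈ S → y.left (IsLocalRing.closedPoint k) ∈ S →
      (x * y⁻¹).left (IsLocalRing.closedPoint k) ∈ S)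
    {W₁ : Set P.left} (hW₁i : IsIrreducible W₁) (hW₁c : IsClosed W₁) (hW₁S : W₁ ⊆ S) :
    ∃ (N : Over (Spec (CommRingCat.of k))) (_ : GrpObj N) (j : N ⟶ P), IsMonHom j ∧ IsProper N.hom ∧
      GeometricallyIntegral N.hom ∧ IsClosedImmersion j.left ∧ Set.range j.left ⊆ S ∧
      (Subsingleton N.left → W₁.Subsingleton) := by
  haveI : IsLocallyNoetherian P.left := LocallyOfFiniteType.isLocallyNoetherian P.hom
  let pt : Spec (CommRingCat.of k) := IsLocalRing.closedPoint k
  let o : Pt ⟶ P := 1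
  have hrange : ∀ {V : Over (Spec (CommRingCat.of k))} [IsProper V.hom] (g : V ⟶ P),
      (∀ t : Pt ⟶ V, (t ≫ g).left pt ∈ S) → Set.range g.left ⊆ S := by
    intro V _ g hg
    haveI : JacobsonSpace ↥V.left := LocallyOfFiniteType.jacobsonSpace V.hom
    rw [← Set.image_univ, Set.image_subset_iff, ← closure_closedPoints (X := V.left)]
    refine closure_minimal ?_ (hS.preimage g.left.continuous)
    intro w hw
    obtain ⟨t, rfl⟩ := exists_point hw
    exact hg t
  have hirr : ∀ {V : Over (Spec (CommRingCat.of k))} [IsProper V.hom] [IsIntegral V.left] (g : V ⟶ P),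
      IsIrreducible (Set.range g.left) ∧ IsClosed (Set.range g.left) := by
    intro V _ _ g
    haveI : IsProper (g.left ≫ P.hom) := by rw [Over.w]; infer_instance
    haveI : IsProper g.left := IsProper.of_comp g.left P.hom
    refine ⟨?_, g.left.isClosedMap.isClosed_range⟩
    rw [← Set.image_univ]
    exact (IrreducibleSpace.isIrreducible_univ _).image _ g.left.continuous.continuousOn
  -- move it through the origin
  obtain ⟨V₁, em₁, hem₁, hV₁r, hV₁p, hV₁g, hV₁i⟩ := EquidimFibres.exists_integral_sub (X := P) hW₁c hW₁i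
  haveI := hV₁p
  haveI := hV₁g
  haveI := hV₁i
  haveI : JacobsonSpace ↥V₁.left := LocallyOfFiniteType.jacobsonSpace V₁.hom
  obtain ⟨v, hv⟩ : ∃ v : Pt ⟶ V₁, True := by
    obtain ⟨v, -, hv⟩ := nonempty_inter_closedPoints (Z := (Set.univ : Set V₁.left)) Set.univ_nonempty
      isClosed_univ.isLocallyClosed
    obtain ⟨v', -⟩ := exists_point hv
    exact ⟨v', trivial⟩
  have hS₁ : ∀ t : Pt ⟶ V₁, (t ≫ em₁).left pt ∈ S := fun t => hW₁S (hV₁r ▸ ⟨t.left pt, rfl⟩)
  let ψ : V₁ ⟶ P := em₁ * (toUnit V₁ ≫ (v ≫ em₁)⁻¹)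
  let good : Set P.left → Prop := fun W => IsIrreducible W ∧ IsClosed W ∧ o.left pt ∈ W ∧ W ⊆ S ∧ Set.range ψ.left ⊆ W
  have hgood : good (Set.range ψ.left) := by
    refine ⟨(hirr ψ).1, (hirr ψ).2, ⟨v.left pt, ?_⟩, hrange ψ fun t => ?_, ?_⟩
    · show (v ≫ ψ).left pt = o.left pt
      rw [show v ≫ ψ = o by
        simp only [ψ, MonObj.comp_mul]
        rw [← Category.assoc, toUnit_unique (v ≫ toUnit V₁) (𝟙 _), Category.id_comp, mul_inv_cancel]]
    · rw [MonObj.comp_mul, ← Category.assoc, toUnit_unique (t ≫ toUnit V₁) (𝟙 _), Category.id_comp]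
      exact hdiv _ _ (hS₁ t) (hS₁ v)
    · exact subset_rfl
  obtain ⟨W, hW, hWmax⟩ := MaxAbelian.exists_maximal (o.left pt) good (fun Z h => ⟨h.1, h.2.1, h.2.2.1⟩) ⟨_, hgood⟩
  obtain ⟨hWi, hWc, hWo, hWS, hWs⟩ := hW
  obtain ⟨V, em, hem, hVr, hVp, hVg, hVi⟩ := EquidimFibres.exists_integral_sub (X := P) hWc hWi
  haveI := hVp
  haveI := hVg
  haveI := hVi
  haveI := hem
  obtain ⟨z₀, hz₀⟩ : o.left pt ∈ Set.range em.left := hVr.ge hWo
  have hz₀c : z₀ ∈ closedPoints V.left := by
    show IsClosed {z₀}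
    rw [show ({z₀} : Set V.left) = em.left ⁻¹' {o.left pt} by
      ext z
      exact ⟨fun h => by rw [Set.mem_singleton_iff.1 h]; exact hz₀,
        fun h => em.left.isEmbedding.injective ((Set.mem_singleton_iff.1 h).trans hz₀.symm)⟩]
    exact (((pointEquivClosedPoint P.hom) ⟨o.left, Over.w o⟩).2).preimage em.left.continuous
  obtain ⟨e₀, he₀⟩ := exists_point hz₀c
  have he₀o : e₀ ≫ em = o := AVEuler.point_injective (by
    show em.left (e₀.left pt) = _
    rw [he₀]; exact hz₀)
  have hSV : ∀ t : Pt ⟶ V, (t ≫ em).left pt ∈ S := fun t => hWS (hVr ▸ ⟨t.left pt, rfl⟩)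
  haveI : GeometricallyIntegral (V ⊗ V).hom := MaxAbelian.geometricallyIntegral_tensor V V
  haveI : IsProper (V ⊗ V).hom := isProper_tensor V V
  haveI : IsIntegral (V ⊗ V).left := GeometricallyIntegral.isIntegral_of_subsingleton (V ⊗ V).hom
  let Δ : V ⊗ V ⟶ P := (fst V V ≫ em) * (snd V V ≫ em)⁻¹
  have hΔS : Set.range Δ.left ⊆ S := hrange Δ fun t => by
    rw [MonObj.comp_mul, GrpObj.comp_inv, ← Category.assoc, ← Category.assoc]
    exact hdiv _ _ (hSV _) (hSV _)
  have hΔW : W ⊆ Set.range Δ.left := by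
    rw [← hVr]
    rintro _ ⟨z, rfl⟩
    refine ⟨(lift (𝟙 V) (toUnit V ≫ e₀)).left z, ?_⟩
    show (lift (𝟙 V) (toUnit V ≫ e₀) ≫ Δ).left z = em.left z
    rw [show lift (𝟙 V) (toUnit V ≫ e₀) ≫ Δ = em by
      rw [MonObj.comp_mul, GrpObj.comp_inv, lift_fst_assoc, lift_snd_assoc, Category.id_comp, Category.assoc, he₀o,
        MonObj.comp_one, _root_.inv_one, _root_.mul_one]]
  have hΔ : Set.range Δ.left = W :=
    (hWmax _ ⟨(hirr Δ).1, (hirr Δ).2, hΔW hWo, hΔS,
      hWs.trans hΔW⟩ hΔW).symm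
  have hinvW : Set.range (em⁻¹).left ⊆ Set.range em.left := by
    rw [hVr, ← hΔ]
    rintro _ ⟨z, rfl⟩
    refine ⟨(lift (toUnit V ≫ e₀) (𝟙 V)).left z, ?_⟩
    show (lift (toUnit V ≫ e₀) (𝟙 V) ≫ Δ).left z = (em⁻¹).left z
    rw [show lift (toUnit V ≫ e₀) (𝟙 V) ≫ Δ = em⁻¹ by
      rw [MonObj.comp_mul, GrpObj.comp_inv, lift_fst_assoc, lift_snd_assoc, Category.id_comp, Category.assoc, he₀o,
        MonObj.comp_one, _root_.one_mul]]
  obtain ⟨ν, hν⟩ := AVRosati.SubAV.exists_lift_over em⁻¹ em hinvW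
  have hone : Set.range (η : Pt ⟶ P).left ⊆ Set.range em.left := by
    rw [hVr]
    rintro _ ⟨z, rfl⟩
    rw [Subsingleton.elim (α := PrimeSpectrum k) z pt]
    rw [show (η : Pt ⟶ P) = o by
      simp only [o, Hom.one_def]
      rw [toUnit_unique (toUnit Pt) (𝟙 _), Category.id_comp]]
    exact hWo
  have hmul : Set.range ((fst V V ≫ em) * (snd V V ≫ em)).left ⊆ Set.range em.left := by
    rw [hVr, ← hΔ, show (fst V V ≫ em) * (snd V V ≫ em) = (V ◁ ν) ≫ Δ by
      simp only [Δ, MonObj.comp_mul, GrpObj.comp_inv, whiskerLeft_fst_assoc, whiskerLeft_snd_assoc]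
      rw [hν, GrpObj.comp_inv, inv_inv]]
    exact Set.range_comp_subset_range (V ◁ ν).left Δ.left
  obtain ⟨N, sN, j, hj, hjc, hNp, hNg, hjr⟩ := MaxAbelian.exists_image' em hone hmul hinvW
  refine ⟨N, sN, j, hj, hNp, hNg, hjc, by rw [hjr, hVr]; exact hWS, fun hN => ?_⟩
  rw [← hV₁r]
  rintro _ ⟨x, rfl⟩ _ ⟨y, rfl⟩
  have hsub : (Set.range ψ.left).Subsingleton := by
    refine Set.Subsingleton.anti ?_ hWs
    rw [← hVr, ← hjr]
    exact Set.subsingleton_range _
  have hψ : ψ ≫ tr (v ≫ em₁) = em₁ := by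
    show ψ ≫ (𝟙 P * (toUnit P ≫ (v ≫ em₁))) = em₁
    rw [MonObj.comp_mul, Category.comp_id, ← Category.assoc, toUnit_unique (ψ ≫ toUnit P) (toUnit V₁)]
    simp only [ψ]
    rw [_root_.mul_assoc, ← MonObj.comp_mul, inv_mul_cancel, MonObj.comp_one, _root_.mul_one]
  rw [← hψ, Over.comp_left, Scheme.Hom.comp_apply, Scheme.Hom.comp_apply]
  exact congrArg _ (hsub ⟨x, rfl⟩ ⟨y, rfl⟩)
/-- On a simple abelian variety a non-trivial effective module is ample. -/
theorem isAmple_of_simple {X : Over (Spec (CommRingCat.of k))} [GrpObj X] [IsProper X.hom] [GeometricallyIntegral X.hom]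
    (hsimple : ∀ (B : Over (Spec (CommRingCat.of k))) [GrpObj B] [GeometricallyIntegral B.hom] (i : B ⟶ X) [IsMonHom i]
      [IsClosedImmersion i.left], Subsingleton ↥B.left ∨ IsIso i)
    {G : X.left.Modules} (hG : PicF.IsInvertible G) (hsec : Nontrivial (Coh.HH X.left G 0))
    (hne : ¬ Nonempty (G ≅ Coh.structureModule X.left)) : CohB1.IsAmple G := by
  haveI : IsCommMonObj X := isCommMonObj_of_isProper_of_geometricallyIntegral X
  haveI : IsIntegral X.left := GeometricallyIntegral.isIntegral_of_subsingleton X.hom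
  obtain ⟨x, hx⟩ := exists_ne (0 : Coh.HH X.left G 0)
  let s : Γ(G, ⊤) := Sheaf.H.equiv₀ (Coh.toAb G) isTerminalTop x
  have hs : s ≠ 0 := fun h => hx ((Sheaf.H.equiv₀ (Coh.toAb G) isTerminalTop).injective (h.trans (map_zero _).symm))
  refine AVAmple.isAmple_of_finite_fixing hG hs ?_
  let c : U X := unitOf hG
  have hc : Inv c := inv_unitOf hG
  have hpsl : ∀ a : Pt ⟶ X, psl c a = 1 ↔ pb (tr a) c = c := fun a => by
    show AVRosati.pair c _ _ = 1 ↔ _
    rw [AVRosati.pair, pb_const hc, _root_.mul_one, pb_id, div_eq_one]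
  have hfix : ∀ a : Pt ⟶ X, pb (tr a) c = c ↔ AVPair.pl (tr a) (PicF.cl G) = PicF.cl G := fun a =>
    Units.ext_iff
  obtain ⟨S, hS, hSiff⟩ := exists_locus (A := X) (T := X) (inv_pair hc (fst X X) (snd X X) : Inv (mum c))
  replace hSiff : ∀ t : Pt ⟶ X, t.left (IsLocalRing.closedPoint k) ∈ S ↔ psl c t = 1 := fun t => by
    rw [hSiff t]
    exact iff_of_eq (congrArg (· = 1) (pb_sl_mum c t))
  let φc : (Pt ⟶ X) →* U X := MonoidHom.mk' (psl c) (psl_mul hc)
  haveI : CompactSpace X.left := QuasiCompact.compactSpace_of_compactSpace X.hom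
  haveI : IsLocallyNoetherian X.left := LocallyOfFiniteType.isLocallyNoetherian X.hom
  haveI : IsNoetherian X.left := { __ := ‹IsLocallyNoetherian X.left›, __ := ‹CompactSpace X.left› }
  by_cases hfin : S.Finite
  · refine Set.Finite.of_finite_image (f := fun a : Pt ⟶ X => a.left (IsLocalRing.closedPoint k))
      (hfin.subset ?_) fun a _ b _ h => AVEuler.point_injective h
    rintro _ ⟨a, ha, rfl⟩
    exact (hSiff a).2 ((hpsl a).2 ((hfix a).2 ha))
  exfalso
  obtain ⟨F', hFf, hFc, hFi, hFS⟩ := TopologicalSpace.NoetherianSpace.exists_finite_set_isClosed_irreducible hS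
  obtain ⟨W₁, hW₁, hW₁inf⟩ : ∃ W ∈ F', ¬ W.Subsingleton := by
    by_contra hcon
    push Not at hcon
    exact hfin (hFS ▸ hFf.sUnion fun W hW => (hcon W hW).finite)
  obtain ⟨N, sN, j, hj, hNp, hNg, hjc, hjS, hNW⟩ := exists_subAV_through hS
    ((hSiff 1).2 (psl_one hc))
    (fun a b ha hb => (hSiff _).2 (by
      show φc _ = 1
      rw [map_mul, map_inv, show φc a = 1 from (hSiff a).1 ha, show φc b = 1 from (hSiff b).1 hb, _root_.inv_one,
        _root_.one_mul]))
    (hFi W₁ hW₁) (hFc W₁ hW₁) (hFS ▸ Set.subset_sUnion_of_mem hW₁)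
  letI := sN
  haveI := hj
  haveI := hNg
  haveI := hjc
  rcases hsimple N j with h | h
  · exact hW₁inf (hNW h)
  · haveI := h
    haveI : IsIso j.left := (Over.forget _).map_isIso j
    have hall : ∀ a : Pt ⟶ X, F (PicF.cl G) (tr a) = PicF.cl G := fun a =>
      (hfix a).1 ((hpsl a).1 ((hSiff a).1 (hjS (j.left.homeomorph.surjective _))))
    refine hne (PicMul.cl_eq_iff.1 ((cl_eq_one_iff G).2 (AVVanish.triv_of_sections X G hG ?_ ?_)))
    · refine PicMul.cl_eq_iff.1 ?_
      rw [PicMul.cl_tensor]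
      have h1 := isAdditive_of_invariant ⟨G, rfl, hG⟩ hall
      rw [IsAdditive, show fst X X * snd X X = μ[X] from by rw [Hom.mul_def, lift_fst_snd, Category.id_comp]] at h1
      exact h1
    · refine ⟨InvX.ofSect s, fun h0 => hs ?_⟩
      rw [← InvX.one_ofSect s, h0]
      rfl

end Groth.Agent.AVFin.NS

end
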