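import Groth.Agent.AVFin.Zarhin
import Groth.Agent.AVFin.Count
import Groth.Agent.AVTate.Commutant
import Groth.Agent.FibDim.BaseField
import Groth.Agent.Lib.AVProj

/-!
# Galois-stable subspaces of Tate modules over a finite field
-/

noncomputable section

set_option autoImplicit false
set_option backward.isDefEq.respectTransparency false
set_option backward.isDefEq.respectTransparency.types false
set_option linter.style.haveILetI false
set_option linter.unusedSectionVars false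
set_option maxHeartbeats 1000000
set_option synthInstance.maxHeartbeats 400000

universe u

open CategoryTheory CategoryTheory.Limits AlgebraicGeometry MonoidalCategory CartesianMonoidalCategory
open scoped MonObj TensorProduct Groth.Agent.H23.PicMul

attribute [-instance] CategoryTheory.catToReflQuiver

namespace Groth.Agent.AVFin

open Groth.Agent Groth.Agent.AVTate

attribute [local instance] overHom isProper_tensor gi_tensor

variable {k : Type u} [Field k]

/-- `F` is, up to a multiple of the identity, a retract of a power of `X`. -/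
def Fac (X F : Over (Spec (CommRingCat.of k))) [GrpObj X] [GrpObj F] [IsCommMonObj F] : Prop :=
  ∃ (t : Type) (_ : Fintype t) (a : t → (X ⟶ F)) (b : t → (F ⟶ X)) (N : ℕ),
    (∀ i, IsMonHom (a i)) ∧ (∀ i, IsMonHom (b i)) ∧ 1 ≤ N ∧ ∏ i, (b i ≫ a i) = 𝟙 F ^ N

theorem prod_comp {t : Type*} [Fintype t] {W A B : Over (Spec (CommRingCat.of k))} [GrpObj A] [IsCommMonObj A]
    [GrpObj B] [IsCommMonObj B] (f : t → (W ⟶ A)) (h : A ⟶ B) [IsMonHom h] :
    (∏ i, f i) ≫ h = ∏ i, (f i ≫ h) :=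
  map_prod (MonoidHom.mk' (fun z : W ⟶ A => z ≫ h) fun a b => MonObj.mul_comp a b h) f Finset.univ

theorem comp_prod {t : Type*} [Fintype t] {W W' A : Over (Spec (CommRingCat.of k))} [GrpObj A] [IsCommMonObj A]
    (g : W' ⟶ W) (f : t → (W ⟶ A)) : g ≫ (∏ i, f i) = ∏ i, (g ≫ f i) :=
  map_prod (pre g) f Finset.univ

theorem Fac.of_isogeny {X F : Over (Spec (CommRingCat.of k))} [GrpObj X] [GrpObj F] [IsCommMonObj F] (α : X ⟶ F)
    (β : F ⟶ X) [IsMonHom α] [IsMonHom β] (N : ℕ) (hN : 1 ≤ N) (h : β ≫ α = 𝟙 F ^ N) : Fac X F :=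
  ⟨Unit, inferInstance, fun _ => α, fun _ => β, N, fun _ => inferInstance, fun _ => inferInstance, hN,
    by simpa using h⟩

theorem Fac.of_iso {X F G : Over (Spec (CommRingCat.of k))} [GrpObj X] [GrpObj F] [IsCommMonObj F] [GrpObj G]
    [IsCommMonObj G] (h : Fac X F) (φ : F ⟶ G) (ψ : G ⟶ F) [IsMonHom φ] [IsMonHom ψ] (hψφ : ψ ≫ φ = 𝟙 G) :
    Fac X G := by
  obtain ⟨t, ht, a, b, N, ha, hb, hN, hab⟩ := h
  refine ⟨t, ht, fun i => a i ≫ φ, fun i => ψ ≫ b i, N, fun i => ?_, fun i => ?_, hN, ?_⟩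
  · haveI := ha i
    infer_instance
  · haveI := hb i
    infer_instance
  · have e : ∀ i, (ψ ≫ b i) ≫ a i ≫ φ = ψ ≫ (b i ≫ a i) ≫ φ := fun i => by simp only [Category.assoc]
    rw [Finset.prod_congr rfl (fun i _ => e i), ← comp_prod, ← prod_comp, hab, MonObj.pow_comp, Category.id_comp,
      MonObj.comp_pow, hψφ]

theorem Fac.tensor {X F G : Over (Spec (CommRingCat.of k))} [GrpObj X] [GrpObj F] [IsCommMonObj F] [GrpObj G]
    [IsCommMonObj G] [IsCommMonObj (F ⊗ G)] [IsProper F.hom] [GeometricallyIntegral F.hom] [IsProper G.hom]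
    [GeometricallyIntegral G.hom] (hF : Fac X F) (hG : Fac X G) : Fac X (F ⊗ G) := by
  obtain ⟨t, ht, a, b, N, ha, hb, hN, hab⟩ := hF
  obtain ⟨t', ht', a', b', M, ha', hb', hM, hab'⟩ := hG
  let i₁ : F ⟶ F ⊗ G := lift (𝟙 F) 1
  let i₂ : G ⟶ F ⊗ G := lift 1 (𝟙 G)
  haveI hi₁ : IsMonHom i₁ := GrpSchLib.RigidHom.isMonHom_of_one i₁ (by
    ext1 <;> simp [i₁, comp_lift, MonObj.comp_one, MonObj.one_eq_one, IsMonHom.one_hom])
  haveI hi₂ : IsMonHom i₂ := GrpSchLib.RigidHom.isMonHom_of_one i₂ (by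
    ext1 <;> simp [i₂, comp_lift, MonObj.comp_one, MonObj.one_eq_one, IsMonHom.one_hom])
  haveI : IsMonHom (𝟙 F ^ M : F ⟶ F) := AVDegLib.isMonHom_pow (A := F) M
  haveI : IsMonHom (𝟙 G ^ N : G ⟶ G) := AVDegLib.isMonHom_pow (A := G) N
  refine ⟨t ⊕ t', inferInstance,
    fun s => s.elim (fun i => a i ≫ (𝟙 F ^ M) ≫ i₁) (fun j => a' j ≫ (𝟙 G ^ N) ≫ i₂),
    fun s => s.elim (fun i => fst F G ≫ b i) (fun j => snd F G ≫ b' j), N * M, ?_, ?_, Nat.mul_pos hN hM, ?_⟩
  · rintro (i | j)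
    · haveI := ha i
      exact inferInstanceAs (IsMonHom (a i ≫ (𝟙 F ^ M) ≫ i₁))
    · haveI := ha' j
      exact inferInstanceAs (IsMonHom (a' j ≫ (𝟙 G ^ N) ≫ i₂))
  · rintro (i | j)
    · haveI := hb i
      exact inferInstanceAs (IsMonHom (fst F G ≫ b i))
    · haveI := hb' j
      exact inferInstanceAs (IsMonHom (snd F G ≫ b' j))
  · have h1 : ∏ i, ((fst F G ≫ b i) ≫ a i ≫ (𝟙 F ^ M) ≫ i₁) = fst F G ≫ (𝟙 F ^ (N * M)) ≫ i₁ := by
      have e : ∀ i, (fst F G ≫ b i) ≫ a i ≫ (𝟙 F ^ M) ≫ i₁ = fst F G ≫ (b i ≫ a i) ≫ (𝟙 F ^ M) ≫ i₁ :=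
        fun i => by simp only [Category.assoc]
      rw [Finset.prod_congr rfl (fun i _ => e i), ← comp_prod, ← prod_comp, hab, ← Category.assoc (𝟙 F ^ N),
        MonObj.comp_pow, Category.comp_id, ← pow_mul]
    have h2 : ∏ j, ((snd F G ≫ b' j) ≫ a' j ≫ (𝟙 G ^ N) ≫ i₂) = snd F G ≫ (𝟙 G ^ (N * M)) ≫ i₂ := by
      have e : ∀ j, (snd F G ≫ b' j) ≫ a' j ≫ (𝟙 G ^ N) ≫ i₂ = snd F G ≫ (b' j ≫ a' j) ≫ (𝟙 G ^ N) ≫ i₂ :=
        fun i => by simp only [Category.assoc]
      rw [Finset.prod_congr rfl (fun i _ => e i), ← comp_prod, ← prod_comp, hab', ← Category.assoc (𝟙 G ^ M),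
        MonObj.comp_pow, Category.comp_id, ← pow_mul, Nat.mul_comm M N]
    rw [Fintype.prod_sum_type]
    simp only [Sum.elim_inl, Sum.elim_inr]
    rw [h1, h2]
    refine CartesianMonoidalCategory.hom_ext _ _ ?_ ?_ <;>
      simp [i₁, i₂, MonObj.mul_comp, MonObj.comp_one, MonObj.comp_pow, MonObj.pow_comp]

theorem dim_tensor {A B : Over (Spec (CommRingCat.of k))} [IsProper A.hom] [IsProper B.hom] {a b : ℕ}
    (ha : topologicalKrullDim A.left = a) (hb : topologicalKrullDim B.left = b) :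
    topologicalKrullDim (A ⊗ B).left = (a + b : ℕ) := by
  haveI : Subsingleton ↥(Spec (CommRingCat.of k)) := inferInstanceAs (Subsingleton (PrimeSpectrum k))
  show topologicalKrullDim ↥(pullback A.hom B.hom) = _
  rw [FibDim.topologicalKrullDim_pullback, ha, hb]
  push_cast
  rfl

variable [Finite k]

variable (k) in
/-- Finitely many candidates for the eightfold products. -/
theorem exists_finite_products (g : ℕ) (hg : 1 ≤ g) :
    ∃ T : Set (Over (Spec (CommRingCat.of k))), T.Finite ∧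
      ∀ (Y : Over (Spec (CommRingCat.of k))) [GrpObj Y] [IsProper Y.hom] [GeometricallyIntegral Y.hom],
        topologicalKrullDim Y.left = g → ∀ L : Y.left.Modules, CohB1.IsAmple L →
        ∃ (Q : Over (Spec (CommRingCat.of k))) (_ : GrpObj Q) (_ : IsProper Q.hom) (_ : GeometricallyIntegral Q.hom)
          (q : Y ⟶ Q) (mu : Q ⟶ Y) (d : ℕ), IsMonHom q ∧ IsMonHom mu ∧ 1 ≤ d ∧ q ≫ mu = 𝟙 Y ^ d ∧
            mu ≫ q = 𝟙 Q ^ d ∧ ∃ W ∈ T, Nonempty (P4 Y ⊗ P4 Q ≅ W) := by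
  obtain ⟨T, hT, hcl⟩ := finite_classes k ((g + g + (g + g)) + (g + g + (g + g))) (2 ^ (8 * g)) (by omega)
  refine ⟨T, hT, fun Y _ _ _ hdim L hL => ?_⟩
  obtain ⟨Q, sQ, hQp, hQg, q, mu, d, C, hdimQ, hq, hmu, hd, h1, h2, ⟨M, hM, hMa⟩, hχ⟩ := zarhin hdim hL
  letI := sQ
  haveI := hQp
  haveI := hQg
  haveI := hq
  haveI := hmu
  refine ⟨Q, sQ, hQp, hQg, q, mu, d, hq, hmu, hd, h1, h2, ?_⟩
  refine hcl (P4 Y ⊗ P4 Q) (dim_tensor (dim_tensor (dim_tensor hdim hdim) (dim_tensor hdim hdim))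
    (dim_tensor (dim_tensor hdimQ hdimQ) (dim_tensor hdimQ hdimQ))) M hMa ?_
  rw [← AVEuler.chi_cl, hM]
  exact hχ.trans (by push_cast; rfl)

section Ranges

variable {l : ℕ} [Fact l.Prime]

/-- In a semisimple algebra of endomorphisms two ranges add up to a range. -/
theorem exists_range_sup {K V : Type*} [Field K] [AddCommGroup V] [Module K V] (E : Subalgebra K (Module.End K V))
    [IsSemisimpleRing E] {u v : Module.End K V} (hu : u ∈ E) (hv : v ∈ E) :
    ∃ w ∈ E, LinearMap.range w = LinearMap.range u ⊔ LinearMap.range v := by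
  obtain ⟨⟨r, hr⟩, hur⟩ := exists_regular_of_semisimple (⟨u, hu⟩ : E)
  replace hur : u * r * u = u := congrArg Subtype.val hur
  set e := u * r with he
  let t := (1 - e) * v
  have ht : t ∈ E := E.mul_mem (E.sub_mem E.one_mem (E.mul_mem hu hr)) hv
  obtain ⟨⟨s, hs⟩, hts⟩ := exists_regular_of_semisimple (⟨t, ht⟩ : E)
  replace hts : t * s * t = t := congrArg Subtype.val hts
  set g := t * s with hg
  have hee : e * e = e := by
    conv_lhs => arg 2; rw [he]
    rw [← _root_.mul_assoc, hur]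
  have het : e * t = 0 := by rw [show t = (1 - e) * v from rfl, ← _root_.mul_assoc, mul_sub, _root_.mul_one, hee, sub_self, zero_mul]
  have heg : e * g = 0 := by rw [hg, ← _root_.mul_assoc, het, zero_mul]
  have hgg : g * g = g := by
    conv_lhs => arg 2; rw [hg]
    rw [← _root_.mul_assoc, hts]
  let w := e + g - g * e
  refine ⟨w, E.sub_mem (E.add_mem (E.mul_mem hu hr) (E.mul_mem ht hs)) (E.mul_mem (E.mul_mem ht hs) (E.mul_mem hu hr)), ?_⟩
  have hwe : w * e = e := by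
    simp only [w, sub_mul, add_mul, _root_.mul_assoc, hee]
    abel
  have hwg : w * g = g := by
    simp only [w, sub_mul, add_mul, _root_.mul_assoc, heg, mul_zero, hgg]
    abel
  have hmem : ∀ (a b : Module.End K V) x, (a * b) x ∈ LinearMap.range a := fun a b x => ⟨b x, rfl⟩
  have hge : ∀ x, g x ∈ LinearMap.range u ⊔ LinearMap.range v := fun x => by
    show (1 - e) (v (s x)) ∈ _
    rw [LinearMap.sub_apply, Module.End.one_apply]
    exact sub_mem (Submodule.mem_sup_right ⟨_, rfl⟩) (Submodule.mem_sup_left (hmem u r _))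
  refine le_antisymm ?_ (sup_le ?_ ?_)
  · rintro _ ⟨x, rfl⟩
    show e x + g x - g (e x) ∈ _
    exact sub_mem (add_mem (Submodule.mem_sup_left (hmem u r x)) (hge x)) (hge _)
  · rintro _ ⟨x, rfl⟩
    have h1 : e (u x) = u x := LinearMap.congr_fun hur x
    exact ⟨u x, (congrArg w h1).symm.trans ((LinearMap.congr_fun hwe (u x)).trans h1)⟩
  · rintro _ ⟨x, rfl⟩
    have h1 : g (t x) = t x := LinearMap.congr_fun hts x
    have h2 : w (t x) = t x := (congrArg w h1).symm.trans ((LinearMap.congr_fun hwg (t x)).trans h1)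
    have h3 : w (e (v x)) = e (v x) := LinearMap.congr_fun hwe (v x)
    refine ⟨t x + e (v x), ?_⟩
    rw [map_add, h2, h3]
    show (1 - e) (v x) + e (v x) = v x
    rw [LinearMap.sub_apply, Module.End.one_apply, sub_add_cancel]

/-- In a semisimple algebra of endomorphisms finitely many ranges add up to a range. -/
theorem exists_range_iSup {K V : Type*} [Field K] [AddCommGroup V] [Module K V] (E : Subalgebra K (Module.End K V))
    [IsSemisimpleRing E] {t : Type*} (s : Finset t) (u : t → Module.End K V) (hu : ∀ i, u i ∈ E) :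
    ∃ w ∈ E, LinearMap.range w = ⨆ i ∈ s, LinearMap.range (u i) := by
  classical
  induction s using Finset.induction_on with
  | empty => exact ⟨0, E.zero_mem, by simp⟩
  | @insert a s _ ih =>
    obtain ⟨w, hw, hwr⟩ := ih
    obtain ⟨w', hw', hr⟩ := exists_range_sup E (hu a) hw
    exact ⟨w', hw', by rw [hr, hwr, Finset.iSup_insert]⟩

variable {Ω : Type u} [Field Ω] [Algebra k Ω]

/-- The span of the homomorphisms in the maps of Tate modules. -/
def homSpan (l : ℕ) [Fact l.Prime] (Ω : Type u) [Field Ω] [Algebra k Ω] (A B : Over (Spec (CommRingCat.of k)))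
    [GrpObj A] [IsCommMonObj A] [GrpObj B] [IsCommMonObj B] :
    Submodule ℤ_[l] (AbDual.TateMod A l (SGA7.pt (K := k) Ω) →ₗ[ℤ_[l]] AbDual.TateMod B l (SGA7.pt (K := k) Ω)) :=
  Submodule.span ℤ_[l] (Set.range (EndAV.Hom.tateMap (A := A) (B := B) l (SGA7.pt (K := k) Ω)))

/-- A limit of homomorphisms with ranges shrinking to `W`. -/
theorem exists_limit {A B : Over (Spec (CommRingCat.of k))} [GrpObj A] [IsCommMonObj A] [IsProper A.hom]
    [GeometricallyIntegral A.hom] [GrpObj B] [IsCommMonObj B] [IsProper B.hom] [GeometricallyIntegral B.hom]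
    [Module.Finite ℤ_[l] (AbDual.TateMod B l (SGA7.pt (K := k) Ω))]
    (W : Submodule ℤ_[l] (AbDual.TateMod B l (SGA7.pt (K := k) Ω))) (σ : ℕ → ℕ) (hσ : ∀ j, j ≤ σ j)
    (f : ℕ → EndAV.Hom A B)
    (h₁ : ∀ j x, ∃ z, EndAV.Hom.tateMap l (SGA7.pt (K := k) Ω) (f j) x - ((l : ℤ_[l]) ^ σ j) • z ∈ W)
    (h₂ : ∀ j, ∀ w ∈ W, ∃ x, EndAV.Hom.tateMap l (SGA7.pt (K := k) Ω) (f j) x = w) :
    ∃ h ∈ homSpan l Ω A B, LinearMap.range h = W := by
  haveI : Module.Finite ℤ (EndAV.Hom A B) := (AVHomLib.hom_free (A := A) (B := B)).1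
  obtain ⟨r, e, he'⟩ := Module.Finite.exists_fin (R := ℤ) (M := EndAV.Hom A B)
  choose a ha using fun j => (Submodule.mem_span_range_iff_exists_fun ℤ).1
    (he' ▸ Submodule.mem_top : f j ∈ Submodule.span ℤ (Set.range e))
  obtain ⟨b, φ, hφ, hb⟩ := CompactSpace.tendsto_subseq (fun j t => ((a j t : ℤ) : ℤ_[l]))
  let Te := fun t => EndAV.Hom.tateMap l (SGA7.pt (K := k) Ω) (e t)
  refine ⟨∑ t, b t • Te t, sum_mem fun t _ => Submodule.smul_mem _ _ (Submodule.subset_span ⟨_, rfl⟩), ?_⟩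
  have happrox : ∀ N : ℕ, ∃ j, N ≤ σ j ∧ ∀ x, ∃ z, (∑ t, b t • Te t) x =
      EndAV.Hom.tateMap l (SGA7.pt (K := k) Ω) (f j) x + ((l : ℤ_[l]) ^ N) • z := fun N => by
    have hl1 : (0 : ℝ) < (l : ℝ) ^ (-(N : ℤ)) := zpow_pos (by exact_mod_cast (Fact.out : l.Prime).pos) _
    obtain ⟨M, hM⟩ := Metric.tendsto_atTop.1 hb _ hl1
    refine ⟨φ (max M N), le_trans (le_max_right M N) ((hφ.id_le _).trans (hσ _)), fun x => ?_⟩
    have hd : ∀ t, ∃ d, b t - ((a (φ (max M N)) t : ℤ) : ℤ_[l]) = (l : ℤ_[l]) ^ N * d := fun t => by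
      refine (Ideal.mem_span_singleton.1 ((PadicInt.norm_le_pow_iff_mem_span_pow _ N).1 ?_))
      rw [← dist_eq_norm, dist_comm]
      exact ((dist_le_pi_dist _ _ t).trans_lt (hM _ (le_max_left M N))).le
    choose d hd using hd
    refine ⟨∑ t, d t • Te t x, ?_⟩
    rw [← ha (φ (max M N)), map_sum, LinearMap.sum_apply, LinearMap.sum_apply, Finset.smul_sum,
      ← Finset.sum_add_distrib]
    refine Finset.sum_congr rfl fun t _ => ?_
    rw [map_zsmul, ← Int.cast_smul_eq_zsmul ℤ_[l], LinearMap.smul_apply, LinearMap.smul_apply, smul_smul,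
      ← hd t, ← add_smul, add_sub_cancel]
  refine le_antisymm ?_ fun w hw => ?_
  · rintro _ ⟨x, rfl⟩
    refine mem_of_forall_mem_sup W _ fun N => ?_
    obtain ⟨j, hj, hz⟩ := happrox N
    obtain ⟨z, hz⟩ := hz x
    obtain ⟨z', hz'⟩ := h₁ j x
    obtain ⟨d, hd⟩ := Nat.exists_eq_add_of_le hj
    refine ⟨z + ((l : ℤ_[l]) ^ d) • z', ?_⟩
    rw [hz, smul_add, smul_smul, ← pow_add, ← hd]
    convert hz' using 1
    abel
  · refine mem_of_forall_mem_sup (LinearMap.range (∑ t, b t • Te t)) _ fun N => ?_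
    obtain ⟨j, hj, hz⟩ := happrox N
    obtain ⟨x, hx⟩ := h₂ j w hw
    obtain ⟨z, hz⟩ := hz x
    refine ⟨-z, x, ?_⟩
    rw [hz, hx, smul_neg, sub_neg_eq_add]

theorem sum_tateMapₗ {A : Over (Spec (CommRingCat.of k))} [GrpObj A] [IsCommMonObj A] {t : Type*} [Fintype t]
    (c : t → (A ⟶ A)) [∀ i, IsMonHom (c i)] (N : ℕ) (h : ∏ i, c i = 𝟙 A ^ N)
    (x : AbDual.TateMod A l (SGA7.pt (K := k) Ω)) :
    ∑ i, AbDual.tateMapₗ (l := l) (c i) x = (N : ℤ_[l]) • x := by
  refine AbDual.TateMod.ext fun n => ?_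
  let ev : AbDual.TateMod A l (SGA7.pt (K := k) Ω) →+ Additive (SGA7.pt (K := k) Ω ⟶ A) :=
    AddMonoidHom.mk' (fun z => (z : ℕ → Additive (SGA7.pt (K := k) Ω ⟶ A)) n) fun _ _ => rfl
  show ev (∑ i, AbDual.tateMapₗ (l := l) (c i) x) = ev ((N : ℤ_[l]) • x)
  rw [map_sum, Nat.cast_smul_eq_nsmul, map_nsmul]
  show ∑ i, Additive.ofMul ((ev x).toMul ≫ c i) = _
  rw [← ofMul_prod, ← comp_prod, h, MonObj.comp_pow, Category.comp_id]
  rfl

/-- The range of a map out of a retract up to multiples of a power of `A` is the range of an endomorphism. -/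
theorem exists_range_of_fac {A Z : Over (Spec (CommRingCat.of k))} [GrpObj A] [IsCommMonObj A] [IsProper A.hom]
    [GeometricallyIntegral A.hom] [GrpObj Z] [IsCommMonObj Z] (hZ : Fac A Z)
    {h : AbDual.TateMod Z l (SGA7.pt (K := k) Ω) →ₗ[ℤ_[l]] AbDual.TateMod A l (SGA7.pt (K := k) Ω)}
    (hh : h ∈ homSpan l Ω Z A) :
    ∃ u ∈ endSpan l Ω A, LinearMap.range u = LinearMap.range (h.baseChange ℚ_[l]) := by
  obtain ⟨E, hE, hmem⟩ := exists_semisimple_algebra (l := l) (Ω := Ω) A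
  obtain ⟨t, ht, a, b, N, ha, hb, hN, hab⟩ := hZ
  haveI := ha
  haveI := hb
  let v : t → Module.End ℚ_[l] (Vt l Ω A) := fun i => h.baseChange ℚ_[l] ∘ₗ Vmap (a i)
  have hv : ∀ i, v i ∈ E := fun i => by
    refine (hmem _).2 ?_
    show h.baseChange ℚ_[l] ∘ₗ Vmap (a i) ∈ _
    clear v
    induction hh using Submodule.span_induction with
    | mem x hx =>
      obtain ⟨f, rfl⟩ := hx
      refine Submodule.subset_span ⟨a i ≫ f.toHom, inferInstance, ?_⟩
      rw [EndAV.Hom.tateMap_apply]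
      exact (Vmap_comp (a i) f.toHom).symm
    | zero => rw [LinearMap.baseChange_zero, LinearMap.zero_comp]; exact zero_mem _
    | add x y _ _ hx hy => rw [LinearMap.baseChange_add, LinearMap.add_comp]; exact add_mem hx hy
    | smul c x _ hx =>
      rw [LinearMap.baseChange_smul, LinearMap.smul_comp, ← algebraMap_smul ℚ_[l] c]
      exact Submodule.smul_mem _ _ hx
  obtain ⟨u, hu, hur⟩ := exists_range_iSup E Finset.univ v hv
  refine ⟨u, (hmem u).1 hu, hur.trans (le_antisymm (iSup₂_le fun i _ => LinearMap.range_comp_le_range _ _) ?_)⟩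
  rintro _ ⟨x, rfl⟩
  have hsum : ∀ y : Vt l Ω Z, ∑ i, Vmap (a i) (Vmap (b i) y) = (N : ℚ_[l]) • y := fun y => by
    induction y using TensorProduct.induction_on with
    | zero => simp
    | add y z hy hz => simp only [map_add, Finset.sum_add_distrib, hy, hz, smul_add]
    | tmul c z =>
      haveI : ∀ i, IsMonHom (b i ≫ a i) := fun i => inferInstance
      simp only [LinearMap.baseChange_tmul]
      rw [← TensorProduct.tmul_sum]
      have := sum_tateMapₗ (l := l) (Ω := Ω) (fun i => b i ≫ a i) N hab z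
      simp only [tateMapₗ_comp, LinearMap.comp_apply] at this
      rw [this, TensorProduct.tmul_smul, ← algebraMap_smul ℚ_[l] (N : ℤ_[l]), map_natCast]
  have hN0 : (N : ℚ_[l]) ≠ 0 := Nat.cast_ne_zero.2 (by omega)
  refine (Submodule.smul_mem_iff _ hN0).1 ?_
  rw [← map_smul, ← hsum x, map_sum]
  exact Submodule.sum_mem _ fun i _ => le_iSup₂ (f := fun i (_ : i ∈ Finset.univ) => LinearMap.range (v i)) i
    (Finset.mem_univ i) ⟨_, rfl⟩

end Ranges

section Main

variable {l : ℕ} [Fact l.Prime] {Ω : Type u} [Field Ω] [Algebra k Ω] [IsAlgClosed Ω] [Algebra.IsAlgebraic k Ω]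
  [Normal k Ω]

omit [Finite k] in
theorem isogeny_data {X Y : Over (Spec (CommRingCat.of k))} [GrpObj X] [IsCommMonObj X] [IsProper X.hom]
    [GeometricallyIntegral X.hom] [GrpObj Y] [IsCommMonObj Y] [IsProper Y.hom] [GeometricallyIntegral Y.hom]
    (q : X ⟶ Y) (v : Y ⟶ X) (N : ℕ) (hN : (N : k) ≠ 0) (h₁ : q ≫ v = 𝟙 X ^ N) (h₂ : v ≫ q = 𝟙 Y ^ N) {g : ℕ}
    (hg : topologicalKrullDim X.left = g) : topologicalKrullDim Y.left = g ∧ IsFinite v.left := by
  haveI : IsProper v.left := by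
    haveI : IsProper (v.left ≫ X.hom) := by rw [Over.w]; infer_instance
    exact IsProper.of_comp v.left X.hom
  haveI : IsProper q.left := by
    haveI : IsProper (q.left ≫ Y.hom) := by rw [Over.w]; infer_instance
    exact IsProper.of_comp q.left Y.hom
  haveI : IsFinite v.left := by
    haveI : IsFinite (v.left ≫ q.left) := by
      rw [← Over.comp_left, h₂]
      exact (AVTorsLib.isFinite_etale_pow (A := Y) N hN).1
    exact IsFinite.of_comp v.left q.left
  haveI : IsFinite q.left := by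
    haveI : IsFinite (q.left ≫ v.left) := by
      rw [← Over.comp_left, h₁]
      exact (AVTorsLib.isFinite_etale_pow (A := X) N hN).1
    exact IsFinite.of_comp q.left v.left
  haveI : IsLocallyNoetherian X.left := LocallyOfFiniteType.isLocallyNoetherian X.hom
  haveI : IsLocallyNoetherian Y.left := LocallyOfFiniteType.isLocallyNoetherian Y.hom
  refine ⟨?_, inferInstance⟩
  rw [← hg]
  exact le_antisymm
    ((S4717.result v.left).1.le.trans Topology.IsInducing.subtypeVal.topologicalKrullDim_le)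
    ((S4717.result q.left).1.le.trans Topology.IsInducing.subtypeVal.topologicalKrullDim_le)

/-- Galois-stable subspaces of the rational Tate module are ranges of endomorphisms. -/
theorem exists_range_eq (A : Over (Spec (CommRingCat.of k))) [GrpObj A] [IsCommMonObj A] [IsProper A.hom]
    [GeometricallyIntegral A.hom] (hl : (l : k) ≠ 0)
    (W : Submodule ℚ_[l] (Vt l Ω A)) (hW : ∀ τ : Ω ≃ₐ[k] Ω, W.map (Vgal A τ) ≤ W) :
    ∃ u ∈ endSpan l Ω A, LinearMap.range u = W := by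
  obtain ⟨g, hg⟩ := AVDegPoly.exists_dim (A := A)
  obtain ⟨hfree, hfin, hrank⟩ := AVDegPoly.finrank_tateMod (A := A) Ω l hl hg
  rcases Nat.eq_zero_or_pos g with hg0 | hg0
  · subst hg0
    haveI : Subsingleton (AbDual.TateMod A l (SGA7.pt (K := k) Ω)) := Module.finrank_zero_iff.1 hrank
    haveI : Subsingleton (Vt l Ω A) := subsingleton_of_forall_eq 0 fun y => by
      induction y using TensorProduct.induction_on with
      | zero => rfl
      | add y z hy hz => rw [hy, hz, add_zero]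
      | tmul c z => rw [Subsingleton.elim z 0, TensorProduct.tmul_zero]
    exact ⟨0, zero_mem _, Submodule.ext fun x => by simp [Subsingleton.elim x 0]⟩
  obtain ⟨M, hM⟩ := AVProj.exists_isAmple (X := A)
  obtain ⟨T, hT, hTY⟩ := exists_finite_products k g hg0
  let W₀ := (W.restrictScalars ℤ_[l]).comap
    (TensorProduct.mk ℤ_[l] ℚ_[l] (AbDual.TateMod A l (SGA7.pt (K := k) Ω)) 1)
  have hW₀ : ∀ τ : Ω ≃ₐ[k] Ω, ∀ x ∈ W₀, galT A l τ x ∈ W₀ := fun τ x hx =>
    hW τ ⟨_, hx, LinearMap.baseChange_tmul ..⟩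
  let L : ℕ → Submodule ℤ_[l] (AbDual.TateMod A l (SGA7.pt (K := k) Ω)) := fun n =>
    W₀ ⊔ LinearMap.range (((l : ℤ_[l]) ^ n) • LinearMap.id)
  have hLmem : ∀ n x, x ∈ L n ↔ ∃ z, x - ((l : ℤ_[l]) ^ n) • z ∈ W₀ := fun n x => by
    refine ⟨fun h => ?_, ?_⟩
    · obtain ⟨w, hw, _, ⟨z, rfl⟩, rfl⟩ := Submodule.mem_sup.1 h
      exact ⟨z, by simpa using hw⟩
    · rintro ⟨z, hz⟩
      exact Submodule.mem_sup.2 ⟨_, hz, _, ⟨z, rfl⟩, by simp⟩
  have h0 := fun n => exists_isogeny_of_lattice hl n (L n) (fun x => (hLmem n _).2 ⟨x, by rw [sub_self]; exact zero_mem W₀⟩)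
    (fun τ x hx => by
      obtain ⟨z, hz⟩ := (hLmem n x).1 hx
      exact (hLmem n _).2 ⟨galT A l τ z, by simpa only [map_sub, map_smul] using hW₀ τ _ hz⟩)
  choose Y iG iC iP iI q iq v iv hqv hvq hr using h0
  have hlN : ∀ n, ((l ^ n : ℕ) : k) ≠ 0 := fun n => by rw [Nat.cast_pow]; exact pow_ne_zero n hl
  have hstep : ∀ n, ∃ (Z : Over (Spec (CommRingCat.of k))) (_ : GrpObj Z) (_ : IsCommMonObj Z) (_ : IsProper Z.hom)
      (_ : GeometricallyIntegral Z.hom) (π : Z ⟶ A) (_ : IsMonHom π),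
      Fac A Z ∧ (∃ Wc ∈ T, Nonempty (Z ≅ Wc)) ∧
        LinearMap.range (AbDual.tateMapₗ (l := l) (T := SGA7.pt (K := k) Ω) π) = L n := fun n => by
    letI := iG n
    haveI := iC n
    haveI := iP n
    haveI := iI n
    haveI := iq n
    haveI := iv n
    obtain ⟨hgY, hvf⟩ := isogeny_data (q n) (v n) _ (hlN n) (hqv n) (hvq n) hg
    haveI := hvf
    obtain ⟨Q, sQ, hQp, hQg, q', mu, d, hq', hmu, hd, h1, h2, Wc, hWc, hZW⟩ :=
      hTY (Y n) hgY _ (AmpleDev.isAmple_pullback_finite k (v n).left hM)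
    letI := sQ
    haveI := hQp
    haveI := hQg
    haveI := hq'
    haveI := hmu
    haveI : IsCommMonObj Q := isCommMonObj_of_isProper_of_geometricallyIntegral Q
    haveI : IsCommMonObj (Y n ⊗ Y n) := isCommMonObj_of_isProper_of_geometricallyIntegral _
    haveI : IsCommMonObj (P4 (Y n)) := isCommMonObj_of_isProper_of_geometricallyIntegral _
    haveI : IsCommMonObj (Q ⊗ Q) := isCommMonObj_of_isProper_of_geometricallyIntegral _
    haveI : IsCommMonObj (P4 Q) := isCommMonObj_of_isProper_of_geometricallyIntegral _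
    haveI : IsCommMonObj (P4 (Y n) ⊗ P4 Q) := isCommMonObj_of_isProper_of_geometricallyIntegral _
    have hlpos : 1 ≤ l ^ n := Nat.one_le_pow _ _ (Fact.out : l.Prime).pos
    have hFY : Fac A (Y n) := Fac.of_isogeny (q n) (v n) _ hlpos (hvq n)
    have hFQ : Fac A Q := Fac.of_isogeny (q n ≫ q') (mu ≫ v n) (d * l ^ n) (Nat.mul_pos hd hlpos) (by
      rw [Category.assoc, ← Category.assoc (v n) (q n), hvq n, MonObj.pow_comp, Category.id_comp, MonObj.comp_pow,
        h2, pow_mul])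
    let s : Y n ⟶ P4 (Y n) ⊗ P4 Q := lift (mk4 ![𝟙 (Y n), 1, 1, 1]) 1
    let p : P4 (Y n) ⊗ P4 Q ⟶ Y n := fst _ _ ≫ fst _ _ ≫ fst _ _
    haveI : IsMonHom s := GrpSchLib.RigidHom.isMonHom_of_one s (by
      refine CartesianMonoidalCategory.hom_ext _ _ (hom_ext4 fun i => ?_) ?_
      · fin_cases i <;> simp [s, π4, mk4, comp_lift, MonObj.comp_one, MonObj.one_eq_one, IsMonHom.one_hom]
      · simp [s, comp_lift, MonObj.comp_one, MonObj.one_eq_one, IsMonHom.one_hom])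
    have hsp : s ≫ p = 𝟙 _ := by simp [s, p, mk4]
    refine ⟨_, inferInstance, inferInstance, inferInstance, inferInstance, p ≫ v n, inferInstance,
      ((hFY.tensor hFY).tensor (hFY.tensor hFY)).tensor ((hFQ.tensor hFQ).tensor (hFQ.tensor hFQ)),
      ⟨Wc, hWc, hZW⟩, ?_⟩
    rw [tateMapₗ_comp, LinearMap.range_comp, LinearMap.range_eq_top.2 ?_, Submodule.map_top, hr]
    intro y
    refine ⟨AbDual.tateMapₗ (l := l) (T := SGA7.pt (K := k) Ω) s y, ?_⟩
    rw [← LinearMap.comp_apply, ← tateMapₗ_comp, tateMapₗ_congr hsp]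
    exact AbDual.TateMod.ext fun m => congrArg Additive.ofMul (Category.comp_id _)
  choose Z iZG iZC iZP iZI π iπ hFac hcl hrange using hstep
  haveI := hT.to_subtype
  choose Wc hWc hiso using hcl
  let idx : ℕ → T := fun n => ⟨Wc n, hWc n⟩
  obtain ⟨i₀, hi₀⟩ := Finite.exists_infinite_fiber idx
  haveI := hi₀
  obtain ⟨σ, hσ, hσS⟩ : ∃ σ : ℕ → ℕ, StrictMono σ ∧ ∀ j, σ j ∈ idx ⁻¹' {i₀} :=
    ⟨_, Nat.nth_strictMono (Set.infinite_coe_iff.1 hi₀), fun j => Nat.nth_mem_of_infinite (Set.infinite_coe_iff.1 hi₀) j⟩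
  letI : ∀ n, GrpObj (Z n) := iZG
  haveI : ∀ n, IsCommMonObj (Z n) := iZC
  haveI : ∀ n, IsProper (Z n).hom := iZP
  haveI : ∀ n, GeometricallyIntegral (Z n).hom := iZI
  haveI : ∀ n, IsMonHom (π n) := iπ
  have hφ : ∀ j, ∃ (φ : Z (σ 0) ⟶ Z (σ j)) (ψ : Z (σ j) ⟶ Z (σ 0)), IsMonHom φ ∧ IsMonHom ψ ∧ ψ ≫ φ = 𝟙 _ := fun j => by
    obtain ⟨e₀⟩ := hiso (σ 0)
    obtain ⟨e⟩ := hiso (σ j)
    have h : Wc (σ 0) = Wc (σ j) := congrArg Subtype.val ((hσS 0 : idx (σ 0) = i₀).trans (hσS j : idx (σ j) = i₀).symm)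
    obtain ⟨φ, ψ, h1, h2, -, h4⟩ := exists_hom_of_iso (e₀ ≪≫ eqToIso h ≪≫ e.symm)
    exact ⟨φ, ψ, h1, h2, h4⟩
  choose φ ψ iφ iψ hψφ using hφ
  haveI := iφ
  haveI := iψ
  let f : ℕ → EndAV.Hom (Z (σ 0)) A := fun j => EndAV.Hom.of (φ j ≫ π (σ j))
  have hf : ∀ j, EndAV.Hom.tateMap l (SGA7.pt (K := k) Ω) (f j) =
      AbDual.tateMapₗ (π (σ j)) ∘ₗ AbDual.tateMapₗ (φ j) := fun j => tateMapₗ_comp (φ j) (π (σ j))
  obtain ⟨h, hh, hhr⟩ := exists_limit (Ω := Ω) W₀ σ (fun j => hσ.id_le j) f (fun j x => by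
      rw [hf]
      exact (hLmem _ _).1 (hrange (σ j) ▸ ⟨_, rfl⟩)) (fun j w hw => by
      have hw' : w ∈ L (σ j) := Submodule.mem_sup_left hw
      rw [← hrange] at hw'
      obtain ⟨y, hy⟩ := hw'
      refine ⟨AbDual.tateMapₗ (ψ j) y, ?_⟩
      rw [hf, LinearMap.comp_apply, ← LinearMap.comp_apply (f := AbDual.tateMapₗ (φ j)), ← tateMapₗ_comp,
        tateMapₗ_congr (hψφ j), show AbDual.tateMapₗ (l := l) (T := SGA7.pt (K := k) Ω) (𝟙 (Z (σ j))) y = y from
          AbDual.TateMod.ext fun m => congrArg Additive.ofMul (Category.comp_id _), hy])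
  obtain ⟨u, hu, hur⟩ := exists_range_of_fac (hFac (σ 0)) hh
  refine ⟨u, hu, hur.trans (le_antisymm ?_ fun w hw => ?_)⟩
  · rintro _ ⟨w, rfl⟩
    obtain ⟨m, z, hz⟩ := exists_pow_smul w
    have h' : ((l : ℚ_[l]) ^ m) • h.baseChange ℚ_[l] w ∈ W := by
      rw [← map_smul, hz, LinearMap.baseChange_tmul]
      exact hhr.le ⟨z, rfl⟩
    exact (Submodule.smul_mem_iff _ (pow_ne_zero m (Nat.cast_ne_zero.2 (Fact.out : l.Prime).ne_zero))).1 h'
  · obtain ⟨m, z, hz⟩ := exists_pow_smul w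
    obtain ⟨x, hx⟩ := hhr.ge (show z ∈ W₀ from show (1 : ℚ_[l]) ⊗ₜ z ∈ W from hz ▸ W.smul_mem _ hw)
    have h' : ((l : ℚ_[l]) ^ m) • w ∈ LinearMap.range (h.baseChange ℚ_[l]) := ⟨1 ⊗ₜ x, by
      rw [LinearMap.baseChange_tmul, hx, hz]⟩
    exact (Submodule.smul_mem_iff _ (pow_ne_zero _ (Nat.cast_ne_zero.2 (Fact.out : l.Prime).ne_zero))).1 h'

end Main

end Groth.Agent.AVFin

end
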