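import Groth.Agent.AVFin.Quot
import Groth.Agent.AVFin.Mult
import Groth.Agent.AmpleDev.Factor
import Groth.Agent.S7790
import Mathlib.NumberTheory.SumFourSquares

/-!
# Zarhin's trick

For an abelian variety `Y` of dimension `g` with quotient `q : Y ⟶ Q` by `K(c)` of an ample symmetric class,
`Y⁴ × Q⁴` carries an ample class of Euler characteristic `2 ^ (8 g)`.
-/

noncomputable section

set_option autoImplicit false
set_option backward.isDefEq.respectTransparency false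
set_option backward.isDefEq.respectTransparency.types false
set_option linter.style.haveILetI false
set_option linter.unusedSectionVars false
set_option maxHeartbeats 1000000
set_option synthInstance.maxHeartbeats 400000

universe u

open CategoryTheory CategoryTheory.Limits AlgebraicGeometry MonoidalCategory CartesianMonoidalCategory
open scoped MonObj Groth.Agent.H23.PicMul

attribute [-instance] CategoryTheory.catToReflQuiver

namespace Groth.Agent.AVFin

open Groth.Agent Groth.Agent.AVRosati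

/-- The identity behind the trick, for a symmetric bilinear form. -/
theorem form_identity {M N : Type*} [AddCommGroup M] [AddCommGroup N] (B : M →ₗ[ℤ] M →ₗ[ℤ] N)
    (hB : ∀ u v, B u v = B v u) (I : Fin 4 → Fin 4 → ℤ) (m : ℤ)
    (hI : ∀ j l, ∑ i, I i j * I i l = if j = l then m - 1 else 0) (y x : Fin 4 → M) :
    (∑ i, B (y i - ∑ j, I i j • x j) (y i - ∑ j, I i j • x j)) +
        (∑ i, ∑ j, (2 * I i j) • B (y i - ∑ l, I i l • x l) (x j)) + ∑ j, m • B (x j) (x j) =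
      ∑ i, B (y i) (y i) + ∑ j, B (x j) (x j) := by
  have h1 : ∀ i, B (y i - ∑ j, I i j • x j) (y i - ∑ j, I i j • x j) +
      ∑ j, (2 * I i j) • B (y i - ∑ l, I i l • x l) (x j) + B (∑ j, I i j • x j) (∑ j, I i j • x j) =
      B (y i) (y i) := fun i => by
    set a := y i - ∑ j, I i j • x j
    set u := ∑ j, I i j • x j with hu
    have h2 : ∑ j, (2 * I i j) • B a (x j) = B a u + B u a := by
      rw [hB u a, hu, map_sum, ← two_zsmul, Finset.smul_sum]
      exact Finset.sum_congr rfl fun j _ => by rw [map_zsmul, mul_smul]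
    have h3 : y i = a + u := (sub_add_cancel _ _).symm
    rw [h2, h3]
    simp only [map_add, LinearMap.add_apply]
    abel
  have h4 : ∑ i, B (∑ j, I i j • x j) (∑ j, I i j • x j) = ∑ j, (m - 1) • B (x j) (x j) := by
    simp only [map_sum, LinearMap.sum_apply, map_zsmul, LinearMap.smul_apply, Finset.smul_sum, smul_smul]
    rw [Finset.sum_comm]
    refine Finset.sum_congr rfl fun j _ => ?_
    rw [Finset.sum_comm]
    simp only [← Finset.sum_smul, hI, ite_smul, zero_smul]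
    rw [Finset.sum_ite_eq]
    simp
  rw [← Finset.sum_congr rfl (fun i _ => h1 i), Finset.sum_add_distrib, Finset.sum_add_distrib, h4]
  simp only [sub_smul, one_smul, Finset.sum_sub_distrib]
  abel

/-- The identity behind the trick, multiplicatively. -/
theorem form_identity_mul {G N : Type*} [CommGroup G] [CommGroup N] (P : G → G → N)
    (hl : ∀ u v w, P (u * v) w = P u w * P v w) (hs : ∀ u v, P u v = P v u) (I : Fin 4 → Fin 4 → ℤ) (d : ℕ)
    (hI : ∀ j l, ∑ i, I i j * I i l = if j = l then (d : ℤ) - 1 else 0) (y x : Fin 4 → G) :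
    (∏ i, P (y i / ∏ j, x j ^ I i j) (y i / ∏ j, x j ^ I i j)) *
        (∏ i, ∏ j, P (y i / ∏ l, x l ^ I i l) (x j) ^ (2 * I i j)) * ∏ j, P (x j) (x j) ^ d =
      (∏ i, P (y i) (y i)) * ∏ j, P (x j) (x j) := by
  let B₁ : Additive G → (Additive G →+ Additive N) := fun u =>
    AddMonoidHom.mk' (fun v => Additive.ofMul (P u.toMul v.toMul)) fun v w =>
      congrArg Additive.ofMul (show P u.toMul (v.toMul * w.toMul) = P u.toMul v.toMul * P u.toMul w.toMul by
        rw [hs, hl, hs u.toMul, hs u.toMul])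
  let B₂ : Additive G →+ (Additive G →ₗ[ℤ] Additive N) :=
    AddMonoidHom.mk' (fun u => (B₁ u).toIntLinearMap) fun u v => LinearMap.ext fun w =>
      congrArg Additive.ofMul (hl u.toMul v.toMul w.toMul)
  let B : Additive G →ₗ[ℤ] Additive G →ₗ[ℤ] Additive N := B₂.toIntLinearMap
  have key := congrArg Additive.toMul (form_identity B (fun u v => congrArg Additive.ofMul (hs _ _)) I d hI
    (fun i => Additive.ofMul (y i)) (fun i => Additive.ofMul (x i)))
  simpa [B, B₁, B₂, toMul_sum, toMul_zsmul, toMul_sub] using key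

/-- A quaternion matrix. -/
def quat (a b c d : ℤ) : Fin 4 → Fin 4 → ℤ := ![![a, -b, -c, -d], ![b, a, -d, c], ![c, d, a, -b], ![d, -c, b, a]]

theorem quat_orth (a b c d : ℤ) (j l : Fin 4) :
    ∑ i, quat a b c d i j * quat a b c d i l = if j = l then a ^ 2 + b ^ 2 + c ^ 2 + d ^ 2 else 0 := by
  fin_cases j <;> fin_cases l <;> simp [quat, Fin.sum_univ_four] <;> ring

section Cartesian

variable {k : Type u} [Field k]

/-- The fourth power. -/
abbrev P4 (Y : Over (Spec (CommRingCat.of k))) : Over (Spec (CommRingCat.of k)) := (Y ⊗ Y) ⊗ (Y ⊗ Y)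

/-- The projections of the fourth power. -/
def π4 (Y : Over (Spec (CommRingCat.of k))) : Fin 4 → (P4 Y ⟶ Y) :=
  ![fst _ _ ≫ fst _ _, fst _ _ ≫ snd _ _, snd _ _ ≫ fst _ _, snd _ _ ≫ snd _ _]

/-- A map to the fourth power. -/
def mk4 {T Y : Over (Spec (CommRingCat.of k))} (v : Fin 4 → (T ⟶ Y)) : T ⟶ P4 Y :=
  lift (lift (v 0) (v 1)) (lift (v 2) (v 3))

theorem mk4_π {T Y : Over (Spec (CommRingCat.of k))} (v : Fin 4 → (T ⟶ Y)) (i : Fin 4) : mk4 v ≫ π4 Y i = v i := by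
  fin_cases i <;> simp [mk4, π4]

theorem hom_ext4 {T Y : Over (Spec (CommRingCat.of k))} {f g : T ⟶ P4 Y} (h : ∀ i, f ≫ π4 Y i = g ≫ π4 Y i) :
    f = g := by
  have h0 := h 0
  have h1 := h 1
  have h2 := h 2
  have h3 := h 3
  simp only [π4, Matrix.cons_val_zero, Matrix.cons_val_one, Matrix.cons_val, Matrix.head_cons] at h0 h1 h2 h3
  apply CartesianMonoidalCategory.hom_ext <;> apply CartesianMonoidalCategory.hom_ext <;>
    simpa [Category.assoc]

theorem tensor_π4 {Y Y' : Over (Spec (CommRingCat.of k))} (f : Y ⟶ Y') (i : Fin 4) :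
    ((f ⊗ₘ f) ⊗ₘ (f ⊗ₘ f)) ≫ π4 Y' i = π4 Y i ≫ f := by
  fin_cases i <;> simp [π4, tensorHom_fst, tensorHom_snd, tensorHom_fst_assoc, tensorHom_snd_assoc]

/-- Precomposition as a homomorphism. -/
def pre {T T' Y : Over (Spec (CommRingCat.of k))} [GrpObj Y] (g : T' ⟶ T) : (T ⟶ Y) →* (T' ⟶ Y) :=
  MonoidHom.mk' (fun a => g ≫ a) fun a b => MonObj.comp_mul g a b

theorem pre_apply {T T' Y : Over (Spec (CommRingCat.of k))} [GrpObj Y] (g : T' ⟶ T) (a : T ⟶ Y) : pre g a = g ≫ a :=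
  rfl

variable {Y : Over (Spec (CommRingCat.of k))} [GrpObj Y] [IsCommMonObj Y]

/-- `(y, x) ↦ (y - I x, x)` on the square of the fourth power. -/
def shearMap (I : Fin 4 → Fin 4 → ℤ) : P4 Y ⊗ P4 Y ⟶ P4 Y ⊗ P4 Y :=
  lift (mk4 fun i => (fst _ _ ≫ π4 Y i) / ∏ j, (snd _ _ ≫ π4 Y j) ^ I i j) (snd _ _)

theorem shearMap_fst (I : Fin 4 → Fin 4 → ℤ) (i : Fin 4) :
    shearMap (Y := Y) I ≫ fst _ _ ≫ π4 Y i = (fst _ _ ≫ π4 Y i) / ∏ j, (snd _ _ ≫ π4 Y j) ^ I i j := by
  rw [shearMap, lift_fst_assoc, mk4_π]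

@[reassoc]
theorem shearMap_snd (I : Fin 4 → Fin 4 → ℤ) : shearMap (Y := Y) I ≫ snd _ _ = snd _ _ := lift_snd _ _

theorem shearMap_comp (I J' : Fin 4 → Fin 4 → ℤ) (h : ∀ i j, I i j + J' i j = 0) :
    shearMap (Y := Y) I ≫ shearMap J' = 𝟙 _ := by
  apply CartesianMonoidalCategory.hom_ext
  · refine hom_ext4 fun i => ?_
    rw [Category.assoc, Category.assoc, shearMap_fst, Category.id_comp, ← pre_apply, map_div, map_prod]
    simp only [map_zpow, pre_apply, shearMap_fst, shearMap_snd_assoc]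
    rw [div_div, ← Finset.prod_mul_distrib, Finset.prod_eq_one (fun j _ => by rw [← zpow_add, h, zpow_zero]), div_one]
  · rw [Category.assoc, shearMap_snd, shearMap_snd, Category.id_comp]

/-- The shear as an isomorphism. -/
def shear (I : Fin 4 → Fin 4 → ℤ) : P4 Y ⊗ P4 Y ≅ P4 Y ⊗ P4 Y where
  hom := shearMap I
  inv := shearMap (fun i j => -I i j)
  hom_inv_id := shearMap_comp _ _ fun i j => by omega
  inv_hom_id := shearMap_comp _ _ fun i j => by omega

end Cartesian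

variable {k : Type u} [Field k]

attribute [local instance] overHom isProper_tensor gi_tensor

/-- A symmetric ample class. -/
theorem exists_symm_ample {Y : Over (Spec (CommRingCat.of k))} [GrpObj Y] [IsProper Y.hom]
    [GeometricallyIntegral Y.hom] {L : Y.left.Modules} (hL : CohB1.IsAmple L) :
    ∃ c : U Y, Amp c ∧ pb (𝟙 Y)⁻¹ c = c := by
  haveI : IsCommMonObj Y := isCommMonObj_of_isProper_of_geometricallyIntegral Y
  let c₀ : U Y := unitOf hL.1
  let ν : Y ⟶ Y := (𝟙 Y)⁻¹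
  have hνν : ν ≫ ν = 𝟙 Y := by
    simp only [ν, GrpObj.comp_inv, Category.comp_id, inv_inv]
  haveI : IsIso ν := ⟨ν, hνν, hνν⟩
  haveI : IsIso ν.left := (Over.forget _).map_isIso ν
  have hν : CohB1.IsAmple ((Scheme.Modules.pullback ν.left).obj L) :=
    AmpleDev.isAmple_pullback_finite k ν.left hL
  refine ⟨c₀ * pb ν c₀, ⟨_, ?_, AmpleX.isAmple_of_iso (Iso.refl _)
    ((AmpleX.isRelAmple_iff_isAmple Y.hom _).1 (AmpleX.isRelAmple_tensor ((AmpleX.isRelAmple_iff_isAmple Y.hom L).2 hL)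
      ((AmpleX.isRelAmple_iff_isAmple Y.hom _).2 hν)))⟩, ?_⟩
  · rw [H23.PicMul.cl_tensor]
    rfl
  · rw [map_mul, pb_pb, hνν, pb_id, mul_comm]

theorem pair_self_symm {Y T : Over (Spec (CommRingCat.of k))} [GrpObj Y] [IsProper Y.hom]
    [GeometricallyIntegral Y.hom] {c : U Y} (hc : Inv c) (hs : pb (𝟙 Y)⁻¹ c = c) (u : T ⟶ Y) :
    AVRosati.pair c u u = pb u (c * c) := by
  have h : u⁻¹ = u ≫ (𝟙 Y)⁻¹ := by rw [GrpObj.comp_inv, Category.comp_id]
  rw [pair_self hc, map_mul, h, ← pb_pb, hs]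

theorem box4 {Y : Over (Spec (CommRingCat.of k))} (b : U Y) : box (box b b) (box b b) = ∏ i, pb (π4 Y i) b := by
  simp [box, π4, Fin.prod_univ_four, pb_pb, map_mul, mul_assoc]

/-- Zarhin's trick. -/
theorem zarhin {Y : Over (Spec (CommRingCat.of k))} [GrpObj Y] [IsProper Y.hom] [GeometricallyIntegral Y.hom]
    {g : ℕ} (hg : topologicalKrullDim Y.left = g) {L : Y.left.Modules} (hL : CohB1.IsAmple L) :
    ∃ (Q : Over (Spec (CommRingCat.of k))) (_ : GrpObj Q) (_ : IsProper Q.hom) (_ : GeometricallyIntegral Q.hom)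
      (q : Y ⟶ Q) (mu : Q ⟶ Y) (d : ℕ) (C : U (P4 Y ⊗ P4 Q)),
      topologicalKrullDim Q.left = g ∧ IsMonHom q ∧ IsMonHom mu ∧ 1 ≤ d ∧ q ≫ mu = 𝟙 Y ^ d ∧ mu ≫ q = 𝟙 Q ^ d ∧ Amp C ∧ χU C = 2 ^ (8 * g) := by
  haveI : IsCommMonObj Y := isCommMonObj_of_isProper_of_geometricallyIntegral Y
  obtain ⟨c, ⟨Lc, hLc, hLca⟩, hs⟩ := exists_symm_ample hL
  have hci : Inv c := ⟨Lc, hLc, hLca.1⟩
  obtain ⟨Q, sQ, hQp, hQg, q, hq, P, d, hcov, hqs, hP, hd, hchar⟩ := exists_dual hLca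
  letI := sQ
  haveI := hQp
  haveI := hQg
  haveI := hq
  haveI := hqs
  haveI : IsCommMonObj Q := isCommMonObj_of_isProper_of_geometricallyIntegral Q
  haveI : Smooth Y.hom := S7795.result Y
  haveI : Smooth Q.hom := S7795.result Q
  haveI : GeometricallyConnected Y.hom := H23.CubeAb.geometricallyConnected_of_integral Y.hom
  haveI : GeometricallyConnected Q.hom := H23.CubeAb.geometricallyConnected_of_integral Q.hom
  haveI : GeometricallyReduced Y.hom := H23.RigidGamma.geometricallyReduced_of_smooth Y.hom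
  haveI : GeometricallyReduced Q.hom := H23.RigidGamma.geometricallyReduced_of_smooth Q.hom
  obtain ⟨⟨hfin, hflat, hlfp⟩, hdeg⟩ := id hcov
  haveI := hfin
  haveI := hflat
  haveI : Nonempty ↥Y.left := ⟨η[Y].left (IsLocalRing.closedPoint k)⟩
  have hd1 : 1 ≤ d := by
    rw [← hdeg (q.left (Classical.arbitrary _))]
    exact Scheme.Hom.one_le_finrank_map q.left _
  obtain ⟨⟨mu, ⟨hμ, hqμ⟩, -⟩, hall⟩ := S7790.result Y Q q d hd1 fun s => hdeg _
  obtain ⟨hμq, -⟩ := hall mu hμ hqμ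
  haveI := hμ
  haveI : IsLocallyNoetherian Y.left := LocallyOfFiniteType.isLocallyNoetherian Y.hom
  haveI : IsLocallyNoetherian Q.left := LocallyOfFiniteType.isLocallyNoetherian Q.hom
  have hdimQ : topologicalKrullDim Q.left = g := ((S4717.result q.left).2 q.left.surjective).symm.trans hg
  -- the matrix
  obtain ⟨a₁, a₂, a₃, a₄, hsq⟩ := Nat.sum_four_squares (d - 1)
  let I := quat (a₁ : ℤ) a₂ a₃ a₄
  have hI : ∀ j l, ∑ i, I i j * I i l = if j = l then ((d : ℤ) - 1) else 0 := fun j l => by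
    refine (quat_orth _ _ _ _ j l).trans (if_congr Iff.rfl ?_ rfl)
    rw [show (d : ℤ) - 1 = ((d - 1 : ℕ) : ℤ) by omega, ← hsq]
    push_cast
    ring
  let Pu : U (Y ⊗ Q) := unitOf (A := Y ⊗ Q) hP
  have hpair : ∀ {T : Over (Spec (CommRingCat.of k))} (a b : T ⟶ Y), pb (lift a (b ≫ q)) Pu = AVRosati.pair c a b := by
    intro T a b
    rw [AVRosati.pair, eq_div_iff_mul_eq', ← mul_assoc]
    refine Units.ext ?_
    have h := hchar a b
    rw [hLc] at h
    exact h
  -- the class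
  let Z := P4 Y ⊗ P4 Q
  let a : Fin 4 → (Z ⟶ Y) := fun i => fst _ _ ≫ π4 Y i
  let b : Fin 4 → (Z ⟶ Q) := fun j => snd _ _ ≫ π4 Q j
  let C : U Z := (∏ i, AVRosati.pair c (a i) (a i)) * (∏ i, ∏ j, pb (lift (a i) (b j)) Pu ^ (2 * I i j)) *
    ∏ j, pb (lift (b j ≫ mu) (b j)) Pu
  have hCi : Inv C := by
    have hprod : ∀ {K : Type} (s : Finset K) (f : K → U Z), (∀ i ∈ s, Inv (f i)) → Inv (∏ i ∈ s, f i) := by
      intro K s f hf
      refine Finset.prod_induction f Inv (fun _ _ => inv_mul') ?_ hf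
      exact ⟨_, rfl, CurveDeg.isInvertible_structureModule⟩
    refine inv_mul' (inv_mul' (hprod _ _ fun i _ => inv_pair hci _ _) (hprod _ _ fun i _ => hprod _ _ fun j _ => ?_))
      (hprod _ _ fun j _ => inv_pb _ (inv_unitOf (A := Y ⊗ Q) hP))
    exact AVDegPoly.isInvertibleCl_zpow _ (inv_pb _ (inv_unitOf (A := Y ⊗ Q) hP)) _
  let q4 : P4 Y ⟶ P4 Q := (q ⊗ₘ q) ⊗ₘ (q ⊗ₘ q)
  haveI : IsCommMonObj (P4 Y) := isCommMonObj_of_isProper_of_geometricallyIntegral (P4 Y)
  let ψ : P4 Y ⊗ P4 Y ⟶ Z := (shear (Y := Y) I).hom ≫ (P4 Y ◁ q4)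
  let y : Fin 4 → (P4 Y ⊗ P4 Y ⟶ Y) := fun i => fst _ _ ≫ π4 Y i
  let x : Fin 4 → (P4 Y ⊗ P4 Y ⟶ Y) := fun i => snd _ _ ≫ π4 Y i
  have hψa : ∀ i, ψ ≫ a i = y i / ∏ j, x j ^ I i j := fun i => by
    show (shearMap I ≫ (P4 Y ◁ q4)) ≫ fst _ _ ≫ π4 Y i = _
    rw [Category.assoc, whiskerLeft_fst_assoc]
    exact shearMap_fst I i
  have hψb : ∀ j, ψ ≫ b j = x j ≫ q := fun j => by
    show (shearMap I ≫ (P4 Y ◁ q4)) ≫ snd _ _ ≫ π4 Q j = _
    rw [Category.assoc, whiskerLeft_snd_assoc, tensor_π4, ← Category.assoc, shearMap_snd]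
    exact (Category.assoc _ _ _).symm
  have hψC : pb ψ C = box (box (box (c * c) (c * c)) (box (c * c) (c * c))) (box (box (c * c) (c * c)) (box (c * c) (c * c))) := by
    have key := form_identity_mul (fun u v : P4 Y ⊗ P4 Y ⟶ Y => AVRosati.pair c u v)
      (fun u v w => pair_mul_left hci u v w) (fun u v => pair_comm c u v) I d hI y x
    have e1 : ∀ i, pb ψ (AVRosati.pair c (a i) (a i)) =
        AVRosati.pair c (y i / ∏ j, x j ^ I i j) (y i / ∏ j, x j ^ I i j) := fun i => by rw [pb_pair, hψa]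
    have e2 : ∀ i j, pb ψ (pb (lift (a i) (b j)) Pu) = AVRosati.pair c (y i / ∏ l, x l ^ I i l) (x j) := fun i j => by
      rw [pb_pb, comp_lift, hψa, hψb, hpair]
    have e3 : ∀ j, pb ψ (pb (lift (b j ≫ mu) (b j)) Pu) = AVRosati.pair c (x j) (x j) ^ d := fun j => by
      have h : ψ ≫ b j ≫ mu = x j ^ d := by
        rw [← Category.assoc, hψb, Category.assoc, hqμ, MonObj.comp_pow, Category.comp_id]
      rw [pb_pb, comp_lift, h, hψb, hpair, ← zpow_natCast, pair_pow_left hci, zpow_natCast]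
    simp only [C, map_mul, map_prod, map_zpow, e1, e2, e3]
    refine key.trans ?_
    rw [box, box4, map_prod, map_prod]
    simp only [pair_self_symm hci hs, pb_pb, map_mul]
    rfl
  have hc2 : Amp (c * c) := by
    obtain ⟨L2, h2⟩ : ∃ L2, L2 = CohB1.tensorPow Lc 2 := ⟨_, rfl⟩
    exact ⟨L2, by rw [h2, H23.PicMul.cl_tensorPow, hLc, pow_two]; rfl, h2 ▸ AmpleX.isAmple_tensorPow hLca two_pos⟩
  have hχc2 : χU (c * c) = 2 ^ g * χU c := by
    have h := AVEuler.euler_tensorPow Y hg hLca.1 2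
    rw [← AVEuler.chi_cl, ← AVEuler.chi_cl, H23.PicMul.cl_tensorPow, hLc, pow_two] at h
    exact h.trans (by push_cast; ring)
  have hb4 : Amp (box (box (c * c) (c * c)) (box (c * c) (c * c))) := (hc2.box hc2).box (hc2.box hc2)
  have hq : Deg q d := Deg.of_cover hcov
  have hq4 : Deg q4 ((d * d) * (d * d)) := (hq.tensor hq).tensor (hq.tensor hq)
  have hχψ : χU (pb ψ C) = ((d * d * (d * d) : ℕ) : ℤ) * χU C := by
    haveI : IsIso (shear (Y := Y) I).hom.left := (Over.forget _).map_isIso (shear (Y := Y) I).hom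
    show χU (pb ((shear (Y := Y) I).hom ≫ (P4 Y ◁ q4)) C) = _
    rw [← pb_pb, χU_iso _ (inv_pb _ hCi), hq4.chi (P4 Y) C hCi]
  haveI : IsFinite ψ.left := by
    haveI := hq4.finite (P4 Y)
    haveI : IsIso (shear (Y := Y) I).hom.left := (Over.forget _).map_isIso (shear (Y := Y) I).hom
    show IsFinite ((shear (Y := Y) I).hom.left ≫ (P4 Y ◁ q4).left)
    infer_instance
  haveI : Surjective ψ.left := by
    haveI := hq4.surj (P4 Y)
    haveI : IsIso (shear (Y := Y) I).hom.left := (Over.forget _).map_isIso (shear (Y := Y) I).hom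
    show Surjective ((shear (Y := Y) I).hom.left ≫ (P4 Y ◁ q4).left)
    infer_instance
  have hCamp : Amp C := by
    obtain ⟨M, hM, hMi⟩ := id hCi
    obtain ⟨L', hL', hL'a⟩ := hb4.box hb4
    refine ⟨M, hM, AmpleDev.isAmple_of_pullback_finite k ψ.left hMi (AmpleX.isAmple_of_iso ?_ hL'a)⟩
    refine (H23.PicMul.cl_eq_iff.1 ?_).some
    show PicF.cl L' = PicF.pullCl ψ.left (PicF.cl M)
    rw [hL', ← hψC, hM]
    rfl
  refine ⟨Q, sQ, hQp, hQg, q, mu, d, C, hdimQ, inferInstance, hμ, hd1, hqμ, hμq, hCamp, ?_⟩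
  have e2 : χU (box (c * c) (c * c)) = χU (c * c) * χU (c * c) := χU_box Y Y hc2.inv hc2
  have e4 : χU (box (box (c * c) (c * c)) (box (c * c) (c * c))) = (χU (c * c) * χU (c * c)) * (χU (c * c) * χU (c * c)) := by
    rw [χU_box (Y ⊗ Y) (Y ⊗ Y) (hc2.box hc2).inv (hc2.box hc2), e2]
  have hd' : (d : ℤ) = χU c ^ 2 := by
    rw [hd, ← AVEuler.chi_cl, hLc]
  rw [hψC, χU_box (P4 Y) (P4 Y) hb4.inv hb4, e4, hχc2] at hχψ
  push_cast at hχψ
  rw [hd'] at hχψ
  have hne : χU c ^ 8 ≠ 0 := pow_ne_zero _ (by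
    rw [χU, ← hLc, AVEuler.chi_cl, euler_eq_h0 Y hLca]
    exact_mod_cast (h0_pos Y hLca).ne')
  refine mul_left_cancel₀ hne ?_
  rw [show (2 : ℤ) ^ (8 * g) = ((2 : ℤ) ^ g) ^ 8 by rw [← pow_mul, mul_comm g 8]]
  linear_combination -hχψ

end Groth.Agent.AVFin

end
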